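import Cfsg.Agent.H49.A7Spec

/-! A7 tower, job LA: eigenvalue lemmas for `a x a⁻¹ = x²`, with corollaries. -/

set_option autoImplicit false

namespace H13.A7

open Matrix Polynomial

section Ev

variable {K : Type*} [Field K] {m : Type*} [Fintype m] [DecidableEq m]

/-- `z` is an eigenvalue of the matrix `M`. -/
def Ev (M : Matrix m m K) (z : K) : Prop := ∃ v : m → K, v ≠ 0 ∧ M *ᵥ v = z • v

theorem ev_iff (M : Matrix m m K) (z : K) : Ev M z ↔ z ∈ M.charpoly.roots := by
  rw [mem_roots M.charpoly_monic.ne_zero, IsRoot.def, Matrix.eval_charpoly,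
    ← Matrix.exists_mulVec_eq_zero_iff]
  refine exists_congr fun v => and_congr_right fun _ => ?_
  rw [Matrix.sub_mulVec, sub_eq_zero, Matrix.scalar_apply, Matrix.diagonal_const_mulVec]
  exact eq_comm

theorem pow_mulVec {M : Matrix m m K} {z : K} {v : m → K} (h : M *ᵥ v = z • v) (k : ℕ) :
    (M ^ k) *ᵥ v = z ^ k • v := by
  induction k with
  | zero => simp
  | succ k ih => rw [pow_succ, ← Matrix.mulVec_mulVec, h, Matrix.mulVec_smul, ih, smul_smul,
      pow_succ']

theorem Ev.pow_eq_one {M : Matrix m m K} {z : K} (h : Ev M z) {p : ℕ} (hp : M ^ p = 1) :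
    z ^ p = 1 := by
  obtain ⟨v, hv, h⟩ := h
  have := pow_mulVec h p
  rw [hp, Matrix.one_mulVec] at this
  have h2 : (z ^ p - 1) • v = 0 := by rw [sub_smul, one_smul, ← this, sub_self]
  rcases smul_eq_zero.1 h2 with h3 | h3
  · exact sub_eq_zero.1 h3
  · exact absurd h3 hv

theorem inv_mulVec_ne (a : GL m K) {v : m → K} (hv : v ≠ 0) : (a⁻¹).val *ᵥ v ≠ 0 := by
  intro h
  apply hv
  have : a.val *ᵥ ((a⁻¹).val *ᵥ v) = v := by
    rw [Matrix.mulVec_mulVec, ← Units.val_mul, mul_inv_cancel, Units.val_one, Matrix.one_mulVec]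
  rw [← this, h, Matrix.mulVec_zero]

theorem vec_sq {x a : GL m K} (h : a * x * a⁻¹ = x ^ 2) {z : K} {v : m → K}
    (hv : x.val *ᵥ v = z • v) : x.val *ᵥ ((a⁻¹).val *ᵥ v) = z ^ 2 • ((a⁻¹).val *ᵥ v) := by
  have e : x * a⁻¹ = a⁻¹ * x ^ 2 := by rw [← h]; group
  rw [Matrix.mulVec_mulVec, ← Units.val_mul, e, Units.val_mul, ← Matrix.mulVec_mulVec,
    Units.val_pow_eq_pow_val, pow_mulVec hv, Matrix.mulVec_smul]

theorem Ev.sq {x a : GL m K} (h : a * x * a⁻¹ = x ^ 2) {z : K} (hz : Ev x.val z) :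
    Ev x.val (z ^ 2) := by
  obtain ⟨v, hv, hz⟩ := hz
  exact ⟨_, inv_mulVec_ne a hv, vec_sq h hz⟩

theorem Ev.inv {x : GL m K} {z : K} (hz : Ev x.val z) : Ev (x⁻¹).val z⁻¹ := by
  obtain ⟨v, hv, hz⟩ := hz
  have e : (x⁻¹).val *ᵥ (x.val *ᵥ v) = v := by
    rw [Matrix.mulVec_mulVec, ← Units.val_mul, inv_mul_cancel, Units.val_one, Matrix.one_mulVec]
  rw [hz, Matrix.mulVec_smul] at e
  have hz0 : z ≠ 0 := by
    rintro rfl
    rw [zero_smul] at e
    exact hv e.symm
  refine ⟨v, hv, ?_⟩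
  conv_rhs => rw [← e]
  rw [smul_smul, inv_mul_cancel₀ hz0, one_smul]

theorem exists_ev_ne_one [IsAlgClosed K] {M : Matrix m m K} {p : ℕ} (hp : (p : K) ≠ 0)
    (hM : M ^ p = 1) (h1 : M ≠ 1) : ∃ z, z ≠ 1 ∧ Ev M z := by
  by_contra hc
  push Not at hc
  apply h1
  have hr : M.charpoly.roots = Multiset.replicate M.charpoly.roots.card 1 := by
    rw [Multiset.eq_replicate]
    refine ⟨rfl, fun z hz => ?_⟩
    by_contra hz1
    exact hc z hz1 ((ev_iff M z).2 hz)
  have hs := (IsAlgClosed.splits M.charpoly).eq_prod_roots_of_monic M.charpoly_monic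
  rw [hr, Multiset.map_replicate, Multiset.prod_replicate] at hs
  have d1 : minpoly K M ∣ (X - C 1) ^ (M.charpoly.roots.card + 1) := by
    have := Matrix.minpoly_dvd_charpoly M
    rw [hs] at this
    exact this.trans (pow_dvd_pow _ (Nat.le_succ _))
  have d2 : minpoly K M ∣ (X ^ p - 1 : K[X]) := by
    apply minpoly.dvd
    simp [hM]
  have sq : Squarefree (minpoly K M) :=
    ((X_pow_sub_one_separable_iff.2 hp).squarefree).squarefree_of_dvd d2
  have d3 : minpoly K M ∣ (X - C 1) := (sq.dvd_pow_iff_dvd (Nat.succ_ne_zero _)).1 d1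
  have := aeval_eq_zero_of_dvd_aeval_eq_zero d3 (minpoly.aeval K M)
  simpa [sub_eq_zero] using this

theorem card_roots_le (M : Matrix m m K) {S : Finset K} (h : ∀ z ∈ S, Ev M z) :
    S.card ≤ Fintype.card m := by
  rw [← M.charpoly_natDegree_eq_dim]
  exact card_le_degree_of_subset_roots fun z hz => (ev_iff M z).1 (h z hz)

/-- The powers `z ^ i`, `i ∈ I`, of an element of prime order. -/
theorem card_pows {z : K} {p : ℕ} (hp : p.Prime) (hz : z ^ p = 1) (h1 : z ≠ 1) (I : Finset ℕ)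
    (hI : ∀ i ∈ I, i < p) [DecidableEq K] : (I.image (z ^ ·)).card = I.card := by
  haveI := Fact.mk hp
  have ho : orderOf z = p := orderOf_eq_prime hz h1
  apply Finset.card_image_of_injOn
  intro i hi j hj hij
  exact pow_injOn_Iio_orderOf (by simpa [ho] using hI i hi) (by simpa [ho] using hI j hj) hij

theorem ev5 {x a : GL m K} (h : a * x * a⁻¹ = x ^ 2) (h5 : x ^ 5 = 1) {z : K} (hz : Ev x.val z) :
    ∀ i ∈ ({1, 2, 3, 4} : Finset ℕ), Ev x.val (z ^ i) := by
  have h5' : z ^ 5 = 1 := hz.pow_eq_one (by rw [← Units.val_pow_eq_pow_val, h5, Units.val_one])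
  have e2 := hz.sq h
  have e4 := e2.sq h
  have e8 := e4.sq h
  have q8 : ((z ^ 2) ^ 2) ^ 2 = z ^ 3 := by
    calc ((z ^ 2) ^ 2) ^ 2 = z ^ 5 * z ^ 3 := by ring
      _ = z ^ 3 := by rw [h5', one_mul]
  rw [q8] at e8
  rw [← pow_mul] at e4
  intro i hi
  simp only [Finset.mem_insert, Finset.mem_singleton] at hi
  rcases hi with rfl | rfl | rfl | rfl
  · simpa using hz
  · exact e2
  · exact e8
  · exact e4

theorem ev7 {x a : GL m K} (h : a * x * a⁻¹ = x ^ 2) {z : K} (hz : Ev x.val z) :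
    ∀ i ∈ ({1, 2, 4} : Finset ℕ), Ev x.val (z ^ i) := by
  have e2 := hz.sq h
  have e4 := e2.sq h
  rw [← pow_mul] at e4
  intro i hi
  simp only [Finset.mem_insert, Finset.mem_singleton] at hi
  rcases hi with rfl | rfl | rfl
  · simpa using hz
  · exact e2
  · exact e4

theorem ev7' {x a : GL m K} (h : a * x * a⁻¹ = x ^ 2) (h7 : x ^ 7 = 1)
    (hc : x.val.charpoly = (x⁻¹).val.charpoly) {z : K} (hz : Ev x.val z) :
    ∀ i ∈ ({1, 2, 3, 4, 5, 6} : Finset ℕ), Ev x.val (z ^ i) := by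
  have h7' : z ^ 7 = 1 := hz.pow_eq_one (by rw [← Units.val_pow_eq_pow_val, h7, Units.val_one])
  have hi : Ev x.val (z ^ 6) := by
    have := hz.inv
    rw [ev_iff, ← hc, ← ev_iff] at this
    have e : z⁻¹ = z ^ 6 := by
      apply inv_eq_of_mul_eq_one_right
      rw [← pow_succ', h7']
    rwa [e] at this
  have a1 := ev7 h hz
  have a2 := ev7 h hi
  have q5 : (z ^ 6) ^ 2 = z ^ 5 := by
    calc (z ^ 6) ^ 2 = z ^ 7 * z ^ 5 := by ring
      _ = z ^ 5 := by rw [h7', one_mul]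
  have q3 : (z ^ 6) ^ 4 = z ^ 3 := by
    calc (z ^ 6) ^ 4 = (z ^ 7) ^ 3 * z ^ 3 := by ring
      _ = z ^ 3 := by rw [h7', one_pow, one_mul]
  intro i hi'
  simp only [Finset.mem_insert, Finset.mem_singleton] at hi'
  rcases hi' with rfl | rfl | rfl | rfl | rfl | rfl
  · exact a1 1 (by simp)
  · exact a1 2 (by simp)
  · rw [← q3]; exact a2 4 (by simp)
  · exact a1 4 (by simp)
  · rw [← q5]; exact a2 2 (by simp)
  · exact hi

/-- From a family of eigenvalues `z ^ i` to a bound on the dimension. -/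
theorem le_of_ev [IsAlgClosed K] {x : GL m K} {p : ℕ} (hp : p.Prime) (hp0 : (p : K) ≠ 0)
    (hx : x ^ p = 1) (h1 : x ≠ 1) (I : Finset ℕ) (hI : ∀ i ∈ I, i < p)
    (hev : ∀ z, Ev x.val z → ∀ i ∈ I, Ev x.val (z ^ i)) : I.card ≤ Fintype.card m := by
  classical
  have hx' : x.val ^ p = 1 := by rw [← Units.val_pow_eq_pow_val, hx, Units.val_one]
  obtain ⟨z, hz1, hz⟩ := exists_ev_ne_one hp0 hx' (fun e => h1 (Units.ext e))
  rw [← card_pows hp (hz.pow_eq_one hx') hz1 I hI]
  apply card_roots_le x.val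
  intro w hw
  obtain ⟨i, hi, rfl⟩ := Finset.mem_image.1 hw
  exact hev z hz i hi

theorem det_eq_one {x a : GL m K} (h : a * x * a⁻¹ = x ^ 2) : x.val.det = 1 := by
  have e : Matrix.GeneralLinearGroup.det x = Matrix.GeneralLinearGroup.det x ^ 2 := by
    rw [← map_pow, ← h, map_mul, map_mul, map_inv, mul_inv_cancel_comm]
  have e1 : Matrix.GeneralLinearGroup.det x = 1 := by
    rw [sq] at e
    exact (mul_eq_left.1 e.symm)
  simpa using congrArg Units.val e1

/-- The characteristic polynomial has simple roots when the dimension is small. -/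
theorem nodup_of [IsAlgClosed K] {x : GL m K} {p : ℕ} (hp : p.Prime) (hp0 : (p : K) ≠ 0)
    (hx : x ^ p = 1) (h1 : x ≠ 1) (hd : x.val.det = 1) (I : Finset ℕ) (hI : ∀ i ∈ I, i < p)
    (h0 : 0 ∉ I) (hs : p ∣ ∑ i ∈ I, i)
    (hev : ∀ z, Ev x.val z → ∀ i ∈ I, Ev x.val (z ^ i)) (hn : Fintype.card m ≤ I.card + 1) :
    x.val.charpoly.roots.Nodup := by
  classical
  have hx' : x.val ^ p = 1 := by rw [← Units.val_pow_eq_pow_val, hx, Units.val_one]
  obtain ⟨z, hz1, hz⟩ := exists_ev_ne_one hp0 hx' (fun e => h1 (Units.ext e))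
  have hzp := hz.pow_eq_one hx'
  have hc := card_pows hp hzp hz1 I hI
  have hc' := card_pows hp hzp hz1 (insert 0 I) (by
    intro i hi
    rcases Finset.mem_insert.1 hi with rfl | hi
    · exact hp.pos
    · exact hI i hi)
  rw [Finset.image_insert, pow_zero, Finset.card_insert_of_notMem h0] at hc'
  set S := I.image (z ^ ·) with hS
  have h1S : (1 : K) ∉ S := by
    intro h
    rw [Finset.insert_eq_of_mem h] at hc'
    omega
  have hle : S.val ≤ x.val.charpoly.roots := by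
    rw [Multiset.le_iff_subset S.nodup]
    intro w hw
    obtain ⟨i, hi, rfl⟩ := Finset.mem_image.1 hw
    exact (ev_iff _ _).1 (hev z hz i hi)
  obtain ⟨T, hT⟩ := Multiset.le_iff_exists_add.1 hle
  have hcard : x.val.charpoly.roots.card = Fintype.card m := by
    rw [← (IsAlgClosed.splits x.val.charpoly).natDegree_eq_card_roots, charpoly_natDegree_eq_dim]
  have hSc : S.val.card = I.card := hc
  have hTc : T.card ≤ 1 := by
    rw [hT, Multiset.card_add, hSc] at hcard
    omega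
  have hSp : S.val.prod = 1 := by
    have : S.val.prod = ∏ w ∈ S, w := by simp
    rw [this, hS, Finset.prod_image (Finset.injOn_of_card_image_eq hc),
      Finset.prod_pow_eq_pow_sum]
    obtain ⟨c, hc⟩ := hs
    rw [hc, pow_mul, hzp, one_pow]
  rw [hT]
  rcases Nat.le_one_iff_eq_zero_or_eq_one.1 hTc with h | h
  · rw [Multiset.card_eq_zero.1 h, add_zero]
    exact S.nodup
  · obtain ⟨w, rfl⟩ := Multiset.card_eq_one.1 h
    have hw : w = 1 := by
      have := Matrix.det_eq_prod_roots_charpoly x.val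
      rw [hd, hT, Multiset.prod_add, hSp, one_mul, Multiset.prod_singleton] at this
      exact this.symm
    subst hw
    rw [add_comm, Multiset.singleton_add, Multiset.nodup_cons]
    exact ⟨h1S, S.nodup⟩

/-- A nilpotent matrix commuting with a matrix with simple eigenvalues vanishes. -/
theorem nil_eq_zero [IsAlgClosed K] {M N : Matrix m m K} (hM : M.charpoly.roots.Nodup)
    (hN : IsNilpotent N) (hc : M * N = N * M) : N = 0 := by
  classical
  have hcomm : Commute (Matrix.toLin' M) (Matrix.toLin' N) := by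
    show Matrix.toLin' M * Matrix.toLin' N = Matrix.toLin' N * Matrix.toLin' M
    rw [Module.End.mul_eq_comp, Module.End.mul_eq_comp, ← Matrix.toLin'_mul, ← Matrix.toLin'_mul,
      hc]
  have htop := Module.End.iSup_maxGenEigenspace_eq_top (Matrix.toLin' M : Module.End K (m → K))
  have hle : ∀ μ, Module.End.maxGenEigenspace (Matrix.toLin' M : Module.End K (m → K)) μ ≤
      LinearMap.ker (Matrix.toLin' N) := by
    intro μ v hv
    have hr : Module.finrank K
        (Module.End.maxGenEigenspace (Matrix.toLin' M : Module.End K (m → K)) μ) ≤ 1 := by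
      rw [LinearMap.finrank_maxGenEigenspace_eq, Matrix.charpoly_toLin', ← count_roots]
      exact Multiset.nodup_iff_count_le_one.1 hM μ
    have hNv := Module.End.mapsTo_maxGenEigenspace_of_comm hcomm μ hv
    by_cases hv0 : v = 0
    · simp [hv0]
    obtain ⟨u, hu⟩ := finrank_le_one_iff.1 hr
    obtain ⟨c, hc1⟩ := hu ⟨v, hv⟩
    obtain ⟨d, hd1⟩ := hu ⟨_, hNv⟩
    have hc2 : c • (u : m → K) = v := congrArg Subtype.val hc1
    have hd2 : d • (u : m → K) = N *ᵥ v := congrArg Subtype.val hd1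
    have hc0 : c ≠ 0 := by
      rintro rfl
      rw [zero_smul] at hc2
      exact hv0 hc2.symm
    have he : N *ᵥ v = (d * c⁻¹) • v := by
      rw [← hd2, ← hc2, smul_smul, mul_assoc, inv_mul_cancel₀ hc0, mul_one]
    obtain ⟨k, hk⟩ := hN
    have := pow_mulVec he k
    rw [hk, Matrix.zero_mulVec] at this
    rcases smul_eq_zero.1 this.symm with h | h
    · rw [LinearMap.mem_ker, Matrix.toLin'_apply, he, pow_eq_zero_iff'.1 h |>.1, zero_smul]
    · exact absurd h hv0
  have : LinearMap.ker (Matrix.toLin' N) = ⊤ := by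
    rw [eq_top_iff, ← htop]
    exact iSup_le hle
  rw [LinearMap.ker_eq_top] at this
  exact Matrix.toLin'.map_eq_zero_iff.1 this

end Ev

section Base

variable {F : Type*} [Field F] {m : Type*} [Fintype m] [DecidableEq m]

/-- Extension of scalars to the algebraic closure. -/
noncomputable abbrev up (m : Type*) [Fintype m] [DecidableEq m] (F : Type*) [Field F] :
    GL m F →* GL m (AlgebraicClosure F) :=
  Matrix.GeneralLinearGroup.map (algebraMap F (AlgebraicClosure F))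

theorem up_val (x : GL m F) :
    (up m F x).val = x.val.map (algebraMap F (AlgebraicClosure F)) := rfl

theorem map_inj {M N : Matrix m m F} (h : M.map (algebraMap F (AlgebraicClosure F)) =
    N.map (algebraMap F (AlgebraicClosure F))) : M = N :=
  Matrix.map_injective (algebraMap F (AlgebraicClosure F)).injective h

theorem up_inj : Function.Injective (up m F) := fun _ _ h =>
  Units.ext (map_inj (congrArg Units.val h))

theorem up_ne {x : GL m F} (h : x ≠ 1) : up m F x ≠ 1 := fun e =>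
  h (up_inj (e.trans (map_one _).symm))

theorem up_rel {x a : GL m F} (h : a * x * a⁻¹ = x ^ 2) :
    up m F a * up m F x * (up m F a)⁻¹ = up m F x ^ 2 := by
  rw [← map_inv, ← map_mul, ← map_mul, h, map_pow]

theorem up_pow {x : GL m F} {p : ℕ} (h : x ^ p = 1) : up m F x ^ p = 1 := by
  rw [← map_pow, h, map_one]

theorem cast_ne {p : ℕ} (h : (p : F) ≠ 0) : (p : AlgebraicClosure F) ≠ 0 := by
  rw [← map_natCast (algebraMap F (AlgebraicClosure F))]
  exact (_root_.map_ne_zero _).2 h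

theorem la5 {x a : GL m F} (h1 : x ≠ 1) (h : a * x * a⁻¹ = x ^ 2) (h5 : x ^ 5 = 1)
    (hc : (5 : F) ≠ 0) : 4 ≤ Fintype.card m :=
  le_of_ev (by norm_num : Nat.Prime 5) (cast_ne (p := 5) (by exact_mod_cast hc)) (up_pow h5)
    (up_ne h1) {1, 2, 3, 4} (by decide) fun _ hz => ev5 (up_rel h) (up_pow h5) hz

theorem la7 {x a : GL m F} (h1 : x ≠ 1) (h : a * x * a⁻¹ = x ^ 2) (h7 : x ^ 7 = 1)
    (hc : (7 : F) ≠ 0) : 3 ≤ Fintype.card m :=
  le_of_ev (by norm_num : Nat.Prime 7) (cast_ne (p := 7) (by exact_mod_cast hc)) (up_pow h7)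
    (up_ne h1) {1, 2, 4} (by decide) fun _ hz => ev7 (up_rel h) hz

theorem la7' {x a : GL m F} (h1 : x ≠ 1) (h : a * x * a⁻¹ = x ^ 2) (h7 : x ^ 7 = 1)
    (hc : (7 : F) ≠ 0) (hp : x.val.charpoly = (x⁻¹).val.charpoly) : 6 ≤ Fintype.card m := by
  have hp' : (up m F x).val.charpoly = ((up m F x)⁻¹).val.charpoly := by
    rw [← map_inv, up_val, up_val, Matrix.charpoly_map, Matrix.charpoly_map, hp]
  exact le_of_ev (by norm_num : Nat.Prime 7) (cast_ne (p := 7) (by exact_mod_cast hc)) (up_pow h7)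
    (up_ne h1) {1, 2, 3, 4, 5, 6} (by decide) fun _ hz => ev7' (up_rel h) (up_pow h7) hp' hz

theorem jobLA : H49.A7.JobLA := by
  intro F _ n x a h1 h
  refine ⟨fun h5 hc => ?_, fun h7 hc => ⟨?_, fun hp => ?_⟩⟩
  · simpa using la5 h1 h h5 hc
  · simpa using la7 h1 h h7 hc
  · simpa using la7' h1 h h7 hc hp

/-- LU, `p = 5`: a nilpotent matrix commuting with `x` is zero (dimension at most `5`). -/
theorem lu5 {x a : GL m F} (h1 : x ≠ 1) (h : a * x * a⁻¹ = x ^ 2) (h5 : x ^ 5 = 1)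
    (hc : (5 : F) ≠ 0) (hn : Fintype.card m ≤ 5) {N : Matrix m m F} (hN : IsNilpotent N)
    (hx : x.val * N = N * x.val) : N = 0 := by
  have hnd := nodup_of (by norm_num : Nat.Prime 5) (cast_ne (p := 5) (by exact_mod_cast hc))
    (up_pow h5) (up_ne h1) (det_eq_one (up_rel h)) {1, 2, 3, 4} (by decide) (by decide) (by decide)
    (fun _ hz => ev5 (up_rel h) (up_pow h5) hz) (by simpa using hn)
  have := nil_eq_zero hnd (hN.map (algebraMap F (AlgebraicClosure F)).mapMatrix) (by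
    rw [up_val, RingHom.mapMatrix_apply, ← Matrix.map_mul, ← Matrix.map_mul, hx])
  apply map_inj
  rw [Matrix.map_zero _ (map_zero _)]
  exact this

/-- LU, `p = 7`: a nilpotent matrix commuting with `x` is zero (dimension at most `4`). -/
theorem lu7 {x a : GL m F} (h1 : x ≠ 1) (h : a * x * a⁻¹ = x ^ 2) (h7 : x ^ 7 = 1)
    (hc : (7 : F) ≠ 0) (hn : Fintype.card m ≤ 4) {N : Matrix m m F} (hN : IsNilpotent N)
    (hx : x.val * N = N * x.val) : N = 0 := by
  have hnd := nodup_of (by norm_num : Nat.Prime 7) (cast_ne (p := 7) (by exact_mod_cast hc))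
    (up_pow h7) (up_ne h1) (det_eq_one (up_rel h)) {1, 2, 4} (by decide) (by decide) (by decide)
    (fun _ hz => ev7 (up_rel h) hz) (by simpa using hn)
  have := nil_eq_zero hnd (hN.map (algebraMap F (AlgebraicClosure F)).mapMatrix) (by
    rw [up_val, RingHom.mapMatrix_apply, ← Matrix.map_mul, ← Matrix.map_mul, hx])
  apply map_inj
  rw [Matrix.map_zero _ (map_zero _)]
  exact this

/-- An element of `r`-power order in characteristic `r` is unipotent. -/
theorem nil_of_pow {r : ℕ} (hr : r.Prime) [CharP F r] {y : GL m F} {k : ℕ} (hy : y ^ r ^ k = 1) :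
    IsNilpotent (y.val - 1) := by
  haveI := Fact.mk hr
  rcases isEmpty_or_nonempty m with hm | hm
  · exact ⟨1, Subsingleton.elim _ _⟩
  refine ⟨r ^ k, ?_⟩
  rw [sub_pow_char_pow_of_commute _ _ (Commute.one_right _), ← Units.val_pow_eq_pow_val, hy,
    Units.val_one, one_pow, sub_self]

theorem lu5' {x a : GL m F} (h1 : x ≠ 1) (h : a * x * a⁻¹ = x ^ 2) (h5 : x ^ 5 = 1)
    (hc : (5 : F) ≠ 0) (hn : Fintype.card m ≤ 5) {r : ℕ} (hr : r.Prime) [CharP F r] {y : GL m F}
    {k : ℕ} (hy : y ^ r ^ k = 1) (hx : x * y = y * x) : y = 1 := by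
  have := lu5 h1 h h5 hc hn (nil_of_pow hr hy) (by
    rw [mul_sub, sub_mul, ← Units.val_mul, hx, Units.val_mul, mul_one, one_mul])
  exact Units.ext (sub_eq_zero.1 this)

theorem lu7' {x a : GL m F} (h1 : x ≠ 1) (h : a * x * a⁻¹ = x ^ 2) (h7 : x ^ 7 = 1)
    (hc : (7 : F) ≠ 0) (hn : Fintype.card m ≤ 4) {r : ℕ} (hr : r.Prime) [CharP F r] {y : GL m F}
    {k : ℕ} (hy : y ^ r ^ k = 1) (hx : x * y = y * x) : y = 1 := by
  have := lu7 h1 h h7 hc hn (nil_of_pow hr hy) (by
    rw [mul_sub, sub_mul, ← Units.val_mul, hx, Units.val_mul, mul_one, one_mul])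
  exact Units.ext (sub_eq_zero.1 this)

end Base

section Sub

variable {F : Type*} [Field F] {V : Type*} [AddCommGroup V] [Module F V] [FiniteDimensional F V]

theorem end_to_gl {X A : Module.End F V} {p : ℕ} (hp : p ≠ 0) (hA : Function.Injective A)
    (h : A * X = X ^ 2 * A) (hX : X ^ p = 1) (h1 : X ≠ 1) :
    ∃ x a : GL (Fin (Module.finrank F V)) F, x ≠ 1 ∧ a * x * a⁻¹ = x ^ 2 ∧ x ^ p = 1 := by
  have uA : IsUnit A := (Module.End.isUnit_iff A).2
    ⟨hA, LinearMap.injective_iff_surjective.1 hA⟩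
  have uX : IsUnit X := IsUnit.of_pow_eq_one hX hp
  let φ := (LinearMap.toMatrixAlgEquiv (Module.finBasis F V)).toMulEquiv
  let ψ := Units.map φ.toMonoidHom
  have hψ : Function.Injective ψ := Units.map_injective φ.injective
  refine ⟨ψ uX.unit, ψ uA.unit, fun e => h1 ?_, ?_, ?_⟩
  · have := hψ (e.trans (map_one ψ).symm)
    simpa using congrArg Units.val this
  · rw [← map_inv, ← map_mul, ← map_mul, ← map_pow]
    congr 1
    rw [mul_inv_eq_iff_eq_mul]
    exact Units.ext (by simpa using h)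
  · rw [← map_pow, ← map_one ψ]
    congr 1
    exact Units.ext (by simpa using hX)

theorem la_end5 {X A : Module.End F V} (hA : Function.Injective A) (h : A * X = X ^ 2 * A)
    (hX : X ^ 5 = 1) (hc : (5 : F) ≠ 0) (h1 : X ≠ 1) : 4 ≤ Module.finrank F V := by
  obtain ⟨x, a, h1, h, h5⟩ := end_to_gl (by norm_num) hA h hX h1
  simpa using la5 h1 h h5 hc

theorem la_end7 {X A : Module.End F V} (hA : Function.Injective A) (h : A * X = X ^ 2 * A)
    (hX : X ^ 7 = 1) (hc : (7 : F) ≠ 0) (h1 : X ≠ 1) : 3 ≤ Module.finrank F V := by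
  obtain ⟨x, a, h1, h, h7⟩ := end_to_gl (by norm_num) hA h hX h1
  simpa using la7 h1 h h7 hc

variable {m : Type*} [Fintype m] [DecidableEq m]

theorem sub_to_end {x a : GL m F} {p : ℕ} (h : a * x * a⁻¹ = x ^ 2) (hp : x ^ p = 1)
    (W : Submodule F (m → F)) (hx : ∀ w ∈ W, x.val *ᵥ w ∈ W) (ha : ∀ w ∈ W, a.val *ᵥ w ∈ W)
    (hw : ∃ w ∈ W, x.val *ᵥ w ≠ w) :
    ∃ X A : Module.End F W, Function.Injective A ∧ A * X = X ^ 2 * A ∧ X ^ p = 1 ∧ X ≠ 1 := by
  have hx' : ∀ w ∈ W, Matrix.toLin' x.val w ∈ W := hx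
  have ha' : ∀ w ∈ W, Matrix.toLin' a.val w ∈ W := ha
  have hpow : ∀ (k : ℕ) (w : W),
      ((((Matrix.toLin' x.val).restrict hx') ^ k) w : m → F) = (x ^ k).val *ᵥ (w : m → F) := by
    intro k
    induction k with
    | zero => intro w; simp
    | succ k ih =>
      intro w
      rw [pow_succ, Module.End.mul_apply, ih, pow_succ, Units.val_mul, ← Matrix.mulVec_mulVec]
      rfl
  refine ⟨(Matrix.toLin' x.val).restrict hx', (Matrix.toLin' a.val).restrict ha', ?_, ?_, ?_, ?_⟩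
  · rw [injective_iff_map_eq_zero]
    intro w hw
    have h0 : a.val *ᵥ (w : m → F) = 0 := congrArg Subtype.val hw
    by_contra hne
    exact inv_mulVec_ne a⁻¹ (v := (w : m → F)) (fun e => hne (Subtype.ext e)) (by simpa using h0)
  · ext1 w
    apply Subtype.ext
    rw [Module.End.mul_apply, Module.End.mul_apply, hpow]
    show a.val *ᵥ (x.val *ᵥ (w : m → F)) = (x ^ 2).val *ᵥ (a.val *ᵥ (w : m → F))
    rw [Matrix.mulVec_mulVec, Matrix.mulVec_mulVec, ← Units.val_mul, ← Units.val_mul, ← h,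
      inv_mul_cancel_right]
  · ext1 w
    apply Subtype.ext
    rw [hpow, hp]
    simp
  · obtain ⟨w, hw, hne⟩ := hw
    intro e
    apply hne
    have := congrArg Subtype.val (LinearMap.congr_fun e ⟨w, hw⟩)
    exact this

/-- LA on an invariant subspace, `p = 5`. -/
theorem la_sub5 {x a : GL m F} (h : a * x * a⁻¹ = x ^ 2) (h5 : x ^ 5 = 1) (hc : (5 : F) ≠ 0)
    (W : Submodule F (m → F)) (hx : ∀ w ∈ W, x.val *ᵥ w ∈ W) (ha : ∀ w ∈ W, a.val *ᵥ w ∈ W)
    (hw : ∃ w ∈ W, x.val *ᵥ w ≠ w) : 4 ≤ Module.finrank F W := by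
  obtain ⟨X, A, hA, h, hX, h1⟩ := sub_to_end h h5 W hx ha hw
  exact la_end5 hA h hX hc h1

/-- LA on an invariant subspace, `p = 7`. -/
theorem la_sub7 {x a : GL m F} (h : a * x * a⁻¹ = x ^ 2) (h7 : x ^ 7 = 1) (hc : (7 : F) ≠ 0)
    (W : Submodule F (m → F)) (hx : ∀ w ∈ W, x.val *ᵥ w ∈ W) (ha : ∀ w ∈ W, a.val *ᵥ w ∈ W)
    (hw : ∃ w ∈ W, x.val *ᵥ w ≠ w) : 3 ≤ Module.finrank F W := by
  obtain ⟨X, A, hA, h, hX, h1⟩ := sub_to_end h h7 W hx ha hw
  exact la_end7 hA h hX hc h1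

end Sub

section Schur

variable {F : Type*} [Field F] {m : Type*} [Fintype m] [DecidableEq m]

theorem not_ev_one [IsAlgClosed F] {x : GL m F} {p : ℕ} (hp : p.Prime) (hp0 : (p : F) ≠ 0)
    (hx : x ^ p = 1) (h1 : x ≠ 1) (I : Finset ℕ) (hI : ∀ i ∈ I, i < p) (h0 : 0 ∉ I)
    (hev : ∀ z, Ev x.val z → ∀ i ∈ I, Ev x.val (z ^ i)) (hn : Fintype.card m ≤ I.card) :
    ¬ Ev x.val 1 := by
  intro he
  have := le_of_ev hp hp0 hx h1 (insert 0 I) (by
    intro i hi
    rcases Finset.mem_insert.1 hi with rfl | hi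
    · exact hp.pos
    · exact hI i hi) (by
    intro z hz i hi
    rcases Finset.mem_insert.1 hi with rfl | hi
    · simpa using he
    · exact hev z hz i hi)
  rw [Finset.card_insert_of_notMem h0] at this
  omega

theorem schur_of [IsAlgClosed F] [Nonempty m] {x a : GL m F} (hf : ¬ Ev x.val 1)
    (hs : ∀ W : Submodule F (m → F), (∀ w ∈ W, x.val *ᵥ w ∈ W) → (∀ w ∈ W, a.val *ᵥ w ∈ W) →
      (∃ w ∈ W, x.val *ᵥ w ≠ w) → Fintype.card m ≤ Module.finrank F W)
    {g : Matrix m m F} (hx : x.val * g = g * x.val) (ha : a.val * g = g * a.val) :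
    ∃ c : F, g = c • (1 : Matrix m m F) := by
  obtain ⟨c, hc⟩ := Module.End.exists_eigenvalue (Matrix.toLin' g : Module.End F (m → F))
  obtain ⟨v, hv⟩ := hc.exists_hasEigenvector
  have hW : ∀ w, w ∈ Module.End.eigenspace (Matrix.toLin' g : Module.End F (m → F)) c ↔
      g *ᵥ w = c • w := fun w => by rw [Module.End.mem_eigenspace_iff, Matrix.toLin'_apply]
  have inv : ∀ y : Matrix m m F, y * g = g * y →
      ∀ w ∈ Module.End.eigenspace (Matrix.toLin' g : Module.End F (m → F)) c,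
        y *ᵥ w ∈ Module.End.eigenspace (Matrix.toLin' g : Module.End F (m → F)) c := by
    intro y hy w hw
    rw [hW] at hw ⊢
    rw [Matrix.mulVec_mulVec, ← hy, ← Matrix.mulVec_mulVec, hw, Matrix.mulVec_smul]
  have h := hs _ (inv _ hx) (inv _ ha) ⟨v, hv.1, fun e => hf ⟨v, hv.2, by rw [e, one_smul]⟩⟩
  have ht : Module.End.eigenspace (Matrix.toLin' g : Module.End F (m → F)) c = ⊤ := by
    apply Submodule.eq_top_of_finrank_eq
    refine le_antisymm (Submodule.finrank_le _) ?_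
    simpa using h
  refine ⟨c, Matrix.toLin'.injective ?_⟩
  apply LinearMap.ext
  intro w
  rw [Matrix.toLin'_apply, Matrix.toLin'_apply, (hW w).1 (ht ▸ Submodule.mem_top),
    Matrix.smul_mulVec, Matrix.one_mulVec]

theorem scalar_down [Nonempty m] {g : Matrix m m F} {c : AlgebraicClosure F}
    (h : g.map (algebraMap F (AlgebraicClosure F)) = c • (1 : Matrix m m _)) :
    ∃ d : F, g = d • (1 : Matrix m m F) := by
  obtain ⟨i⟩ := ‹Nonempty m›
  refine ⟨g i i, map_inj ?_⟩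
  have hc : c = algebraMap F _ (g i i) := by
    have := congrFun (congrFun h i) i
    simpa using this.symm
  rw [h, hc]
  ext j k
  by_cases e : j = k <;> simp [Matrix.one_apply, e]

/-- Schur, `p = 5`: in dimension at most `4` the pair `x`, `a` is absolutely irreducible. -/
theorem schur5 {x a : GL m F} (h1 : x ≠ 1) (h : a * x * a⁻¹ = x ^ 2) (h5 : x ^ 5 = 1)
    (hc : (5 : F) ≠ 0) (hn : Fintype.card m ≤ 4) {g : Matrix m m F} (hx : x.val * g = g * x.val)
    (ha : a.val * g = g * a.val) : ∃ c : F, g = c • (1 : Matrix m m F) := by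
  have h4 := la5 h1 h h5 hc
  haveI : Nonempty m := Fintype.card_pos_iff.1 (by omega)
  have hc' : ((5 : ℕ) : AlgebraicClosure F) ≠ 0 := cast_ne (p := 5) (by exact_mod_cast hc)
  obtain ⟨c, hg⟩ := schur_of (x := up m F x) (a := up m F a)
    (not_ev_one (by norm_num : Nat.Prime 5) hc' (up_pow h5) (up_ne h1) {1, 2, 3, 4} (by decide)
      (by decide) (fun _ hz => ev5 (up_rel h) (up_pow h5) hz) (by simpa using hn))
    (fun W a1 a2 a3 => hn.trans (la_sub5 (up_rel h) (up_pow h5) (by exact_mod_cast hc') W a1 a2 a3))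
    (g := g.map (algebraMap F (AlgebraicClosure F)))
    (by rw [up_val, ← Matrix.map_mul, ← Matrix.map_mul, hx])
    (by rw [up_val, ← Matrix.map_mul, ← Matrix.map_mul, ha])
  exact scalar_down hg

/-- Schur, `p = 7`: in dimension at most `3` the pair `x`, `a` is absolutely irreducible. -/
theorem schur7 {x a : GL m F} (h1 : x ≠ 1) (h : a * x * a⁻¹ = x ^ 2) (h7 : x ^ 7 = 1)
    (hc : (7 : F) ≠ 0) (hn : Fintype.card m ≤ 3) {g : Matrix m m F} (hx : x.val * g = g * x.val)
    (ha : a.val * g = g * a.val) : ∃ c : F, g = c • (1 : Matrix m m F) := by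
  have h4 := la7 h1 h h7 hc
  haveI : Nonempty m := Fintype.card_pos_iff.1 (by omega)
  have hc' : ((7 : ℕ) : AlgebraicClosure F) ≠ 0 := cast_ne (p := 7) (by exact_mod_cast hc)
  obtain ⟨c, hg⟩ := schur_of (x := up m F x) (a := up m F a)
    (not_ev_one (by norm_num : Nat.Prime 7) hc' (up_pow h7) (up_ne h1) {1, 2, 4} (by decide)
      (by decide) (fun _ hz => ev7 (up_rel h) hz) (by simpa using hn))
    (fun W a1 a2 a3 => hn.trans (la_sub7 (up_rel h) (up_pow h7) (by exact_mod_cast hc') W a1 a2 a3))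
    (g := g.map (algebraMap F (AlgebraicClosure F)))
    (by rw [up_val, ← Matrix.map_mul, ← Matrix.map_mul, hx])
    (by rw [up_val, ← Matrix.map_mul, ← Matrix.map_mul, ha])
  exact scalar_down hg

end Schur

section Grp

open Subgroup
open scoped commutatorElement

variable {G Y : Type*} [Group G] [Group Y]

/-- Lifting the relation `a x a⁻¹ = x²`, `x ^ p = 1` through a central extension. -/
theorem lift_rel (π : G →* Y) (hk : π.ker ≤ center G) {x a : Y} (hx : x ∈ π.range)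
    (ha : a ∈ π.range) (h : a * x * a⁻¹ = x ^ 2) {p : ℕ} (hp : x ^ p = 1) :
    ∃ X A : G, π X = x ∧ π A = a ∧ A * X * A⁻¹ = X ^ 2 ∧ X ^ p = 1 := by
  obtain ⟨X, rfl⟩ := hx
  obtain ⟨A, rfl⟩ := ha
  have hd : A * X * A⁻¹ * (X ^ 2)⁻¹ ∈ π.ker := by
    rw [MonoidHom.mem_ker, map_mul, map_mul, map_mul, map_inv, map_inv, map_pow, h,
      mul_inv_cancel]
  obtain ⟨d, hdd⟩ : ∃ d, d = A * X * A⁻¹ * (X ^ 2)⁻¹ := ⟨_, rfl⟩
  rw [← hdd] at hd
  have hdc := mem_center_iff.1 (hk hd)
  have e1 : A * X * A⁻¹ = d * X ^ 2 := by rw [hdd, inv_mul_cancel_right]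
  have e2 : A * (d * X) * A⁻¹ = (d * X) ^ 2 := by
    calc A * (d * X) * A⁻¹ = (A * d) * X * A⁻¹ := by group
      _ = d * (A * X * A⁻¹) := by rw [hdc A]; group
      _ = d * ((d * X) * X) := by rw [e1, sq, mul_assoc d X X]
      _ = d * ((X * d) * X) := by rw [hdc X]
      _ = (d * X) ^ 2 := by rw [sq]; simp only [mul_assoc]
  have hπ : π (d * X) = π X := by rw [map_mul, MonoidHom.mem_ker.1 hd, one_mul]
  refine ⟨d * X, A, hπ, rfl, e2, ?_⟩
  have hc : (d * X) ^ p ∈ center G := hk (by rw [MonoidHom.mem_ker, map_pow, hπ, hp])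
  have e3 : A * (d * X) ^ p * A⁻¹ = (d * X) ^ p * (d * X) ^ p := by
    rw [← conj_pow, e2, ← pow_mul, mul_comm 2 p, pow_mul, sq]
  rw [mem_center_iff.1 hc A, mul_inv_cancel_right] at e3
  exact (mul_eq_left.1 e3.symm)

/-- An element centralising a perfect group modulo a central kernel commutes with all lifts. -/
theorem comm_lift (π : G →* Y) (hk : π.ker ≤ center G) {A : Subgroup Y} (hA : ⁅A, A⁆ = A)
    (hr : A ≤ π.range) {g : G} (hg : π g ∈ centralizer (A : Set Y)) {b : G} (hb : π b ∈ A) :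
    g * b = b * g := by
  have hz : ∀ c : G, π c ∈ A → ⁅g, c⁆ ∈ center G := by
    intro c hc
    apply hk
    rw [MonoidHom.mem_ker, map_commutatorElement, commutatorElement_eq_one_iff_mul_comm]
    exact (hg _ hc).symm
  have hcj : ∀ c : G, π c ∈ A → g * c * g⁻¹ = ⁅g, c⁆ * c := by
    intro c _
    rw [commutatorElement_def, inv_mul_cancel_right]
  let C : Subgroup G := centralizer {g}
  have hC : ∀ c, c ∈ C ↔ g * c = c * g := fun c => by
    simp only [C, mem_centralizer_iff, Set.mem_singleton_iff, forall_eq]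
  have hle : ⁅A, A⁆ ≤ C.map π := by
    rw [commutator_le]
    intro u hu v hv
    obtain ⟨c, rfl⟩ := hr hu
    obtain ⟨d, rfl⟩ := hr hv
    refine ⟨⁅c, d⁆, (hC _).2 ?_, map_commutatorElement _ _ _⟩
    have e : g * ⁅c, d⁆ * g⁻¹ = ⁅c, d⁆ := by
      rw [conjugate_commutatorElement, hcj c hu, hcj d hv]
      have z1 := mem_center_iff.1 (hz c hu)
      have z2 := mem_center_iff.1 (hz d hv)
      generalize ⁅g, c⁆ = s at z1
      generalize ⁅g, d⁆ = t at z2
      rw [commutatorElement_def, commutatorElement_def]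
      calc s * c * (t * d) * (s * c)⁻¹ * (t * d)⁻¹
          = s * ((c * t) * d * c⁻¹) * s⁻¹ * d⁻¹ * t⁻¹ := by group
        _ = t * (c * d * c⁻¹ * d⁻¹) * t⁻¹ := by rw [← z1, z2 c]; group
        _ = c * d * c⁻¹ * d⁻¹ := by rw [← z2]; group
    rw [mul_inv_eq_iff_eq_mul] at e
    exact e
  rw [hA] at hle
  obtain ⟨c, hc, hcb⟩ := hle hb
  have hk' : c⁻¹ * b ∈ center G := hk (by
    rw [MonoidHom.mem_ker, map_mul, map_inv, hcb, inv_mul_cancel])
  have e : b = c * (c⁻¹ * b) := by group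
  rw [e]
  generalize c⁻¹ * b = t at hk'
  rw [← mul_assoc, (hC c).1 hc, mul_assoc, mem_center_iff.1 hk' g, mul_assoc]

end Grp

end H13.A7
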