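import Cfsg.Agent.H60.PauT

/-! Overgroups of the even Clifford group of two qubits: the local part. -/

set_option autoImplicit false
set_option linter.unusedSectionVars false

namespace H13.C6

open H60.Cl
open scoped commutatorElement MatrixGroups

variable {K E : Type*} [Field K] [Ring E] [Algebra K E] [Finite E]
variable {τ : E →ₗ[K] K} {P Q G : Subgroup Eˣ} {x y z d g j u v b w γ : Eˣ}
variable {S : Subgroup (GL (Fin 3) K)} {i : Kˣ}

variable (K) in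
/-- an overgroup of the even part of the Clifford group in rank `16` -/
structure Rel4 (P G : Subgroup Eˣ) : Prop where
  pau : Pau K P
  lin : Lin K P
  r16 : rk K P = 16
  le : P ≤ G
  un : G ≤ Un K P
  ga2 : ∀ j ∈ P, j ∉ Zs K E → j * j = -1 → ∀ j' ∈ P, j' ∉ Zs K E → j' * j' = -1 → ga j * ga j' ∈ G

/-- the largest subgroup of the form `X ∪ X γ` with `X ≤ G` -/
def hat (G : Subgroup Eˣ) (γ : Eˣ) (h : γ * γ ∈ G) : Subgroup Eˣ where
  carrier := {u | (u ∈ G ∧ γ * u * γ⁻¹ ∈ G) ∨ (u * γ ∈ G ∧ γ * u ∈ G)}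
  one_mem' := Or.inl ⟨one_mem _, by simp⟩
  mul_mem' := by
    rintro u v (⟨a, b⟩ | ⟨a, b⟩) (⟨c, e⟩ | ⟨c, e⟩)
    · exact Or.inl ⟨mul_mem a c, by convert mul_mem b e using 1; group⟩
    · exact Or.inr ⟨by convert mul_mem a c using 1; group, by convert mul_mem b e using 1; group⟩
    · exact Or.inr ⟨by convert mul_mem a (mul_mem (mul_mem (inv_mem h) e) h) using 1; group,
        by convert mul_mem b c using 1; group⟩
    · exact Or.inl ⟨by convert mul_mem (mul_mem a (inv_mem h)) e using 1; group,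
        by convert mul_mem (mul_mem b c) (inv_mem h) using 1; group⟩
  inv_mem' := by
    rintro u (⟨a, b⟩ | ⟨a, b⟩)
    · exact Or.inl ⟨inv_mem a, by convert inv_mem b using 1; group⟩
    · exact Or.inr ⟨by convert inv_mem (mul_mem (inv_mem h) b) using 1; group,
        by convert inv_mem (mul_mem a (inv_mem h)) using 1; group⟩

theorem hat_sq {h : γ * γ ∈ G} (hu : u ∈ hat G γ h) : u * u ∈ G := by
  rcases hu with ⟨a, -⟩ | ⟨a, b⟩
  · exact mul_mem a a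
  · convert mul_mem (mul_mem a (inv_mem h)) b using 1; group

theorem ga_Zs (h : Amb τ) (hj : j ∈ Zs K E) (e : j * j = -1) : ga j ∈ Zs K E := by
  have := h.nontrivial
  obtain ⟨c, rfl⟩ := hj
  exact mem_Zs_of_eq_smul (c := 1 + (c : K)) (by
    rw [h.ga_val e, sc_val, Algebra.algebraMap_eq_smul_one, add_smul, one_smul])

theorem Rel4.ga_sq (R : Rel4 K P G) (h : Amb τ) (hj : j ∈ P) (e : j * j = -1) : ga j * ga j ∈ G :=
  h.ga_sq e ▸ R.le (mul_mem (R.pau.sc_le h.tw_mem) hj)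

theorem Rel4.rel (R : Rel4 K P G) (h : Amb τ) (hj : j ∈ P) (hj' : j ∉ Zs K E) (e : j * j = -1) :
    Rel K P (hat G (ga j) (R.ga_sq h hj e)) (hat G (ga j) (R.ga_sq h hj e)) := by
  have hle : P ≤ hat G (ga j) (R.ga_sq h hj e) := fun p hp =>
    Or.inl ⟨R.le hp, R.le (Nm_conj (R.pau.ga_Nm h e hj) hp)⟩
  refine ⟨R.pau, R.lin, hle, ?_, fun k hk e' => ?_, le_rfl, Subgroup.le_normalizer,
    fun k hk _ => hle hk⟩
  · rintro u (⟨a, -⟩ | ⟨a, -⟩)
    · exact R.un a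
    · exact ((Un K P).mul_mem_cancel_right (h.ga_Un e hj)).1 (R.un a)
  by_cases hz : k ∈ Zs K E
  · exact hle (R.pau.sc_le (ga_Zs h hz e'))
  · exact Or.inr ⟨R.ga2 k hk hz e' j hj hj' e, R.ga2 j hj hj' e k hk hz e'⟩

variable (K) in
/-- the alternative conclusion -/
def Top (S : Subgroup (GL (Fin 3) K)) (P G : Subgroup Eˣ) : Prop :=
  ∃ X : Subgroup Eˣ, Rel K P X X ∧ Big K S P X ∧ ∀ u ∈ X, u * u ∈ G

theorem notMem_mul {c : Eˣ} (hc : c ∈ Zs K E) (hy : y ∉ Zs K E) : c * y ∉ Zs K E :=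
  fun hz => hy ((mul_mem_cancel_left hc).1 hz)

theorem Rel4.cen (R : Rel4 K P G) (h : Amb τ) (hi : i * i = -1) (h3 : H3 (i : K) S)
    (hB : ¬ Top K S P G) (hd : d ∈ P) (hd' : d ∉ Zs K E) (hg : g ∈ G) (hc : g * d = d * g) :
    g ∈ Nm P := by
  obtain ⟨c, hc', e⟩ := R.lin.neg d hd
  have hj := mul_mem (R.pau.sc_le hc') hd
  have R' := R.rel h hj (notMem_mul hc' hd') e
  rcases R'.main h hi h3 R.r16.ge with h1 | h1
  · refine h1 (Or.inl ⟨hg, ?_⟩)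
    rwa [← h.ga_comm e (sc_comm' hc' hc.symm).symm, mul_inv_cancel_right]
  · exact (hB ⟨_, R', h1, fun _ => hat_sq⟩).elim

theorem Rel4.trans (R : Rel4 K P G) (h : Amb τ) (hx : x ∈ P) (hx' : x ∉ Zs K E) (hy : y ∈ P)
    (hy' : y ∉ Zs K E) (h1 : x * x = y * y) :
    ∃ s ∈ G, s ∈ Nm P ∧ s * x * s⁻¹ = y := by
  obtain ⟨w, hw, a1, a2⟩ := R.pau.exists_anti2 hx hx' hy hy'
  obtain ⟨c, hc, e⟩ := R.lin.pos w hw
  obtain ⟨c', hc', e'⟩ := R.lin.pos x hx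
  have e2 : c'⁻¹ * (c * w) * (c'⁻¹ * (c * w)) = x * x := by
    rw [mul_assoc, ← mul_assoc (c * w), ← Zs_comm (inv_mem hc'), mul_assoc, e, mul_one,
      ← mul_inv_rev, inv_eq_iff_mul_eq_one, ← e']
    rw [mul_assoc, mul_assoc, ← mul_assoc x c', ← Zs_comm hc' x, mul_assoc]
  have hw' := mul_mem (R.pau.sc_le (inv_mem hc')) (mul_mem (R.pau.sc_le hc) hw)
  have b1 := sc_anti (inv_mem hc') (sc_anti hc a1)
  have b2 := sc_anti (inv_mem hc') (sc_anti hc a2)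
  generalize c'⁻¹ * (c * w) = w' at *
  have q1 := move_sq (anti_symm b1) e2.symm
  have q2 := move_sq b2 (e2.trans h1)
  have m1 := mul_mem hw' (inv_mem hx)
  have m2 := mul_mem hy (inv_mem hw')
  refine ⟨ga (y * w'⁻¹) * ga (w' * x⁻¹), R.ga2 _ m2
    (h.notMem_of_anti (anti_symm (ac b2 (cinv rfl)))) q2 _ m1
    (h.notMem_of_anti (anti_symm (ac (anti_symm b1) (cinv rfl)))) q1,
    mul_mem (R.pau.ga_Nm h q2 m2) (R.pau.ga_Nm h q1 m1), ?_⟩
  have r1 := h.move b2 (e2.trans h1)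
  have r2 := h.move (anti_symm b1) e2.symm
  generalize ga (y * w'⁻¹) = s, ga (w' * x⁻¹) = t at r1 r2
  rw [← r1, ← r2]
  group

variable (K) in
/-- trivial intersection, before reduction modulo scalars -/
def TIl (P G : Subgroup Eˣ) : Prop :=
  ∀ g ∈ G, ∀ y ∈ P, y ∉ Zs K E → g * y * g⁻¹ ∈ P → g ∈ Nm P

theorem Rel4.ti (R : Rel4 K P G) (h : Amb τ) (hi : i * i = -1) (h3 : H3 (i : K) S)
    (hB : ¬ Top K S P G) : TIl K P G := fun g hg y hy hy' h1 => by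
  obtain ⟨s, s1, s2, e⟩ := R.trans h hy hy' h1 (mt conj_mem_Zs.1 hy')
    (conj_sq g rfl (R.pau.sq y hy)).symm
  have := R.cen h hi h3 hB hy hy' (mul_mem (inv_mem s1) hg)
    (mul_inv_eq_iff_eq_mul.1 (by rw [mul_inv_rev, mul_assoc s⁻¹, ← mul_assoc, mul_assoc s⁻¹, ← e]; group))
  exact ((Nm P).mul_mem_cancel_left ((Nm P).inv_mem s2)).1 this

/-- a controlled Pauli element is odd -/
theorem Rel4.ct_odd (R : Rel4 K P G) (h : Amb τ) (hi : i * i = -1) {p : Eˣ} (hz : z ∈ P)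
    (hz' : z ∉ Zs K E) (zz : z * z = 1) (hp : p ∈ P) (hp' : p ∉ Zs K E) (pp : p * p = 1)
    (hzp : z * p ∉ Zs K E) (hc : p * z = z * p) (hj : j ∈ P) (hj' : j ∉ Zs K E) (e : j * j = -1) :
    ga j * ct K z p ∈ G ∧ ct K z p * ga j ∈ G := by
  have hI := sc_mem (E := E) i
  have c1 := sc_comm' hI hc
  have c2 := sc_comm i z
  have j0 : sc K E i * sc K E i = -1 := by simpa using isq (E := E) hi (one_mul 1)
  obtain ⟨e1, e2⟩ := h.ct_eq_ga zz (isq hi pp) c1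
  obtain ⟨e3, e4⟩ := h.ct_eq_ga zz j0 c2
  have hZ := R.pau.sc_le.trans R.le
  have n1 : z * (sc K E i * p) ∉ Zs K E := by
    rw [← mul_assoc, ← c2, mul_assoc]; exact notMem_mul hI hzp
  have n2 : -(z * sc K E i) ∉ Zs K E := by rw [neg_mem_Zs, ← c2]; exact notMem_mul hI hz'
  have m0 := mul_mem (R.pau.sc_le hI) hp
  have m2 := R.pau.neg_mem (mul_mem hz (R.pau.sc_le hI))
  have A : ct K z (sc K E i * p) ∈ G := e2 ▸ mul_mem (inv_mem (hZ h.tw_mem))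
    (R.ga2 _ m0 (notMem_mul hI hp') (isq hi pp) _ (mul_mem hz m0) n1 e1)
  have g0 := ga_Zs h hI j0
  have W : (ct K z (sc K E i))⁻¹ = (ga (sc K E i))⁻¹ * ga (-(z * sc K E i)) := by
    have q := h.ga_neg_mul (neg_nsq e3)
    rw [neg_neg] at q
    rw [inv_eq_iff_mul_eq_one, e4, Zs_comm (inv_mem g0), ← mul_assoc, mul_assoc h.tw⁻¹, mul_assoc,
      mul_assoc, mul_assoc, ← mul_assoc (ga (z * _)), q, Zs_comm g0]
    simp
  have k1 : ct K z p = (ct K z (sc K E i))⁻¹ * ct K z (sc K E i * p) := by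
    rw [h.ct_mul zz c2 hc, inv_mul_cancel_left]
  have k2 : ct K z p = ct K z (sc K E i * p) * (ct K z (sc K E i))⁻¹ := by
    rw [sc_comm, h.ct_mul zz hc c2, mul_inv_cancel_right]
  constructor
  · rw [k1, W, Zs_comm (inv_mem g0), ← mul_assoc, ← mul_assoc]
    exact mul_mem (mul_mem (R.ga2 _ hj hj' e _ m2 n2 (neg_nsq e3)) (inv_mem (hZ g0))) A
  · rw [k2, W, mul_assoc, mul_assoc]
    exact mul_mem A (mul_mem (inv_mem (hZ g0)) (R.ga2 _ m2 n2 (neg_nsq e3) _ hj hj' e))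

theorem ct_symm (h : Amb τ) (bb : b * b = 1) (zz : z * z = 1) (hc : b * z = z * b) :
    ct K (-z) b = ct K (-b) z := Units.ext (by
  rw [h.ct_val (by simp [zz]) (by simp [hc]), h.ct_val (by simp [bb]) (by simp [hc]), h.ee_neg,
    h.ee_neg, sub_sub_cancel, sub_sub_cancel, mul_sub, mul_sub, mul_one, mul_one]
  have := h.two
  simp only [ee, mul_smul_comm, mul_add, mul_one, comm_val hc]
  match_scalars <;> field_simp <;> ring)

/-! ### rank -/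

theorem two_mul_rk_le {A B : Subgroup Eˣ} (hZ : Zs K E ≤ A) (h : A < B) : 2 * rk K A ≤ rk K B := by
  have h1 : A.relIndex B ≠ 1 := fun e => h.not_ge (Subgroup.relIndex_eq_one.1 e)
  have h0 : A.relIndex B ≠ 0 := Subgroup.index_ne_zero_of_finite
  rw [rk, rk, ← Subgroup.relIndex_mul_relIndex (Zs K E) A B hZ h.le, mul_comm]
  exact Nat.mul_le_mul_left _ (by omega)

theorem four_mul_rk_le (hP : Pau K P) (h : Amb τ) (hd : d ∈ P) (hx : x ∈ P)
    (an : d * x = -(x * d)) : 4 * rk K (P1 P d x) ≤ rk K P := by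
  have h1 := two_mul_rk_le (K := K) (Zs_le_Ce (b := d) hP.sc_le) (lt_of_le_not_ge Ce_le fun hle =>
    h.not_anti (mem_Ce.1 (hle hx)).2.symm an)
  have h2 := two_mul_rk_le (K := K) (Zs_le_Ce (b := x) (Zs_le_Ce (b := d) hP.sc_le))
    (lt_of_le_not_ge Ce_le fun hle => h.not_anti (mem_Ce.1 (hle (mem_Ce.2 ⟨hd, rfl⟩))).2 an)
  rw [P1]; omega

/-- maximal abelian subgroups in rank `16` -/
theorem Rel4.max_ab (R : Rel4 K P G) (h : Amb τ) {m n : Eˣ} (hm : m ∈ P) (hn : n ∈ P)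
    (hm' : m ∉ Zs K E) (hn' : n ∉ Zs K E) (hmn : m * n ∉ Zs K E) (hc : m * n = n * m) (hw : w ∈ P)
    (c1 : w * m = m * w) (c2 : w * n = n * w) :
    w ∈ Zs K E ∨ w * m ∈ Zs K E ∨ w * n ∈ Zs K E ∨ w * m * n ∈ Zs K E := by
  obtain ⟨x, hx, a1, a2⟩ := R.pau.dual1 hn hm hm' hmn
  have hP1 := R.pau.p1 hm hx (anti_symm a2)
  have hn1 : n ∈ P1 P m x := mem_P1.2 ⟨⟨hn, hc.symm⟩, a1.symm⟩
  obtain ⟨y, hy, a3⟩ := hP1.exists_anti hn1 hn'
  have h0 : P1 (P1 P m x) n y ≤ Zs K E := rk_eq_one.1 (by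
    have h1 := four_mul_rk_le R.pau h hm hx (anti_symm a2)
    have h2 := four_mul_rk_le hP1 h hn1 hy (anti_symm a3)
    have h3 : rk K (P1 (P1 P m x) n y) ≠ 0 := Subgroup.index_ne_zero_of_finite
    have := R.r16
    omega)
  have key : ∀ w ∈ P1 P m x, w * n = n * w → w ∈ Zs K E ∨ w * n ∈ Zs K E := fun w hw c => by
    rcases hP1.comm y hy w hw with e | e
    · exact Or.inl (h0 (mem_P1.2 ⟨⟨hw, c⟩, e.symm⟩))
    · exact Or.inr (h0 (mem_P1.2 ⟨⟨mul_mem hw hn1, (cc c.symm rfl).symm⟩, (aa e a3).symm⟩))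
  rcases R.pau.comm x hx w hw with e | e
  · exact (key w (mem_P1.2 ⟨⟨hw, c1⟩, e.symm⟩) c2).imp_right fun e => Or.inr (Or.inl e)
  · exact Or.inr ((key _ (mem_P1.2 ⟨⟨mul_mem hw hm, (cc c1.symm rfl).symm⟩, (aa e a2).symm⟩)
      (cc c2.symm hc.symm).symm).imp_right Or.inr)

/-! ### conjugation -/

theorem Rel4.conj (R : Rel4 K P G) (h : Amb τ) (hg : g ∈ G) : Rel4 K (cj g P) G := by
  have k1 : ∀ {a b : Eˣ}, g⁻¹ * a * g * (g⁻¹ * b * g) = g⁻¹ * (a * b) * g := by intros; group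
  have k2 : ∀ {a b : Eˣ}, g⁻¹ * a * g = g⁻¹ * b * g → a = b := by intro a b e; simpa using e
  have k3 : ∀ {a : Eˣ}, g⁻¹ * a * g ∈ Zs K E ↔ a ∈ Zs K E := by
    intro a; simpa using conj_mem_Zs (K := K) (g := g⁻¹) (x := a)
  have k4 : ∀ {c : Eˣ}, c ∈ Zs K E → g⁻¹ * c * g = c := fun hc => by
    rw [← Zs_comm hc, inv_mul_cancel_right]
  have k5 : ∀ {c a s : Eˣ}, c ∈ Zs K E → s ∈ Zs K E →
      c * (g⁻¹ * a * g) * (c * (g⁻¹ * a * g)) = s → c * a * (c * a) = s := fun hc hs e =>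
    k2 (by rw [← k1, ← k1, k4 hc, k4 hs, e])
  refine ⟨⟨fun c hc => mem_cj.2 (R.pau.sc_le (k3.2 hc)), fun a ha b hb => ?_, fun a ha => ?_,
    fun a ha hc => ?_⟩, ⟨fun a ha => ?_, fun a ha => ?_⟩, ?_, fun a ha => ?_, fun a ha => ?_,
    fun a ha a1 a2 b hb b1 b2 => ?_⟩
  · refine (R.pau.comm _ (mem_cj.1 ha) _ (mem_cj.1 hb)).imp (fun e => k2 ?_) fun e => k2 ?_
    · rwa [k1, k1] at e
    · rwa [k1, k1, ← neg_mul, ← mul_neg] at e
  · rw [← k3, ← k1]; exact R.pau.sq _ (mem_cj.1 ha)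
  · refine k3.1 (R.pau.nd _ (mem_cj.1 ha) fun y hy => ?_)
    have := congrArg (g⁻¹ * · * g) (hc _ (conj_mem_cj.2 hy))
    simpa [mul_assoc] using this
  · obtain ⟨c, hc, e⟩ := R.lin.pos _ (mem_cj.1 ha)
    exact ⟨c, hc, k5 hc (one_mem _) e⟩
  · obtain ⟨c, hc, e⟩ := R.lin.neg _ (mem_cj.1 ha)
    exact ⟨c, hc, k5 hc neg_one_mem e⟩
  · rw [← R.r16, ← card_pr, ← card_pr, ← card_cj (g := pr K E g) (A := P.map (pr K E))]
    congr 2
    ext a
    obtain ⟨a, rfl⟩ := QuotientGroup.mk'_surjective (Zs K E) a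
    rw [pr_mem fun c hc => mem_cj.2 (R.pau.sc_le (k3.2 hc)), mem_cj, mem_cj, ← map_inv, ← map_mul,
      ← map_mul, pr_mem R.pau.sc_le]
  · simpa [mul_assoc] using mul_mem (mul_mem hg (R.le (mem_cj.1 ha))) (inv_mem hg)
  · have h1 := (R.un (mul_mem (mul_mem (inv_mem hg) ha) hg)).1
    have h2 := Al_ind (p := fun a : E => g * a * ↑g⁻¹ ∈ Al K (cj g P)) h1
      (fun _ hx => val_mem_Al (conj_mem_cj.2 hx)) (by simp)
      (fun _ _ _ _ h1 h2 => by rw [mul_add, add_mul]; exact add_mem h1 h2)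
      fun c _ _ h => by rw [mul_smul_comm, smul_mul_assoc]; exact Subalgebra.smul_mem _ h c
    exact mem_Un.2 (by simpa [mul_assoc] using h2)
  · have q : ∀ {a : Eˣ}, a * a = -1 → g⁻¹ * a * g * (g⁻¹ * a * g) = -1 := fun e => by
      rw [k1, e, k4 neg_one_mem]
    have := mul_mem (mul_mem hg (R.ga2 _ (mem_cj.1 ha) (mt k3.1 a1) (q a2) _ (mem_cj.1 hb)
      (mt k3.1 b1) (q b2))) (inv_mem hg)
    rw [← conj_mul, h.ga_conj (q a2), h.ga_conj (q b2)] at this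
    simpa [mul_assoc] using this

theorem TIl.conj (hT : TIl K P G) (hg : g ∈ G) : TIl K (cj g P) G := fun s hs y hy hy' e =>
  mem_Nr_cj.2 (hT _ (mul_mem (mul_mem (inv_mem hg) hs) hg) _ (mem_cj.1 hy)
    (by simpa using mt (conj_mem_Zs (K := K) (g := g⁻¹) (x := y)).1 hy')
    (by simpa [mul_assoc] using mem_cj.1 e))

end H13.C6
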