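import Cfsg.Agent.H13.C6A

/-! Overgroups of the even Clifford group of two qubits: strong closure and the main theorem. -/

set_option autoImplicit false
set_option linter.unusedSectionVars false

namespace H13.C6

open H60.Cl
open scoped commutatorElement MatrixGroups

variable {K E : Type*} [Field K] [Ring E] [Algebra K E] [Finite E]
variable {τ : E →ₗ[K] K} {P Q G : Subgroup Eˣ} {x y z d g j u v b w γ : Eˣ}
variable {S : Subgroup (GL (Fin 3) K)} {i : Kˣ}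

variable (K) in
/-- two Pauli groups with trivial intersection -/
structure Pair (P Q G : Subgroup Eˣ) : Prop where
  RP : Rel4 K P G
  RQ : Rel4 K Q G
  tP : TIl K P G
  tQ : TIl K Q G
  inf : ∀ y ∈ P, y ∈ Q → y ∈ Zs K E

theorem Pair.symm (X : Pair K P Q G) : Pair K Q P G :=
  ⟨X.RQ, X.RP, X.tQ, X.tP, fun y a b => X.inf y b a⟩

theorem comm_mem (hb : b ∈ Nm P) (hv : v ∈ P) : ⁅b, v⁆ ∈ P := comm_mem_of_Nm hb hv

theorem conj_comm_inv (hb : b * b ∈ Zs K E) (v : Eˣ) : b * ⁅b, v⁆ * b⁻¹ = ⁅b, v⁆⁻¹ := by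
  have : b * ⁅b, v⁆ * b⁻¹ = (b * b * v * (b * b)⁻¹) * (b * v⁻¹ * b⁻¹) := by
    rw [commutatorElement_def]; group
  rw [this, Zs_comm hb v, commutatorElement_def]; group

theorem conj_comm_inv' (hv : v * v ∈ Zs K E) (b : Eˣ) : v * ⁅b, v⁆ * v⁻¹ = ⁅b, v⁆⁻¹ := by
  have : ⁅b, v⁆ * (v * ⁅b, v⁆ * v⁻¹) = b * (v * v) * b⁻¹ * (v * v)⁻¹ := by
    rw [commutatorElement_def]; group
  rw [← Zs_comm hv b] at this
  exact eq_inv_of_mul_eq_one_right (by rw [this]; group)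

theorem comm_iff_of_conj {m : Eˣ} (h : b * m * b⁻¹ = v * m * v⁻¹) (e : b * m = m * b) :
    v * m = m * v := by
  rw [conj_of_comm e] at h
  exact mul_inv_eq_iff_eq_mul.1 h.symm

theorem comm_of_sgn (h1 : w * b = b * w ∨ w * b = -(b * w)) (h2 : w * v = v * w ∨ w * v = -(v * w)) :
    w * ⁅b, v⁆ = ⁅b, v⁆ * w := by
  rw [commutatorElement_def]
  rcases h1 with h1 | h1 <;> rcases h2 with h2 | h2
  · exact cc (cc (cc h1 h2) (cinv h1)) (cinv h2)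
  · exact aa (ac (ca h1 h2) (cinv h1)) (ainv h2)
  · exact cc (aa (ac h1 h2) (ainv h1)) (cinv h2)
  · exact aa (ca (aa h1 h2) (ainv h1)) (ainv h2)

namespace Pair

variable (X : Pair K P Q G) (h : Amb τ)
include X h

theorem sgn (hw : w ∈ P) (hw' : w ∈ Nm Q) (hb : b ∈ Q) (hb' : b ∈ Nm P) :
    w * b = b * w ∨ w * b = -(b * w) :=
  X.RP.pau.anti_of_comm_mem h hw (X.inf _ (by
    rw [← commutatorElement_inv]; exact inv_mem (comm_mem hb' hw)) (comm_mem hw' hb))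

omit h in
theorem memD (hb : b ∈ Q) (hz : b ∉ Zs K E) (hv : v ∈ P) (e : ⁅b, v⁆ ∈ Zs K E) : v ∈ Nm Q :=
  X.tQ v (X.RP.le hv) b hb hz (by
    have : v * b * v⁻¹ = ⁅b, v⁆⁻¹ * b := by rw [commutatorElement_def]; group
    rw [this]; exact mul_mem (X.RQ.pau.sc_le (inv_mem e)) hb)

omit h in
theorem commD (hb : b ∈ Q) (hb' : b ∈ Nm P) (hz : b ∉ Zs K E) (hv : v ∈ P) : ⁅b, v⁆ ∈ Nm Q :=
  X.memD hb hz (comm_mem hb' hv) (by
    rw [commutatorElement_def b, conj_comm_inv (X.RQ.pau.sq b hb), ← mul_inv_rev]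
    exact inv_mem (X.RP.pau.sq _ (comm_mem hb' hv)))

theorem comm_D (hb : b ∈ Q) (hb' : b ∈ Nm P) (hv : v ∈ P) (hw : w ∈ P) (hw' : w ∈ Nm Q) :
    w * ⁅b, v⁆ = ⁅b, v⁆ * w :=
  comm_of_sgn (X.sgn h hw hw' hb hb') (X.RP.pau.comm w hw v hv)

theorem exists_notMem (hb : b ∈ Q) (hb' : b ∈ Nm P) (hz : b ∉ Zs K E) :
    ∃ v ∈ P, ⁅b, v⁆ ∉ Zs K E := by
  by_contra hn
  push Not at hn
  refine hz (X.inf b (X.RP.pau.inn h (X.RP.un (X.RQ.le hb)) fun y hy => ?_) hb)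
  rw [← commutatorElement_inv]; exact inv_mem (hn y hy)

theorem exists_anti (hb : b ∈ Q) (hb' : b ∈ Nm P) (hz : b ∉ Zs K E) :
    ∃ w ∈ P, w ∈ Nm Q ∧ w * b = -(b * w) := by
  obtain ⟨w, hw, e⟩ := X.RP.pau.exists_anti_of_tr h (X.RP.un (X.RQ.le hb)) hb'
    (X.RQ.pau.tr_eq_zero h hb hz)
  refine ⟨w, hw, X.memD hb hz hw ?_, e⟩
  rw [commutatorElement_def, conj_of_anti (anti_symm e)]
  simpa using neg_one_mem

theorem two (hb : b ∈ Q) (hb' : b ∈ Nm P) (hz : b ∉ Zs K E) :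
    ∃ m ∈ P, ∃ n ∈ P, m ∈ Nm Q ∧ n ∈ Nm Q ∧ m ∉ Zs K E ∧ n ∉ Zs K E ∧ m * n ∉ Zs K E := by
  by_contra hn
  push Not at hn
  obtain ⟨v, hv, h1⟩ := X.exists_notMem h hb hb' hz
  have m1 := comm_mem hb' hv
  have m2 := X.commD hb hb' hz hv
  generalize ⁅b, v⁆ = n at h1 m1 m2
  obtain ⟨x, hx, a⟩ := X.RP.pau.exists_anti m1 h1
  have hP1 := X.RP.pau.p1 m1 hx (anti_symm a)
  obtain ⟨y, y', H, -⟩ := (X.RP.lin.mono P1_le).exists_hyp hP1 (not_le_of_rk (by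
    have := X.RP.pau.rk_P1 m1 hx; have := X.RP.r16; omega))
  have key : ∀ y ∈ P1 P n x, y ∉ Zs K E → ⁅b, y⁆ ∉ Zs K E := fun y hy hy' e =>
    h.notMem_of_anti (anti_symm (ac a (mem_P1.1 hy).2.symm))
      (hn n m1 y (P1_le hy) m2 (X.memD hb hz (P1_le hy) e) h1 hy')
  have k1 := key y H.hd (h.notMem_of_anti H.an)
  have k2 := key y' H.hx (h.notMem_of_anti (anti_symm H.an))
  refine key _ (mul_mem H.hd H.hx) (h.notMem_of_anti (anti_symm (ca rfl H.an))) ?_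
  have q := hn _ (comm_mem hb' (P1_le H.hd)) _ (comm_mem hb' (P1_le H.hx))
    (X.commD hb hb' hz (P1_le H.hd)) (X.commD hb hb' hz (P1_le H.hx)) k1 k2
  have e : ⁅b, y * y'⁆ = ⁅b, y⁆ * (y * ⁅b, y'⁆ * y⁻¹) := by simp only [commutatorElement_def]; group
  rcases X.RP.pau.conj_eq (P1_le H.hd) (comm_mem hb' (P1_le H.hx)) with e' | e' <;> rw [e, e']
  · exact q
  · rw [mul_neg, neg_mem_Zs]; exact q

theorem ab (hb : b ∈ Q) (hb' : b ∈ Nm P) (hz : b ∉ Zs K E) (hw : w ∈ P) (hw' : w ∈ Nm Q)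
    (hu : u ∈ P) (hu' : u ∈ Nm Q) : w * u = u * w := by
  obtain ⟨v, hv, h1⟩ := X.exists_notMem h hb hb' hz
  obtain ⟨b₁, p1, b₂, p2, q1, q2, r1, r2, r3⟩ :=
    X.symm.two h (comm_mem hb' hv) (X.commD hb hb' hz hv) h1
  have hv' : v ∉ Nm Q := fun e => h1 (X.inf _ (comm_mem hb' hv) (by
    rw [← commutatorElement_inv]; exact inv_mem (comm_mem e hb)))
  have n1 : ⁅b₁, v⁆ ∉ Zs K E := fun e => hv' (X.memD p1 r1 hv e)
  have n2 : ⁅b₂, v⁆ ∉ Zs K E := fun e => hv' (X.memD p2 r2 hv e)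
  have c0 := X.comm_D h p2 q2 hv (comm_mem q1 hv) (X.commD p1 q1 r1 hv)
  have n3 : ⁅b₁, v⁆ * ⁅b₂, v⁆ ∉ Zs K E := fun e => hv' (X.memD (mul_mem p1 p2) r3 hv (by
    have e1 : ⁅b₁ * b₂, v⁆ = b₁ * ⁅b₂, v⁆ * b₁⁻¹ * ⁅b₁, v⁆ := by
      simp only [commutatorElement_def]; group
    rcases X.sgn h (comm_mem q2 hv) (X.commD p2 q2 r2 hv) p1 q1 with a | a
    · rwa [e1, conj_of_comm a.symm, ← c0]
    · rwa [e1, conj_of_anti (anti_symm a), neg_mul, neg_mem_Zs, ← c0]))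
  have c1 := X.comm_D h p1 q1 hv hw hw'
  have c2 := X.comm_D h p2 q2 hv hw hw'
  rcases X.RP.max_ab h (comm_mem q1 hv) (comm_mem q2 hv) n1 n2 n3 c0 hu
    (X.comm_D h p1 q1 hv hu hu') (X.comm_D h p2 q2 hv hu hu') with e | e | e | e
  · exact (Zs_comm e w).symm
  · simpa only [mul_inv_cancel_right] using cc (Zs_comm e w).symm (cinv c1)
  · simpa only [mul_inv_cancel_right] using cc (Zs_comm e w).symm (cinv c2)
  · simpa only [mul_inv_cancel_right] using cc (cc (Zs_comm e w).symm (cinv c2)) (cinv c1)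

theorem proj (hb : b ∈ Q) (hb' : b ∈ Nm P) (hz : b ∉ Zs K E) (hd : d ∈ P) (hd' : d ∈ Nm Q)
    (hdz : d ∉ Zs K E) (hc : b * d = d * b) (hy : y ∈ P) (hyd : y * d = d * y) :
    ⁅b, y⁆ ∈ Zs K E ∨ d * ⁅b, y⁆ ∈ Zs K E := by
  by_contra hn
  rw [not_or] at hn
  have m1 := comm_mem hb' hy
  have m2 := X.commD hb hb' hz hy
  have four : ∀ w ∈ P, w ∈ Nm Q → w ∈ Zs K E ∨ w * d ∈ Zs K E ∨ w * ⁅b, y⁆ ∈ Zs K E ∨
      w * d * ⁅b, y⁆ ∈ Zs K E := fun w hw hw' => X.RP.max_ab h hd m1 hdz hn.1 hn.2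
    (X.ab h hb hb' hz hd hd' m1 m2) hw (X.ab h hb hb' hz hw hw' hd hd') (X.ab h hb hb' hz hw hw' m1 m2)
  have bb := X.RQ.pau.sq b hb
  have cj : ∀ v ∈ P, b * ⁅b, v⁆ * b⁻¹ = v * ⁅b, v⁆ * v⁻¹ := fun v hv =>
    (conj_comm_inv bb v).trans (conj_comm_inv' (X.RP.pau.sq v hv) b).symm
  have a1 : y * ⁅b, y⁆ = -(⁅b, y⁆ * y) := (X.RP.pau.comm y hy _ m1).resolve_left fun e => by
    have e' := comm_iff_of_conj (cj y hy).symm e
    obtain ⟨w, hw, hw', a⟩ := X.exists_anti h hb hb' hz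
    rcases four w hw hw' with q | q | q | q
    · exact h.notMem_of_anti a q
    · exact h.notMem_of_anti (anti_symm (ac (anti_symm a) hc)) q
    · exact h.notMem_of_anti (anti_symm (ac (anti_symm a) e')) q
    · exact h.notMem_of_anti (anti_symm (ac (ac (anti_symm a) hc) e')) q
  obtain ⟨v, hv, c1, a2⟩ := X.RP.pau.dual1 m1 hd hdz hn.2
  have k1 := comm_mem hb' hv
  have k2 := X.commD hb hb' hz hv
  have c2 : y * ⁅b, v⁆ = ⁅b, v⁆ * y := (X.RP.pau.comm y hy _ k1).resolve_right fun a => by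
    have e1 : b * v * b⁻¹ = ⁅b, v⁆ * v := by rw [commutatorElement_def]; group
    have e2 : b * y * b⁻¹ = ⁅b, y⁆ * y := by rw [commutatorElement_def]; group
    have c3 := cc (X.ab h hb hb' hz m1 m2 k1 k2) c1.symm
    rcases X.RP.pau.comm v hv y hy with e | e
    · have := conj_comm b e
      rw [e1, e2] at this
      exact h.not_anti this (ca c3.symm (anti_symm (ac a e.symm)))
    · have := conj_anti b e
      rw [e1, e2] at this
      exact h.not_anti (cc c3.symm (aa a (anti_symm e)).symm) this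
  rcases four _ k1 k2 with q | q | q | q
  · exact h.not_anti (X.ab h hb hb' hz hv (X.memD hb hz hv q) hd hd') a2
  · have e1 : b * ⁅b, v⁆ = ⁅b, v⁆ * b := by simpa using cc (Zs_comm q b).symm (cinv hc)
    exact h.notMem_of_anti (anti_symm (ca (comm_iff_of_conj (cj v hv) e1) a2)) q
  · exact h.notMem_of_anti (anti_symm (ca c2 a1)) q
  · exact h.notMem_of_anti (anti_symm (ca (cc c2 hyd) a1)) q

theorem odd (hi : i * i = -1) (hb : b ∈ Q) (hb' : b ∈ Nm P) (hz : b ∉ Zs K E) (bb : b * b = 1)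
    (hd : d ∈ P) (hd' : d ∈ Nm Q) (hdz : d ∉ Zs K E) (dd : d * d = 1) (hc : b * d = d * b)
    (hj : j ∈ P) (hj' : j ∉ Zs K E) (e : j * j = -1) :
    ga j * ct K d b ∈ G ∧ ct K d b * ga j ∈ G := by
  obtain ⟨x, hx, a⟩ := X.RP.pau.exists_anti hd hdz
  have H : Hyp P d x := ⟨hd, hx, dd, anti_symm a⟩
  obtain ⟨u, hu, e1⟩ := H.part X.RP.pau h (X.RP.un (X.RQ.le hb)) hc
  have c1 := Un_P1_d hu
  have c2 := Un_P1_x hu
  have hP1 := X.RP.pau.p1 hd hx H.an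
  have hu' : u ∈ P1 P d x := hP1.inn h hu fun y hy => by
    obtain ⟨⟨y1, y2⟩, y3⟩ := mem_P1.1 hy
    have q1 := (h.ct_conj_of dd y2 hc c1 e1).symm.trans (h.ct_conj dd y2 b)
    rw [conj_of_comm hc] at q1
    have c3 := (cc (cc c1.symm y2.symm) (cinv c1.symm)).symm
    have c4 := (cc (cc hc.symm y2.symm) (cinv hc.symm)).symm
    have q2 := congrArg Units.val q1
    rw [h.ct_val dd c3, h.ct_val dd c4, add_left_inj] at q2
    have e2 : b * y * b⁻¹ = ⁅b, y⁆ * y := by rw [commutatorElement_def]; group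
    obtain ⟨c, hc', q3⟩ : ∃ c ∈ Zs K E, ((b * y * b⁻¹ : Eˣ) : E) * ee K d = (c * y : Eˣ) * ee K d := by
      rcases X.proj h hb hb' hz hd hd' hdz hc y1 y2 with q | q
      · exact ⟨_, q, by rw [e2]⟩
      · refine ⟨_, q, ?_⟩
        have c5 : d * (⁅b, y⁆ * y) = ⁅b, y⁆ * y * d := by rw [← e2, c4]
        rw [e2, mul_assoc d, c5, Units.val_mul _ d, mul_assoc _ (d : E), mul_ee dd]
    have q4 : u * y * u⁻¹ = c * y := Units.ext (h.inj H.an
      (comm_val (cc (cc c2.symm y3.symm) (cinv c2.symm)).symm) (comm_val (sc_comm' hc' y3))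
      (q2.trans q3))
    rw [← commutatorElement_inv, commutatorElement_def, q4, mul_inv_cancel_right]
    exact inv_mem hc'
  have uu : u * u = 1 := Units.ext (h.inj H.an (comm_val (cc c2.symm c2.symm).symm) (by simp) (by
    rw [Units.val_mul, mul_assoc, ← e1, ee_comm (comm_val hc), ← mul_assoc, ← e1, mul_assoc,
      ← ee_comm (comm_val hc), ← mul_assoc, sq_val bb, Units.val_one]))
  have n1 : u ∉ Zs K E := fun hu0 => by
    obtain ⟨w, hw, hw', a'⟩ := X.exists_anti h hb hb' hz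
    have c3 := ee_comm (K := K) (comm_val (X.ab h hb hb' hz hw hw' hd hd'))
    have q : (w : E) * (u * ee K d) = -(w * (u * ee K d)) := by
      nth_rw 1 [← e1]
      rw [← mul_assoc, anti_val a', neg_mul, mul_assoc, c3, ← mul_assoc, e1, mul_assoc, ← c3,
        ← mul_assoc, comm_val (Zs_comm hu0 w), mul_assoc]
    have q' := h.eq_zero_of_neg q
    rw [Units.mul_right_eq_zero] at q'
    have := h.nontrivial
    exact u.ne_zero (h.inj H.an (comm_val c2) (by simp) (by rw [q', zero_mul]))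
  have e3 : ct K d b = ct K d u := Units.ext (by rw [h.ct_val dd hc, h.ct_val dd c1, e1])
  rw [e3]
  exact X.RP.ct_odd h hi hd hdz dd (P1_le hu') n1 uu
    (h.notMem_of_anti (anti_symm (ac a c2.symm))) c1 hj hj' e

theorem false (hi : i * i = -1) (hb : b ∈ Q) (hb' : b ∈ Nm P) (hz : b ∉ Zs K E) : False := by
  have hI := sc_mem (E := E) i
  obtain ⟨b, hb, hb', hz, bb⟩ : ∃ b ∈ Q, b ∈ Nm P ∧ b ∉ Zs K E ∧ b * b = 1 := by
    obtain ⟨c, hc, e⟩ := X.RQ.lin.pos b hb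
    exact ⟨_, mul_mem (X.RQ.pau.sc_le hc) hb,
      mul_mem (Subgroup.le_normalizer (X.RP.pau.sc_le hc)) hb', notMem_mul hc hz, e⟩
  have inv : ∀ w ∈ P, w ∈ Nm Q → ∃ c ∈ Zs K E, c * w ∈ P ∧ c * w ∈ Nm Q ∧ c * w * (c * w) = 1 :=
    fun w hw hw' => by
      obtain ⟨c, hc, e⟩ := X.RP.lin.pos w hw
      exact ⟨c, hc, mul_mem (X.RP.pau.sc_le hc) hw,
        mul_mem (Subgroup.le_normalizer (X.RQ.pau.sc_le hc)) hw', e⟩
  obtain ⟨z, z1, z2, z3, z4, zz⟩ : ∃ z ∈ P, z ∈ Nm Q ∧ z ∉ Zs K E ∧ z * b = b * z ∧ z * z = 1 := by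
    obtain ⟨z, z1, z2, z3, z4⟩ : ∃ z ∈ P, z ∈ Nm Q ∧ z ∉ Zs K E ∧ z * b = b * z := by
      obtain ⟨m, m1, n, n1, m2, n2, m3, n3, h3⟩ := X.two h hb hb' hz
      rcases X.sgn h m1 m2 hb hb' with a | a
      · exact ⟨m, m1, m2, m3, a⟩
      rcases X.sgn h n1 n2 hb hb' with a' | a'
      · exact ⟨n, n1, n2, n3, a'⟩
      exact ⟨_, mul_mem m1 n1, mul_mem m2 n2, h3, (aa (anti_symm a) (anti_symm a')).symm⟩
    obtain ⟨c, hc, a1, a2, a3⟩ := inv z z1 z2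
    exact ⟨_, a1, a2, notMem_mul hc z3, sc_comm' hc z4, a3⟩
  obtain ⟨w, w1, w2, w3, ww⟩ : ∃ w ∈ P, w ∈ Nm Q ∧ w * b = -(b * w) ∧ w * w = 1 := by
    obtain ⟨w, w1, w2, w3⟩ := X.exists_anti h hb hb' hz
    obtain ⟨c, hc, a1, a2, a3⟩ := inv w w1 w2
    exact ⟨_, a1, a2, sc_anti hc w3, a3⟩
  have nN : ∀ {A : Subgroup Eˣ} {a : Eˣ}, Zs K E ≤ A → a ∈ Nm A → -a ∈ Nm A := fun hA ha =>
    neg_mem_of (hA.trans Subgroup.le_normalizer) ha
  have j1 := isq (E := E) hi ww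
  have j2 := isq (E := E) hi bb
  have i1 := mul_mem (X.RP.pau.sc_le hI) w1
  have s := (X.odd h hi hb hb' hz bb (X.RP.pau.neg_mem z1) (nN X.RQ.pau.sc_le z2)
    (by rwa [neg_mem_Zs]) (by simp [zz]) (by simp [z4]) i1
    (notMem_mul hI (h.notMem_of_anti w3)) j1).1
  have t := (X.symm.odd h hi z1 z2 z3 zz (X.RQ.pau.neg_mem hb) (nN X.RP.pau.sc_le hb')
    (by rwa [neg_mem_Zs]) (by simp [bb]) (by simp [z4]) (mul_mem (X.RQ.pau.sc_le hI) hb)
    (notMem_mul hI hz) j2).2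
  rw [← ct_symm h bb zz z4.symm] at t
  have hσ := mul_mem s t
  rw [mul_assoc, ← mul_assoc (ct K _ b), ← h.ct_mul (by simp [zz]) (by simp [z4]) (by simp [z4]), bb,
    h.ct_one (by simp [zz]), one_mul] at hσ
  have c := cc (h.ga_comm j1 (sc_comm' hI (X.ab h hb hb' hz w1 w2 z1 z2)).symm)
    (h.ga_comm j2 (sc_comm' hI z4.symm).symm)
  have n1 := X.tP _ hσ z z1 z3 (by rwa [← c, mul_inv_cancel_right])
  have n2 := Nm_conj (((Nm P).mul_mem_cancel_left (X.RP.pau.ga_Nm h j1 i1)).1 n1) w1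
  rw [h.ga_anti j2 (sc_anti hI (anti_symm w3)), P.mul_mem_cancel_right w1,
    P.mul_mem_cancel_left (X.RP.pau.sc_le hI)] at n2
  exact hz (X.inf b n2 hb)

end Pair

/-- the main theorem in rank `16` -/
theorem Rel4.main (R : Rel4 K P G) (h : Amb τ) (hi : i * i = -1) (h3 : H3 (i : K) S) :
    G ≤ Nm P ∨ Top K S P G := by
  by_contra hn
  push Not at hn
  obtain ⟨g, hg, hg'⟩ := SetLike.not_le_iff_exists.1 hn.1
  have hT := R.ti h hi h3 hn.2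
  have hT' := R.pau.ti R.le hT
  have hS : SC (G.map (pr K E)) (P.map (pr K E)) := by
    rintro _ ⟨k, hk, rfl⟩ _ ⟨a, ha, rfl⟩ e
    rw [← map_inv, ← map_mul, ← map_mul] at e ⊢
    rw [pr_mem R.pau.sc_le]
    by_contra hn'
    have X : Pair K P (cj k P) G := ⟨R, R.conj h hk, hT, hT.conj hk, fun y hy hy' => by
      by_contra hz
      exact hn' (Nm_conj (inv_mem_iff.1 (hT _ (inv_mem hk) y hy hz (by simpa using mem_cj.1 hy'))) ha)⟩
    exact X.false h hi (conj_mem_cj.2 ha) (Nm_of_pr R.pau.sc_le e) fun e' => hn' (R.pau.sc_le e')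
  obtain ⟨T, t1, t2⟩ := hT'.sharp hS ⟨g, hg, rfl⟩ fun e => hg' (Nm_of_pr R.pau.sc_le e)
  exact R.pau.no_sharp R.lin h hi R.r16.ge (fun s hs => (t1 hs).2) t2

end H13.C6
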