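import Cfsg.Agent.H13.C6B
import Cfsg.Agent.H13.SL4Spec
import Cfsg.Agent.H60.PauMat

/-! Normalisers of `4 ∘ 2^{1+4}` are maximal in `SL₄(p)` and `SU₄(p)`. -/

set_option autoImplicit false
set_option linter.unusedSectionVars false

namespace H13.C6

open H60.Cl H60 Module H59 Cfsg Cfsg.Geo
open H25 hiding sc sc_mem sc_comm
open scoped commutatorElement MatrixGroups Matrix

section abs
variable {K E : Type*} [Field K] [Ring E] [Algebra K E] [Finite E]
variable {τ : E →ₗ[K] K} {P G : Subgroup Eˣ} {x y z d g j u v t : Eˣ} {i : Kˣ}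

theorem map_j (hP : Pau K P) (hL : Lin K P) (h : Amb τ) {A : Type*} [CommGroup A]
    (δ : Eˣ →* A) (h16 : 16 ≤ rk K P) (hj : j ∈ P) (jj : j * j = -1) : δ j = 1 := by
  have k : ∀ c ∈ Zs K E, c * c = 1 ∨ c * c = -1 → δ c = 1 := fun c hc e =>
    hP.map_eq_one hL h δ h16 (fun y _ => Zs_comm hc y) (by
      rw [show 4 = 2 * 2 from rfl, pow_mul, _root_.sq, _root_.sq]; rcases e with e | e <;> simp [e])
  by_cases hz : j ∈ Zs K E
  · exact k j hz (Or.inr jj)
  obtain ⟨c, hc, e⟩ := hL.pos j hj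
  have hd := mul_mem (hP.sc_le hc) hj
  have e1 : c * c = -1 := by
    rw [mul_assoc, ← mul_assoc j, ← Zs_comm hc j, mul_assoc, jj, ← mul_assoc] at e
    simpa [neg_eq_iff_eq_neg] using e
  obtain ⟨x, hx, a⟩ := hP.exists_anti hd (notMem_mul hc hz)
  obtain ⟨d', x', H', -⟩ := (hL.mono P1_le).exists_hyp (hP.p1 hd hx (anti_symm a)) (not_le_of_rk (by
    have := hP.rk_P1 hd hx; omega))
  have c1 := (mem_P1.1 H'.hd).1.2.symm
  have := h.map_ct δ H'.dd H'.an c1 (mem_P1.1 H'.hx).1.2.symm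
  rw [_root_.sq, ← map_mul, ← h.ct_mul H'.dd c1 c1, e, h.ct_one H'.dd, map_one, map_mul,
    k c hc (Or.inr e1), one_mul] at this
  exact this

theorem map_ga2 (hP : Pau K P) (hL : Lin K P) (h : Amb τ) {A : Type*} [CommGroup A]
    (δ : Eˣ →* A) (h16 : 16 ≤ rk K P) (hi : i * i = -1) {c : Kˣ} (hc : (c : K) = 1 + i) (hj : j ∈ P)
    (hj' : j ∉ Zs K E) (jj : j * j = -1) {k : Eˣ} (hk : k ∈ P) (hk' : k ∉ Zs K E) (kk : k * k = -1) :
    δ (sc K E c⁻¹ * ga j * (sc K E c⁻¹ * ga k)) = 1 := by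
  have hI := sc_mem (E := E) i
  have s1 : ∀ j : Eˣ, j * j = -1 → sc K E i * j * (sc K E i * j) = 1 := fun j e => by
    rw [sc_mul_sq, hi, e]; simp [sc_neg]
  obtain ⟨s, -, e⟩ := Gates.trans (G := ⊤) (fun _ _ _ => trivial) hP hL h
    (mul_mem (hP.sc_le hI) hj) (notMem_mul hI hj') (mul_mem (hP.sc_le hI) hk) (notMem_mul hI hk')
    (s1 j jj) (s1 k kk)
  rw [← mul_assoc, ← sc_comm, mul_assoc, mul_assoc, mul_right_inj, ← mul_assoc] at e
  have e1 : δ (ga k) = δ (ga j) := by rw [← e, ← h.ga_conj jj]; simp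
  have e2 : sc K E c⁻¹ * ga j * (sc K E c⁻¹ * ga j) = sc K E (-i) * j := by
    rw [sc_mul_sq, h.ga_sq jj, Amb.tw, ← mul_assoc, ← map_mul]
    congr 2
    refine Units.ext ?_
    have hi' : (i : K) * i = -1 := congrArg Units.val hi
    have := c.ne_zero
    simp only [Units.val_neg, Units.val_mul, Units.val_inv_eq_inv_val, Units.val_mk0]
    field_simp
    rw [hc]
    linear_combination ((i : K) + 2) * hi'
  rw [map_mul, map_mul _ _ (ga k), e1, ← map_mul _ _ (ga j), ← map_mul, e2, map_mul,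
    map_j hP hL h δ h16 hj jj, mul_one]
  exact map_j hP hL h δ h16 (hP.sc_le (sc_mem _)) (by rw [← map_mul, neg_mul_neg, hi]; simp [sc_neg])

/-- transvections do not normalise a Pauli group of rank `16` -/
theorem tv_notMem (hP : Pau K P) (h : Amb τ) (ht : t ∈ Un K P) {N : E} (hN : (t : E) = 1 + N)
    (h0 : N ≠ 0) (h1 : τ N = 0) (h2 : ∀ a, N * a * N = (4 * τ (a * N)) • N) : t ∉ Nm P := fun hn => by
  have nn : N * N = 0 := by simpa [h1] using h2 1
  have ti : (↑t⁻¹ : E) = 1 - N := Units.inv_eq_of_mul_eq_one_right (by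
    rw [hN, add_mul, mul_sub, mul_sub, nn]; simp)
  have hP' := hP.inn h ht fun y hy => by
    by_contra hz
    have m : ⁅y, t⁆ ∈ P := by
      rw [← commutatorElement_inv]; exact inv_mem (comm_mem_of_Nm hn hy)
    obtain ⟨N', e'⟩ : ∃ N', N' = (y : E) * N * ↑y⁻¹ := ⟨_, rfl⟩
    have v1 : ((⁅y, t⁆ : Eˣ) : E) = (1 + N') * (1 - N) := by
      simp only [commutatorElement_def, Units.val_mul, hN, ti, e', mul_add, add_mul]
      simp
    have v2 : ((⁅y, t⁆⁻¹ : Eˣ) : E) = (1 + N) * (1 - N') := by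
      rw [commutatorElement_inv]
      simp only [commutatorElement_def, Units.val_mul, hN, ti, e', mul_assoc, mul_sub, sub_mul]
      simp
    have t0 := hP.tr_eq_zero h m hz
    rw [v1, mul_sub, add_mul, add_mul, mul_one, mul_one, one_mul, map_sub, map_add, map_add, h1,
      h.one, e', h.conj, h1, ← e'] at t0
    have q := h2 N'
    rw [show τ (N' * N) = 1 by linear_combination -t0, mul_one] at q
    obtain ⟨c, hc⟩ := hP.sq _ m
    have e := congrArg Units.val (eq_mul_inv_of_mul_eq hc.symm)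
    rw [sc_mul_val, v1, v2] at e
    have e1 := congrArg (N * ·) e
    have e2 := congrArg (· * N) e1
    simp only [mul_sub, sub_mul, mul_add, add_mul, mul_one, one_mul, mul_smul_comm, smul_mul_assoc,
      ← mul_assoc, nn, zero_mul, q, mul_zero, add_zero, zero_add, sub_zero, zero_sub, smul_zero]
      at e1 e2
    have h4 : (4 : K) ≠ 0 := by
      have := mul_ne_zero h.two h.two; rwa [show (2 : K) * 2 = 4 by norm_num] at this
    have e3 : (c : K) = -1 := by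
      have : ((4 : K) * (c + 1)) • N = 0 := by
        rw [mul_add, mul_one, add_smul, mul_comm, mul_smul]
        nth_rw 2 [e2]
        simp
      exact eq_neg_of_add_eq_zero_left ((mul_eq_zero.1
        ((smul_eq_zero.1 this).resolve_right h0)).resolve_left h4)
    rw [e3] at e1
    have : (2 : K) • N = 0 := by linear_combination (norm := module) -e1
    exact h0 ((smul_eq_zero.1 this).resolve_left h.two)
  have tz : t ∈ Zs K E := by
    by_contra hz
    simpa [hN, h1, h.one] using hP.tr_eq_zero h hP' hz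
  obtain ⟨c, rfl⟩ := tz
  have e := h.sc c
  rw [hN, map_add, h1, h.one, add_zero] at e
  rw [sc_val, ← e, map_one, left_eq_add] at hN
  exact h0 hN

end abs

variable {ι : Type} [Fintype ι] [DecidableEq ι] {F : Type*} [Field F] [Fintype F]
  {R M Ω : Subgroup (GL ι F)}

theorem tv_notMem_mat (hn : Fintype.card ι = 4) (h : Amb (tauM ι F)) (h1 : Spans R)
    (hP : Pau F (R ⊔ Zs F (Matrix ι ι F))) {t : GL ι F} {φ : Dual F (ι → F)} {u : ι → F}
    (ht : ∀ v, t.val *ᵥ v = v + φ v • u) (hu : u ≠ 0) (hφ : φ ≠ 0) (h0 : φ u = 0) :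
    t ∉ subgroupNormalizer R := fun hn' => by
  obtain ⟨f, hf⟩ : ∃ f : ι → F, ∀ v, φ v = f ⬝ᵥ v := ⟨fun j => φ (Pi.single j 1), fun v => by
    conv_lhs => rw [← Finset.univ_sum_single v, map_sum]
    refine Finset.sum_congr rfl fun j _ => ?_
    rw [mul_comm, ← smul_eq_mul, ← map_smul, ← Pi.single_smul', smul_eq_mul, mul_one]⟩
  have h4 : (4 : F) ≠ 0 := by
    have := mul_ne_zero h.two h.two; rwa [show (2 : F) * 2 = 4 by norm_num] at this
  refine tv_notMem hP h (mem_Un.2 (mem_Al_of_spans h1 le_sup_left _)) (N := Matrix.vecMulVec u f)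
    (Matrix.toLin'.injective (LinearMap.ext fun v => ?_)) (fun e => hφ (LinearMap.ext fun v => ?_)) ?_
    (fun a => ?_) (Nm_sup hn')
  · simp [ht, hf, Matrix.add_mulVec, Matrix.vecMulVec_mulVec]
  · simpa [Matrix.vecMulVec_mulVec, hu, ← hf] using congrArg (· *ᵥ v) e
  · simp [tauM, Matrix.trace_vecMulVec, dotProduct_comm u f, ← hf, h0]
  · rw [Matrix.vecMulVec_mul, Matrix.vecMulVec_mul_vecMulVec, Matrix.mul_vecMulVec]
    simp [tauM, Matrix.trace_vecMulVec, hn, h4, Matrix.dotProduct_mulVec, dotProduct_comm _ f]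

/-- the common set-up for the linear and unitary cases -/
theorem setup4 (hn : Fintype.card ι = 4) (h2 : (2 : F) ≠ 0) {i : Fˣ} (hi : i * i = -1)
    (hR : IsSymplecticTypeGroup 2 R) (ha : ActsAbsolutelyIrreducibly (matrixSet R))
    (hZ : Nat.card (Subgroup.center R) = 4) :
    Spans R ∧ Amb (tauM ι F) ∧
      Pau F (R ⊔ Zs F (Matrix ι ι F)) ∧ Lin F (R ⊔ Zs F (Matrix ι ι F)) ∧
      rk F (R ⊔ Zs F (Matrix ι ι F)) = 16 ∧ (∀ x ∈ R, x * x = 1 ∨ x * x = -1) ∧
      ∀ x ∈ R ⊔ Zs F (Matrix ι ι F), x * x = 1 ∨ x * x = -1 → x ∈ R := by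
  have : Nonempty ι := Fintype.card_pos_iff.1 (by omega)
  obtain ⟨h1, h3, h4, -⟩ := sympType_struct hR ha (Or.inr (Or.inl ⟨rfl, hZ⟩))
  have h := amb_tauM (card_ne_zero_of_comm_scalar h1 h3) h2
  have h5 := sq_of_symp hR h h4
  have hP := h.pau_sup (R := R) (by rwa [Zs_eq]) (fun x hx => by rw [Zs_eq, ← sq]; exact h4 x hx)
    fun x hx => by
      rw [Zs_eq]
      exact mem_scalars_of_comm_eq_one h1 fun y hy => commutatorElement_eq_one_iff_mul_comm.2 (hx y hy)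
  have k : ∀ x : GL ι F, x * x = 1 ∨ x * x = -1 → x ^ 4 = 1 := fun x e => by
    rw [show 4 = 2 * 2 from rfl, pow_mul, sq, sq]
    rcases e with e | e <;> simp [e]
  refine ⟨h1, h, hP, lin_sup hi h5, ?_, h5, fun x hx e => ?_⟩
  · rw [← (rep_toLin h1 le_sup_left).finrank_sq hP h, finrank_fintype_fun_eq_card, hn]
  obtain ⟨c, r, hr, rfl⟩ := mem_sup_Zs.1 hx
  refine mul_mem ?_ hr
  have e1 : R.comap (sc F _) ≤ rootsOfUnity 4 F := fun c hc => (mem_rootsOfUnity _ _).2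
    (h.sc_inj (by rw [map_pow, map_one]; exact k _ (h5 _ hc)))
  have e2 : Nat.card (R.comap (sc F (Matrix ι ι F))) = 4 := by
    rw [← hZ]
    refine Nat.card_congr (Equiv.ofBijective (fun c => ⟨⟨_, c.2⟩,
      (mem_center_iff_scalars h1 _).2 (by rw [← Zs_eq]; exact sc_mem c.1)⟩) ⟨fun a b e => Subtype.ext
        (h.sc_inj (congrArg (·.1.1) e)), fun z => ?_⟩)
    obtain ⟨c, hc⟩ : z.1.1 ∈ Zs F (Matrix ι ι F) := by
      rw [Zs_eq]; exact (mem_center_iff_scalars h1 _).1 z.2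
    exact ⟨⟨c, show sc F _ c ∈ R from hc ▸ z.1.2⟩, Subtype.ext (Subtype.ext hc)⟩
  refine (Subgroup.eq_of_le_of_card_ge e1 (e2 ▸ card_rootsOfUnity F 4)).ge ((mem_rootsOfUnity _ _).2
    (h.sc_inj ?_))
  have := k _ e
  rwa [Commute.mul_pow (sc_comm c r), k r (h5 r hr), mul_one, ← map_pow, ← map_one (sc F _)] at this

theorem max4 {S : Subgroup (GL (Fin 3) F)} (h : Amb (tauM ι F)) {i : Fˣ} (hi : i * i = -1)
    (h3 : H3 (i : F) S) (h1 : Spans R) (hP : Pau F (R ⊔ Zs F (Matrix ι ι F)))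
    (hL : Lin F (R ⊔ Zs F (Matrix ι ι F))) (h16 : rk F (R ⊔ Zs F (Matrix ι ι F)) = 16)
    (hR : ∀ x ∈ R ⊔ Zs F (Matrix ι ι F), x * x = 1 ∨ x * x = -1 → x ∈ R)
    (hR' : ∀ x ∈ R, x * x = 1 ∨ x * x = -1) (hne : ¬ Ω ≤ subgroupNormalizer R)
    (hΩ : ∀ j ∈ R, j * j = -1 → j ∈ Ω) {c : Fˣ}
    (hΩ2 : ∀ j ∈ R, j ∉ Zs F (Matrix ι ι F) → j * j = -1 → ∀ k ∈ R, k ∉ Zs F (Matrix ι ι F) →
      k * k = -1 → sc F _ c * ga j * (sc F _ c * ga k) ∈ Ω)
    (hsq : ∀ X : Subgroup (GL ι F), (∀ g ∈ Ω, g * g ∈ X) → Ω ≤ X)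
    (hB : ∀ G, Rel F (R ⊔ Zs F (Matrix ι ι F)) G G → Big F S (R ⊔ Zs F (Matrix ι ι F)) G → Ω ≤ G) :
    IsMaximalIn Ω (subgroupNormalizer R ⊓ Ω) := by
  have hN : ∀ g ∈ Nm (R ⊔ Zs F (Matrix ι ι F)), g ∈ subgroupNormalizer R := fun g hg =>
    mem_Nm fun y hy => hR _ (Nm_conj hg (Subgroup.mem_sup_left hy)) ((hR' y hy).imp
      (fun e => conj_sq g e (one_mem (Zs F _))) fun e => conj_sq (K := F) g e neg_one_mem)
  refine isMaximalIn_of (SetLike.not_le_iff_exists.1 hne) fun M h4 h5 g hg hg' => ?_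
  have hj : ∀ j ∈ R ⊔ Zs F (Matrix ι ι F), j * j = -1 → j ∈ M := fun j hj e =>
    h4 ⟨Subgroup.le_normalizer (hR j hj (Or.inr e)), hΩ j (hR j hj (Or.inr e)) e⟩
  have hle : R ⊔ Zs F (Matrix ι ι F) ≤ M ⊔ Zs F (Matrix ι ι F) := fun y hy => by
    obtain ⟨c, hc, e⟩ := hL.neg y hy
    exact (Subgroup.mul_mem_cancel_left _ (Subgroup.mem_sup_right hc)).1
      (Subgroup.mem_sup_left (hj _ (mul_mem (hP.sc_le hc) hy) e))
  have hz := Subgroup.le_normalizer (hP.sc_le (sc_mem c))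
  have R0 : Rel4 F (R ⊔ Zs F (Matrix ι ι F)) (M ⊔ Zs F _) :=
    ⟨hP, hL, h16, hle, fun g _ => mem_Un.2 (mem_Al_of_spans h1 le_sup_left _),
      fun j hj a e k hk a' e' => by
      have := Subgroup.mem_sup_left (T := Zs F (Matrix ι ι F)) (h4 ⟨hN _ (mul_mem
        (mul_mem hz (hP.ga_Nm h e hj)) (mul_mem hz (hP.ga_Nm h e' hk))),
        hΩ2 j (hR j hj (Or.inr e)) a e k (hR k hk (Or.inr e')) a' e'⟩)
      rwa [mul_assoc, ← mul_assoc (ga j), ← sc_comm, mul_assoc,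
        Subgroup.mul_mem_cancel_left _ (Subgroup.mem_sup_right (sc_mem c)),
        Subgroup.mul_mem_cancel_left _ (Subgroup.mem_sup_right (sc_mem c))] at this⟩
  rcases R0.main h hi h3 with e | ⟨X, x1, x2, x3⟩
  · exact (hg' (hN g (e (Subgroup.mem_sup_left hg)))).elim
  intro a ha
  obtain ⟨c, m, hm, rfl⟩ := mem_sup_Zs.1 (hsq _ (fun g hg => x3 g (hB _ x1 x2 hg)) ha)
  exact mul_mem (h4 ⟨hN _ (Subgroup.le_normalizer (hP.sc_le (sc_mem c))),
    (Ω.mul_mem_cancel_right (h5 hm)).1 ha⟩) hm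

theorem mem_map_toLE {X : Subgroup (GL ι F)} {g : GL ι F} :
    H62.toLE g ∈ X.map H62.toLE.toMonoidHom ↔ g ∈ X :=
  Subgroup.mem_map_iff_mem (f := H62.toLE.toMonoidHom) H62.toLE.injective

theorem max_sl4 (hn : Fintype.card ι = 4) (hp : (Fintype.card F).Prime) (h4 : Fintype.card F % 4 = 1)
    (hR : IsSymplecticTypeGroup 2 R) (ha : ActsAbsolutelyIrreducibly (matrixSet R))
    (hZ : Nat.card (Subgroup.center R) = 4) :
    IsMaximalIn (specialLinear ι F) (subgroupNormalizer R ⊓ specialLinear ι F) := by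
  have : Nontrivial ι := Fintype.one_lt_card_iff_nontrivial.1 (by omega)
  have h2 := L3.two_ne_zero_of_odd (F := F) (Nat.odd_iff.2 (by omega))
  obtain ⟨i, hi⟩ := FiniteField.isSquare_neg_one_iff.2 (show Fintype.card F % 4 ≠ 3 by omega)
  have i0 : i ≠ 0 := by rintro rfl; simp at hi
  have hi' : Units.mk0 i i0 * Units.mk0 i i0 = -1 := Units.ext hi.symm
  obtain ⟨h1, h, hP, hL, h16, h5, hR'⟩ := setup4 hn h2 hi' hR ha hZ
  have tv : ∀ (φ : Dual F (ι → F)) u, φ u = 0 →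
      ∃ t ∈ specialLinear ι F, ∀ v, H62.toLE t v = v + φ v • u := fun φ u h0 => by
    obtain ⟨e, he⟩ := H62.exists_tv h0
    obtain ⟨t, rfl⟩ := H62.toLE.surjective e
    exact ⟨t, (H62.mem_specialLinear_iff t).2 (by rw [H62.det_of_tv he, h0, add_zero]), he⟩
  refine max4 h hi' (h3_lin hp hi' h2) h1 hP hL h16 hR' h5 (fun hle => ?_)
    (fun j hj e => map_j hP hL h Matrix.GeneralLinearGroup.det h16.ge (Subgroup.mem_sup_left hj) e)
    (fun j hj a e k hk a' e' => map_ga2 hP hL h Matrix.GeneralLinearGroup.det h16.ge hi'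
      (c := Units.mk0 _ (one_add_i hi.symm h2)) rfl (Subgroup.mem_sup_left hj) a e
      (Subgroup.mem_sup_left hk) a' e') (fun X hX g hg => ?_) fun G R0 hB g hg => ?_
  · obtain ⟨a, b, hab⟩ := exists_pair_ne ι
    obtain ⟨t, ht, e⟩ := tv (LinearMap.proj b) (Pi.single a 1) (by simp [hab.symm])
    exact tv_notMem_mat hn h h1 hP e (by simp)
      (fun e => by simpa using LinearMap.congr_fun e (Pi.single b 1)) (by simp [hab.symm]) (hle ht)
  · refine mem_map_toLE.1 (H62.mem_of_det_eq_one (fun φ u h0 => ?_) _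
      ((H62.mem_specialLinear_iff g).1 hg))
    obtain ⟨t, ht, e⟩ := tv ((2 : F)⁻¹ • φ) u (by simp [h0])
    refine ⟨_, mem_map_toLE.2 (hX t ht), fun v => ?_⟩
    rw [map_mul, LinearEquiv.mul_apply, e, e]
    simp only [LinearMap.smul_apply, map_add, map_smul, h0, smul_eq_mul]
    match_scalars <;> (field_simp; try ring)
  · obtain ⟨k, hk, e⟩ := Rel.sl R0 h (rep_toLin h1 le_sup_left) hp hB (H62.toLE g)
      ((H62.mem_specialLinear_iff g).1 hg)
    rwa [show g = k from H62.toLE.injective (LinearEquiv.ext e)]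

theorem max_su4 {q : ℕ} {R : Subgroup (GL (Fin 4) F)} (hF : Fintype.card F = q ^ 2)
    (hp : q.Prime) (h4 : q % 4 = 3) (hR : IsSymplecticTypeGroup 2 R)
    (ha : ActsAbsolutelyIrreducibly (matrixSet R)) (hU : R ≤ GU 4 F q)
    (hZ : Nat.card (Subgroup.center R) = 4) : IsMaximalIn (GU 4 F q ⊓ specialLinear (Fin 4) F)
      (subgroupNormalizer R ⊓ (GU 4 F q ⊓ specialLinear (Fin 4) F)) := by
  have h2 := L3.two_ne_zero_of_odd' hF (Nat.odd_iff.2 (by omega))
  obtain ⟨i, hi⟩ := FiniteField.isSquare_neg_one_iff.2 (show Fintype.card F % 4 ≠ 3 by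
    rw [hF, Nat.pow_mod, h4]; decide)
  have i0 : i ≠ 0 := by rintro rfl; simp at hi
  have hi' : Units.mk0 i i0 * Units.mk0 i i0 = -1 := Units.ext hi.symm
  have hσ := frob_i hF h4 hi.symm
  have hB := isHerm_uForm hF 4
  obtain ⟨h1, h, hP, hL, h16, h5, hR'⟩ := setup4 (by simp) h2 hi' hR ha hZ
  have iso : ∀ g ∈ GU 4 F q, ∀ u v, uForm hF 4 (g.val *ᵥ u) (g.val *ᵥ v) = uForm hF 4 u v :=
    fun g hg u v => (mem_GU_iff hF 4 g).1 hg u v
  have tv : ∀ p, uForm hF 4 p p = 0 → ∀ c, c + frob hF c = 0 →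
      ∃ t ∈ GU 4 F q ⊓ specialLinear (Fin 4) F, ∀ v, H62.toLE t v = v + (c * uForm hF 4 p v) • p :=
    fun p hp c hc => by
      obtain ⟨e, he, hx⟩ := hB.exists_transv hp hc
      obtain ⟨t, rfl⟩ := H62.toLE.surjective e
      exact ⟨t, (H62.mem_su_iff hF t).2 (axisGrp_le_sisom hp he), hx⟩
  have gU : ∀ j ∈ R, j * j = -1 →
      sc F _ (Units.mk0 _ (one_add_i hi.symm h2))⁻¹ * ga j ∈ GU 4 F q := fun j hj e =>
    (mem_GU_iff hF 4 _).2 fun u v => by
      have e3 : uForm hF 4 (j.val *ᵥ u) v = -uForm hF 4 u (j.val *ᵥ v) := by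
        rw [← iso j (hU hj), Matrix.mulVec_mulVec, nsq_val e]
        simp [Matrix.neg_mulVec]
      have e4 := one_add_i hi.symm h2
      have e5 : 1 - i ≠ 0 := fun e => h2 (by linear_combination (1 + i) * e - hi)
      simp only [glEquiv_apply, sc_mul_val, h.ga_val e, Matrix.smul_mulVec, Matrix.add_mulVec,
        Matrix.one_mulVec, form_smul_left, form_smul_right, map_add, LinearMap.add_apply,
        iso j (hU hj), e3, Units.val_inv_eq_inv_val, Units.val_mk0, map_inv₀, map_one, hσ,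
        ← sub_eq_add_neg]
      field_simp
      linear_combination -(uForm hF 4 u v) * hi
  refine max4 h hi' (h3_uni hF hp h4 hi') h1 hP hL h16 hR' h5 (fun hle => ?_)
    (fun j hj e => ⟨hU hj,
      map_j hP hL h Matrix.GeneralLinearGroup.det h16.ge (Subgroup.mem_sup_left hj) e⟩)
    (fun j hj a e k hk a' e' => ⟨mul_mem (gU j hj e) (gU k hk e'),
      map_ga2 hP hL h Matrix.GeneralLinearGroup.det h16.ge hi'
      (c := Units.mk0 _ (one_add_i hi.symm h2)) rfl (Subgroup.mem_sup_left hj) a e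
      (Subgroup.mem_sup_left hk) a' e'⟩) (fun X hX g hg => ?_) fun G R0 hB' g hg => ?_
  · obtain ⟨e, -, f, -, ee, -, ef⟩ := H62.exists_hyp_mem hB (W := ⊤)
      (by rw [hB.perp_top]; exact disjoint_bot_right) (by simp)
    obtain ⟨c, c0, hc⟩ := exists_trace_zero_ne_zero hB.ne_id hB.invol
    obtain ⟨t, ht, e'⟩ := tv e ee c hc
    exact tv_notMem_mat (by simp) h h1 hP (φ := c • uForm hF 4 e) e' (by rintro rfl; simp at ef)
      (fun e => by simpa [ef, c0] using LinearMap.congr_fun e f) (by simp [ee]) (hle ht)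
  · refine mem_map_toLE.1 (H62.mem_of_forall_fullU hB (Or.inl (by simp)) (fun p hp => ⟨hp, ?_⟩) _
      ((H62.mem_su_iff hF g).1 hg))
    intro c hc
    obtain ⟨t, ht, e⟩ := tv p hp (c / 2) (by rw [map_div₀, map_ofNat, ← add_div, hc, zero_div])
    refine ⟨_, mem_map_toLE.2 (hX t ht), fun v => ?_⟩
    rw [map_mul, LinearEquiv.mul_apply, e, e]
    simp only [map_add, map_smul, hp, smul_eq_mul]
    match_scalars <;> (field_simp; try ring)
  · let s : Matrix (Fin 4) (Fin 4) F →+ Matrix (Fin 4) (Fin 4) F :=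
      AddMonoidHom.mk' (fun a => (a.map (frob hF))ᵀ) fun a b => by ext; simp
    have adj : ∀ (a : Matrix (Fin 4) (Fin 4) F) u v,
        uForm hF 4 (a *ᵥ u) v = uForm hF 4 u (s a *ᵥ v) := fun a u v => by
      simp only [stdForm_apply, s, AddMonoidHom.mk'_apply, Matrix.mulVec, dotProduct, map_sum,
        map_mul, Finset.sum_mul, Finset.mul_sum, Matrix.transpose_apply, Matrix.map_apply]
      rw [Finset.sum_comm]
      simp only [mul_assoc, mul_left_comm]
    obtain ⟨k, hk, e⟩ := Rep.su R0 h (rep_toLin h1 le_sup_left) hF h4 hi' h16.ge hB (s := s)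
      (fun a b => by simp [s, Matrix.map_mul, Matrix.transpose_mul]) (fun x hx e => by
        refine Matrix.toLin'.injective (LinearMap.ext fun v => hB.ext_right fun u => ?_)
        rw [Matrix.toLin'_apply, Matrix.toLin'_apply, ← adj, ← iso x (hU (hR' x hx (Or.inl e))),
          Matrix.mulVec_mulVec, sq_val e, Matrix.one_mulVec])
      (fun a _ => adj a) hB' (glEquiv _ F g) ⟨(mem_GU_iff hF 4 g).1 hg.1, (det_glEquiv g).trans hg.2⟩
    rwa [show g = k from (glEquiv _ F).injective (LinearEquiv.ext e)]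

universe u

theorem jobL6 : H13.L4.JobL6.{u} := fun p R hp hF h4 hR => by
  refine max_sl4 (by simp) (hF ▸ hp) (hF ▸ h4) hR.1 hR.2 ?_
  obtain ⟨_, _, -, -, h | h | h⟩ := hR.3
  · exact absurd h.1 (by decide)
  · exact h.2.2.1
  · simpa using h.2.2.1

theorem jobU9 : H13.L4.JobU9.{u} := fun q hF p R hp hq h4 hR ha hU _ hZ =>
  max_su4 hF (hq ▸ hp) (hq ▸ h4) hR ha hU hZ

end H13.C6
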