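/- S1308, tower CB: job F2 (no element of order 4 over a point normalises all conjugate homes). -/
import Cfsg.Agent.H14.CBSpec
import Cfsg.Agent.H14.FEKit

set_option autoImplicit false

namespace H13.CBF2

open Cfsg Subgroup MulAction H14 H98 H1.Gold H31.S2 H14.GC H14.FE H14.NF H14.CB
open scoped commutatorElement

universe u

theorem jobF2 : JF2.{u} := by
  intro f1 G _ _ Q E tg Q₁ E₁ Q₂ E₂ p1 p2 hn a aQ aE a1 ha
  have el : ∀ g : G, El (cj g E) := fun g x hx => by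
    calc x * x = g * (g⁻¹ * x * g * (g⁻¹ * x * g)) * g⁻¹ := by group
      _ = 1 := by rw [tg.el _ (mem_cj.1 hx)]; group
  obtain ⟨g1, rfl, rfl⟩ := id p1
  obtain ⟨g2, rfl, rfl⟩ := id p2
  have a4 : a ^ 4 = 1 := by rw [← el g2 _ aE]; simp only [pow_succ, pow_zero]; group
  obtain ⟨o, ho, hc⟩ := f1 G (cj g1 E) (cj g2 Q) a
    (fun x => ⟨1, Subtype.ext (by simpa [pow_two] using el g1 x x.2)⟩)
    (fun d hd d1 => by
      rw [cj_cj]
      exact tg.ti g2 (d * g2) fun e => hn d hd d1 (cj_eq_self_iff.1 (by rw [cj_cj]; exact e.symm)))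
    aQ a4 ha
  have cQ : o * a * o⁻¹ ∈ cj g2 Q := conj_mem_of_mem_normalizer ho aQ
  have sE : o * a * o⁻¹ * (o * a * o⁻¹) ∈ cj o (cj g2 E) := by
    rw [show o * a * o⁻¹ * (o * a * o⁻¹) = o * (a * a) * o⁻¹ by group]
    exact conj_mem_cj aE
  have s1 : o * a * o⁻¹ * (o * a * o⁻¹) ≠ 1 := fun e => a1 (by
    calc a * a = o⁻¹ * (o * a * o⁻¹ * (o * a * o⁻¹)) * o := by group
      _ = 1 := by rw [e]; group)
  have c4 : (o * a * o⁻¹) ^ 4 = 1 := by rw [conj_pow, a4]; group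
  have p3 : Pt Q E (cj g2 Q) (cj o (cj g2 E)) :=
    ⟨o * g2, by rw [← cj_cj, cj_eq_self ho], cj_cj _ _ _⟩
  generalize o * a * o⁻¹ = c at hc cQ sE s1 c4
  have EQ : cj g1 E ≤ cj g1 Q := cj_mono _ tg.le
  have inv : ∀ d ∈ cj g1 E, d⁻¹ = d := fun d hd => inv_eq_of_mul_eq_one_right (el g1 d hd)
  have ab : ∀ d ∈ cj g1 E, ∀ e ∈ cj g1 E, d * e = e * d := fun d hd e he => by
    rw [← inv _ (mul_mem hd he), mul_inv_rev, inv d hd, inv e he]
  have cc : ∀ d ∈ cj g1 E, ∀ e ∈ cj g1 E, Commute (d * c * d⁻¹) (e * c * e⁻¹) := fun d hd e he => by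
    have := (hc _ (mul_mem (inv_mem hd) he)).map (MulAut.conj d)
    simp only [MulAut.conj_apply] at this
    convert this using 1
    group
  have q4 : ∀ d : G, (d * c * d⁻¹) ^ 4 = 1 := fun d => by rw [conj_pow, c4]; group
  have key : ∀ d ∈ cj g1 E, d ≠ 1 → ∀ e ∈ cj g1 E,
      e * c * e⁻¹ * (e * d * c * (e * d)⁻¹) = c * (d * c * d⁻¹) := fun d hd d1 e he => by
    have bN : c * (d * c * d⁻¹) ∈ nor (cj g1 Q) := tg.cen_le g1 d (EQ hd) ⟨d1, el g1 d hd⟩
      (mem_centralizer_singleton_iff.2 (by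
        calc c * (d * c * d⁻¹) * d = (d * c * d⁻¹) * c * d := by rw [(hc d hd).eq]
          _ = d * c * (d⁻¹ * c * d) := by group
          _ = d * (c * (d * c * d⁻¹)) := by rw [inv d hd]; group))
    have wQ := comm_mem_left (EQ he) bN
    have we : ⁅e, c * (d * c * d⁻¹)⁆ =
        e * c * e⁻¹ * (e * d * c * (e * d)⁻¹) * (c * (d * c * d⁻¹))⁻¹ := by
      rw [commutatorElement_def]; group
    have k1 := hc e he
    have k2 := hc _ (mul_mem he hd)
    have k3 := hc d hd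
    have wc : Commute c ⁅e, c * (d * c * d⁻¹)⁆ := by
      rw [we]
      exact (k1.mul_right k2).mul_right ((Commute.refl c).mul_right k3).inv_right
    have w4 : ⁅e, c * (d * c * d⁻¹)⁆ ^ 4 = 1 := by
      rw [we, Commute.mul_pow, (cc e he _ (mul_mem he hd)).mul_pow, inv_pow, k3.mul_pow, q4, q4,
        q4, c4]
      · group
      · exact ((k1.symm.mul_right (cc e he d hd)).mul_left
          (k2.symm.mul_right (cc _ (mul_mem he hd) d hd))).inv_right
    rw [← mul_inv_eq_one, ← we]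
    generalize ⁅e, c * (d * c * d⁻¹)⁆ = w at wQ wc w4
    by_contra w1
    have cN : c ∈ nor (cj g1 Q) := by
      by_cases w2 : w * w = 1
      · exact tg.cen_le g1 w wQ ⟨w1, w2⟩ (mem_centralizer_singleton_iff.2 wc.eq)
      · exact tg.cen_le g1 (w * w) (mul_mem wQ wQ)
          ⟨w2, by rw [← w4]; simp only [pow_succ, pow_zero]; group⟩
          (mem_centralizer_singleton_iff.2 (wc.mul_right wc).eq)
    exact hn d hd d1 (tg.mn _ _ _ _ p3 p1 _ sE s1 (mul_mem cN cN) hd)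
  obtain ⟨d, hd, e, he, di, ei, ne, -⟩ := tg.four.cj g1
  have e1 := key d hd di.1 e he
  have e2 := key e he ei.1 d hd
  rw [ab d hd e he] at e2
  have e3 : d * c * d⁻¹ * (d * c * d⁻¹) = e * c * e⁻¹ * (e * c * e⁻¹) := by
    have k1 := (hc d hd).eq
    have k2 := (hc e he).eq
    have k3 := (cc d hd e he).eq
    generalize e * d * c * (e * d)⁻¹ = x3 at e1 e2
    generalize d * c * d⁻¹ = x1 at e1 e2 k1 k3
    generalize e * c * e⁻¹ = x2 at e1 e2 k2 k3
    apply mul_left_cancel (a := c)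
    calc c * (x1 * x1) = x1 * (c * x1) := by rw [← mul_assoc, k1, mul_assoc, ← k1]
      _ = x1 * x2 * x3 := by rw [← e1, mul_assoc]
      _ = x2 * (c * x2) := by rw [k3, mul_assoc, e2]
      _ = c * (x2 * x2) := by rw [← mul_assoc, ← k2, mul_assoc]
  refine hn (e⁻¹ * d) (mul_mem (inv_mem he) hd) (fun k => ne (inv_mul_eq_one.1 k).symm)
    (tg.cen_le g2 (c * c) (mul_mem cQ cQ) ⟨s1, by rw [← c4]; simp only [pow_succ, pow_zero]; group⟩
      (mem_centralizer_singleton_iff.2 ?_))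
  calc e⁻¹ * d * (c * c) = e⁻¹ * (d * c * d⁻¹ * (d * c * d⁻¹)) * d := by group
    _ = c * c * (e⁻¹ * d) := by rw [e3]; group

end H13.CBF2
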