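import Cfsg.Agent.H40.CSSpec
import Cfsg.Agent.H18.Elt
import Cfsg.Agent.S0200
import Cfsg.Agent.S0205

/-! Tower CS (S4161): a class size condition that forces solvability. -/

set_option autoImplicit false

namespace H13.CSS

open Cfsg Subgroup H40.CS

universe u

/-- The class size condition. -/
def St (G : Type u) [Group G] : Prop :=
  ∀ t h : G, IsPrim 2 t → (∃ r : ℕ, r.Prime ∧ r ≠ 2 ∧ IsPrim r h) →
    (cs t).Coprime (cs h) ∨ ¬ 2 ∣ cs h

variable {G : Type u} [Group G]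

theorem St.sub [Finite G] (H : St G) (N : Subgroup G) [N.Normal] : St N := by
  rintro t h ⟨a, ha⟩ ⟨r, hr, r2, b, hb⟩
  have d1 := H18.index_centralizer_normal_dvd N t
  have d2 := H18.index_centralizer_normal_dvd N h
  rcases H t h ⟨a, by rw [orderOf_coe, ha]⟩ ⟨r, hr, r2, b, by rw [orderOf_coe, hb]⟩ with c | c
  · exact Or.inl ((c.coprime_dvd_left d1).coprime_dvd_right d2)
  · exact Or.inr fun e => c (e.trans d2)

theorem St.quot [Finite G] (H : St G) (N : Subgroup G) [N.Normal] : St (G ⧸ N) := by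
  rintro t h ht ⟨r, hr, r2, hh⟩
  have hs := QuotientGroup.mk'_surjective N
  obtain ⟨x, rfl, hx⟩ := H18.exists_lift_primePow _ hs Nat.prime_two ht
  obtain ⟨y, rfl, hy⟩ := H18.exists_lift_primePow _ hs hr hh
  have d1 := H18.index_centralizer_map_dvd _ hs x
  have d2 := H18.index_centralizer_map_dvd _ hs y
  rcases H x y hx ⟨r, hr, r2, hy⟩ with c | c
  · exact Or.inl ((c.coprime_dvd_left d1).coprime_dvd_right d2)
  · exact Or.inr fun e => c (e.trans d2)

theorem two_dvd [Finite G] {t h : G} (t2 : t ^ 2 = 1) (e : t * h * t⁻¹ = h⁻¹)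
    (nc : t * h ≠ h * t) : 2 ∣ cs h := by
  have ti : t⁻¹ = t := inv_eq_of_mul_eq_one_right (by rw [← pow_two, t2])
  have k : ∀ g : G, g * h = h * g → t * g * t⁻¹ * h = h * (t * g * t⁻¹) := fun g hg => by
    have h1 : h = t * h⁻¹ * t⁻¹ := by
      calc h = (t * h * t⁻¹)⁻¹ := by rw [e, inv_inv]
        _ = _ := by group
    have h2 : g * h⁻¹ = h⁻¹ * g := (show Commute g h from hg).inv_right
    calc t * g * t⁻¹ * h = t * g * t⁻¹ * (t * h⁻¹ * t⁻¹) := by rw [← h1]
      _ = t * (g * h⁻¹) * t⁻¹ := by group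
      _ = t * h⁻¹ * t⁻¹ * (t * g * t⁻¹) := by rw [h2]; group
      _ = _ := by rw [← h1]
  have tn : t ∈ normalizer ((centralizer ({h} : Set G) : Subgroup G) : Set G) := by
    refine mem_normalizer_iff.2 fun g => ⟨fun hg => ?_, fun hg => ?_⟩
    · exact mem_centralizer_singleton_iff.2 (k g (mem_centralizer_singleton_iff.1 hg))
    · have h1 := k _ (mem_centralizer_singleton_iff.1 hg)
      have h2 : t * (t * g * t⁻¹) * t⁻¹ = g := by
        calc t * (t * g * t⁻¹) * t⁻¹ = t ^ 2 * g * (t ^ 2)⁻¹ := by rw [pow_two]; group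
          _ = g := by rw [t2]; group
      rw [h2] at h1
      exact mem_centralizer_singleton_iff.2 h1
  set C : Subgroup G := centralizer ({h} : Set G)
  haveI : (C.subgroupOf (normalizer (C : Set G))).Normal := normal_in_normalizer
  haveI : Fact (Nat.Prime 2) := ⟨Nat.prime_two⟩
  have o : orderOf (QuotientGroup.mk' (C.subgroupOf (normalizer (C : Set G))) ⟨t, tn⟩) = 2 := by
    refine orderOf_eq_prime ?_ fun h1 => nc ?_
    · rw [← map_pow, show (⟨t, tn⟩ : normalizer (C : Set G)) ^ 2 = 1 from Subtype.ext t2, map_one]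
    · exact mem_centralizer_singleton_iff.1 (mem_subgroupOf.1 ((QuotientGroup.eq_one_iff _).1 h1))
  refine Dvd.dvd.trans ?_ (relIndex_dvd_index_of_le (le_normalizer (H := C)))
  rw [← o]
  exact orderOf_dvd_natCard _

theorem simple [Finite G] (B : Bas G) (H : St G) (hs : ∀ N : Subgroup G, N.Normal → N = ⊥ ∨ N = ⊤) :
    Group.IsSolvable G := by
  by_cases ho : Odd (Nat.card G)
  · exact Cfsg.Agent.S0205.result ho
  haveI : Fact (Nat.Prime 2) := ⟨Nat.prime_two⟩
  obtain ⟨t, ht⟩ := exists_prime_orderOf_dvd_card' (G := G) 2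
    (even_iff_two_dvd.1 (Nat.not_odd_iff_even.1 ho))
  by_cases h2 : IsPGroup 2 G
  · haveI := h2.isNilpotent
    infer_instance
  exfalso
  have t1 : t ≠ 1 := fun e => by simp [e] at ht
  have t2 : t ^ 2 = 1 := ht ▸ pow_orderOf_eq_one t
  obtain ⟨g, g1, go, e0⟩ := Cfsg.Agent.S0200.result t ht fun N hN hP hm => by
    rcases hs N hN with e | e
    · exact t1 (mem_bot.1 (e ▸ hm))
    · exact h2 ((e ▸ hP : IsPGroup 2 (⊤ : Subgroup G)).of_equiv topEquiv)
  obtain ⟨r, hr, rd⟩ := Nat.exists_prime_and_dvd (fun e => g1 (orderOf_eq_one_iff.1 e))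
  have r2 : r ≠ 2 := fun e => (Nat.not_even_iff_odd.2 go) (even_iff_two_dvd.2 (e ▸ rd))
  have oh : orderOf (g ^ (orderOf g / r)) = r := orderOf_pow_orderOf_div (orderOf_pos g).ne' rd
  have e : t * g ^ (orderOf g / r) * t⁻¹ = (g ^ (orderOf g / r))⁻¹ := by
    rw [← conj_pow, e0, inv_pow]
  generalize g ^ (orderOf g / r) = h at oh e
  have nc : t * h ≠ h * t := fun c => by
    rw [c, mul_inv_cancel_right] at e
    have : h ^ 2 = 1 := by rw [pow_two]; exact mul_eq_one_iff_eq_inv.2 e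
    exact r2 ((Nat.prime_dvd_prime_iff_eq hr Nat.prime_two).1 (oh ▸ orderOf_dvd_of_pow_eq_one this))
  have c := (H t h ⟨1, by rw [ht, pow_one]⟩ ⟨r, hr, r2, 1, by rw [oh, pow_one]⟩).resolve_right
    (not_not.2 (two_dvd t2 e nc))
  have inv : ∀ k : G, k * t * k⁻¹ * h * (k * t * k⁻¹)⁻¹ = h⁻¹ := fun k => by
    obtain ⟨a, ha, ea⟩ := B.f1 h t c.symm k
    have a1 : a⁻¹ * h * a = h := by rw [mul_assoc, ← ha.eq, inv_mul_cancel_left]
    have a2 : a * h⁻¹ * a⁻¹ = h⁻¹ := by rw [ha.inv_right.eq, mul_inv_cancel_right]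
    calc k * t * k⁻¹ * h * (k * t * k⁻¹)⁻¹ = a * (t * (a⁻¹ * h * a) * t⁻¹) * a⁻¹ := by
          rw [ea]; group
      _ = h⁻¹ := by rw [a1, e, a2]
  have mem : t * (h * t * h⁻¹) ∈ (centralizer ({h} : Set G)).normalCore := fun b => by
    rw [mem_centralizer_singleton_iff, ← mul_inv_eq_iff_eq_mul]
    calc b * (t * (h * t * h⁻¹)) * b⁻¹ * h * (b * (t * (h * t * h⁻¹)) * b⁻¹)⁻¹
        = b * t * b⁻¹ * (b * h * t * (b * h)⁻¹ * h * (b * h * t * (b * h)⁻¹)⁻¹) * (b * t * b⁻¹)⁻¹ := by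
          group
      _ = (b * t * b⁻¹ * h * (b * t * b⁻¹)⁻¹)⁻¹ := by rw [inv]; group
      _ = h := by rw [inv, inv_inv]
  rcases hs _ (normalCore_normal (centralizer ({h} : Set G))) with e1 | e1
  · have h1 : t * (h * t * h⁻¹) = 1 := mem_bot.1 (e1 ▸ mem)
    have h3 : h * t * h⁻¹ = t := (eq_inv_of_mul_eq_one_right h1).trans
      (inv_eq_of_mul_eq_one_right (by rw [← pow_two, t2]))
    exact nc (mul_inv_eq_iff_eq_mul.1 h3).symm
  · exact nc (mem_centralizer_singleton_iff.1 (normalCore_le _ (e1 ▸ mem_top t)))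

theorem main (hB : JobB.{u}) (n : ℕ) : ∀ (G : Type u) [Group G] [Finite G], Nat.card G = n → St G →
    Group.IsSolvable G := by
  induction n using Nat.strong_induction_on with
  | _ n ih =>
  intro G _ _ hn H
  by_cases hs : ∀ N : Subgroup G, N.Normal → N = ⊥ ∨ N = ⊤
  · exact simple (hB G) H hs
  push Not at hs
  obtain ⟨N, hN, h1, h2⟩ := hs
  have e := N.card_mul_index
  have a1 : 1 < Nat.card N := (one_lt_card_iff_ne_bot N).2 h1
  have a2 : 1 < N.index := one_lt_index_of_ne_top h2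
  haveI : Group.IsSolvable N := ih _ (by rw [← hn, ← e]; nlinarith) N rfl (H.sub N)
  haveI : Group.IsSolvable (G ⧸ N) :=
    ih N.index (by rw [← hn, ← e]; nlinarith) (G ⧸ N) rfl (H.quot N)
  exact solvable_of_ker_le_range N.subtype (QuotientGroup.mk' N) (by
    rw [QuotientGroup.ker_mk', range_subtype])

theorem job : H40.CS.JobS.{u} := fun hB G _ _ H => main hB _ G rfl H

end H13.CSS
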