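/- S3275, chapter U0, section C: job C0 (choice of `P`, `z`, `u` for a bad element). -/
import Cfsg.Agent.H98.DP0CSpec
import Cfsg.Agent.H9.OddRank

set_option autoImplicit false

namespace H13.DP0C0

open Subgroup Cfsg H98 H48.DP H57.DPC H48.DP2 H98.DP0C
open scoped commutatorElement

universe u

variable {G : Type u} [Group G]

theorem ea_p {A : Subgroup G} (h : IsElementaryAbelian 3 A) : IsPGroup 3 A :=
  fun b => ⟨1, Subtype.ext (by simpa using h.2 b b.2)⟩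

theorem ea_le {A B : Subgroup G} (h : IsElementaryAbelian 3 B) (hA : A ≤ B) :
    IsElementaryAbelian 3 A :=
  ⟨H9.isMulCommutative_of_le h.1 hA, fun a ha => h.2 a (hA ha)⟩

theorem ea_zp {x : G} (h : orderOf x = 3) : IsElementaryAbelian 3 (zpowers x) := by
  refine ⟨inferInstance, ?_⟩
  rintro _ ⟨n, rfl⟩
  have : x ^ 3 = 1 := h ▸ pow_orderOf_eq_one x
  show (x ^ n) ^ 3 = 1
  rw [← zpow_natCast, ← zpow_mul, mul_comm, zpow_mul, zpow_natCast, this, one_zpow]

theorem ea_sup {A B : Subgroup G} (hA : IsElementaryAbelian 3 A) (hB : IsElementaryAbelian 3 B)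
    (h : A ≤ Ce B) : IsElementaryAbelian 3 (A ⊔ B) := by
  have hn : A ≤ No B := le_normalizer_of_le_centralizer h
  have c : ∀ a ∈ A, ∀ b ∈ B, Commute a b := fun a ha b hb => (h ha b hb).symm
  have cA : ∀ a ∈ A, ∀ b ∈ A, Commute a b := H9.isMulCommutative_iff_forall.1 hA.1
  have cB : ∀ a ∈ B, ∀ b ∈ B, Commute a b := H9.isMulCommutative_iff_forall.1 hB.1
  refine ⟨H9.isMulCommutative_iff_forall.2 fun x hx y hy => ?_, fun x hx => ?_⟩
  · obtain ⟨a, ha, b, hb, rfl⟩ := (mem_sup_left_norm hn).1 hx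
    obtain ⟨a', ha', b', hb', rfl⟩ := (mem_sup_left_norm hn).1 hy
    exact (((cA a ha a' ha').mul_right (c a ha b' hb')).mul_left
      ((c a' ha' b hb).symm.mul_right (cB b hb b' hb'))).eq
  · obtain ⟨a, ha, b, hb, rfl⟩ := (mem_sup_left_norm hn).1 hx
    rw [(c a ha b hb).mul_pow, hA.2 a ha, hB.2 b hb, one_mul]

theorem zp_le_ce {x : G} {B : Subgroup G} (h : B ≤ C1 x) : zpowers x ≤ Ce B :=
  zpowers_le.2 fun b hb => mem_centralizer_singleton_iff.1 (h hb)

theorem le_ce_zp {x : G} {B : Subgroup G} (h : B ≤ C1 x) : B ≤ Ce (zpowers x) :=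
  le_centralizer_iff.1 (zp_le_ce h)

theorem e27_cj {B : Subgroup G} (h : E27 B) (g : G) : E27 (cj g B) := by
  refine ⟨⟨H9.isMulCommutative_iff_forall.2 fun a ha b hb => ?_, fun a ha => ?_⟩,
    by rw [card_cj]; exact h.2⟩
  · have e := H9.isMulCommutative_iff_forall.1 h.1.1 _ (mem_cj.1 ha) _ (mem_cj.1 hb)
    calc a * b = g * (g⁻¹ * a * g * (g⁻¹ * b * g)) * g⁻¹ := by group
      _ = b * a := by rw [e]; group
  · have := h.1.2 _ (mem_cj.1 ha)
    calc a ^ 3 = g * (g⁻¹ * a * g) ^ 3 * g⁻¹ := by simp only [pow_succ, pow_zero]; group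
      _ = 1 := by rw [this]; group

variable [Finite G]

theorem step {A W : Subgroup G} (hW : IsPGroup 3 W) (h : A < W) :
    3 * Nat.card A ≤ Nat.card W := by
  have : Fact (Nat.Prime 3) := ⟨Nat.prime_three⟩
  obtain ⟨a, ha⟩ := (IsPGroup.iff_card).1 (hW.to_le h.le)
  obtain ⟨w, hw⟩ := (IsPGroup.iff_card).1 hW
  have hlt : Nat.card A < Nat.card W := lt_of_le_of_ne (card_le_of_le h.le) fun e =>
    h.ne (eq_of_le_of_card_ge h.le e.ge)
  rw [ha, hw] at hlt ⊢
  rw [← pow_succ']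
  exact Nat.pow_le_pow_right (by norm_num) ((Nat.pow_lt_pow_iff_right (by norm_num)).1 hlt)

/-- a normal `3²` of a 3-group that contains a `3³`. -/
theorem up {P B : Subgroup G} (hP : IsPGroup 3 P) (hB : E27 B) (h : B ≤ P) :
    ∃ z ∈ P, ∃ u ∈ P, orderOf z = 3 ∧ orderOf u = 3 ∧ u ∉ zpowers z ∧ P ≤ C1 z ∧
      ∀ g ∈ P, ⁅g, u⁆ ∈ zpowers z := by
  have : Fact (Nat.Prime 3) := ⟨Nat.prime_three⟩
  have hnc : ¬ IsCyclic (⊤ : Subgroup P) := fun hc => by
    have hc' : IsCyclic P := isCyclic_of_surjective _ Subgroup.topEquiv.surjective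
    have := H9.card_le_of_le_cyclic hc' h (n := 3) (by norm_num) hB.1.2
    have := hB.2
    omega
  obtain ⟨E, hEn, -, hE, hEc⟩ := H9.exists_normal_elementary_sq (by norm_num) hP ⊤ hnc
  have hE1 : E ≠ ⊥ := fun e => by rw [e] at hEc; simp at hEc
  obtain ⟨z, hzE, hzZ, hz⟩ := H9.exists_mem_center_orderOf_eq hP hE1
  have hN : (zpowers z).Normal := H9.normal_of_le_center' (zpowers_le.2 hzZ)
  have hEN : ¬ E ≤ zpowers z := fun e => by
    have := card_le_of_le e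
    rw [Nat.card_zpowers, hz, hEc] at this
    omega
  have hE2 : E.map (QuotientGroup.mk' (zpowers z)) ≠ ⊥ := fun e => hEN (by
    rwa [Subgroup.map_eq_bot_iff, QuotientGroup.ker_mk'] at e)
  have : (E.map (QuotientGroup.mk' (zpowers z))).Normal :=
    hEn.map _ (QuotientGroup.mk'_surjective _)
  obtain ⟨_, ⟨u, huE, rfl⟩, huZ, hu⟩ :=
    H9.exists_mem_center_orderOf_eq (hP.to_quotient (zpowers z)) hE2
  have hu1 : u ∉ zpowers z := fun e => by
    have : QuotientGroup.mk' (zpowers z) u = 1 := (QuotientGroup.eq_one_iff _).2 e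
    rw [this, orderOf_one] at hu
    omega
  have back : ∀ w : P, (w : G) ∈ zpowers (z : G) ↔ w ∈ zpowers z := fun w =>
    ⟨fun ⟨n, hn⟩ => ⟨n, Subtype.ext (by simpa using hn)⟩,
      fun ⟨n, hn⟩ => ⟨n, by simpa using congrArg Subtype.val hn⟩⟩
  refine ⟨z, z.2, u, u.2, by rw [orderOf_coe, hz], ?_, fun e => hu1 ((back u).1 e), ?_, ?_⟩
  · rw [orderOf_coe]
    exact orderOf_eq_prime (hE.2 u huE) fun e => hu1 (e ▸ one_mem _)
  · intro g hg
    exact mem_centralizer_singleton_iff.2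
      (congrArg Subtype.val (mem_center_iff.1 hzZ ⟨g, hg⟩))
  · intro g hg
    have : ⁅(⟨g, hg⟩ : P), u⁆ ∈ zpowers z := by
      rw [← QuotientGroup.eq_one_iff, ← QuotientGroup.mk'_apply, map_commutatorElement,
        commutatorElement_eq_one_iff_mul_comm]
      exact mem_center_iff.1 huZ _
    exact (back _).2 this

theorem jobC0 : JobC0.{u} := by
  intro iso G _ _ M Q y h yM y3 bad
  have : Fact (Nat.Prime 3) := ⟨Nat.prime_three⟩
  obtain ⟨B, BM, hB⟩ := h.e27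
  obtain ⟨P0, hP0, yP0⟩ := exists_isSyl_le (p := 3) (H := M) (ea_p (ea_zp y3)) (zpowers_le.2 yM)
  obtain ⟨g0, -, hg0⟩ := hP0.exists_cj_le (ea_p hB.1) BM
  obtain ⟨z0, z0P, -, -, z03, -, -, z0c, -⟩ := up hP0.isPGroup (e27_cj hB g0) hg0
  have z0g : Good z0 := ⟨cj g0 B ⊔ zpowers z0, ⟨ea_sup (e27_cj hB g0).1 (ea_zp z03)
    (le_ce_zp (hg0.trans z0c)), (e27_cj hB g0).2.trans (card_le_of_le le_sup_left)⟩,
    mem_sup_right (mem_zpowers _)⟩
  obtain ⟨R0, hR0, hR0'⟩ := exists_isSyl_le (p := 3) (H := C1 y) (Q := zpowers y ⊔ zpowers z0)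
    (hP0.isPGroup.to_le (sup_le yP0 (zpowers_le.2 z0P)))
    (sup_le (zpowers_le.2 (mem_centralizer_singleton_iff.2 rfl)) (zpowers_le.2
      (mem_centralizer_singleton_iff.2
        (mem_centralizer_singleton_iff.1 (z0c (yP0 (mem_zpowers y)))).symm)))
  obtain ⟨P, hP⟩ := hR0.isPGroup.exists_le_sylow
  have yP : y ∈ (P : Subgroup G) := hP (hR0' (mem_sup_left (mem_zpowers y)))
  have PM : (P : Subgroup G) ≤ M := t3 h P.isPGroup' z03 z0g (hP0.le z0P)
    (hP (hR0' (mem_sup_right (mem_zpowers z0))))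
  obtain ⟨g1, -, hg1⟩ := (isSyl_sylow P).exists_cj_le (ea_p hB.1) le_top
  have hB1 := e27_cj hB g1
  generalize cj g1 B = B1 at hg1 hB1
  obtain ⟨z1, z1P, u, uP, z13, u3, uz, z1c, hc⟩ := up P.isPGroup' hB1 hg1
  have hU : IsElementaryAbelian 3 (zpowers z1 ⊔ zpowers u) :=
    ea_sup (ea_zp z13) (ea_zp u3) (zp_le_ce ((zpowers_le.2 uP).trans z1c))
  have UP : zpowers z1 ⊔ zpowers u ≤ (P : Subgroup G) :=
    sup_le (zpowers_le.2 z1P) (zpowers_le.2 uP)
  have U9 : 9 ≤ Nat.card ↥(zpowers z1 ⊔ zpowers u) := by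
    have := step (ea_p hU) (A := zpowers z1) (lt_of_le_of_ne le_sup_left fun e =>
      uz (e ▸ mem_sup_right (mem_zpowers u)))
    rwa [Nat.card_zpowers, z13] at this
  have ce : ∀ {A : Subgroup G}, A ≤ (P : Subgroup G) → A ≤ C1 u →
      A ≤ Ce (zpowers z1 ⊔ zpowers u) := fun h1 h2 =>
    le_centralizer_iff.1 (sup_le (zp_le_ce (h1.trans z1c)) (zp_le_ce h2))
  have inU : InU M (zpowers z1 ⊔ zpowers u) := by
    have i3 : (C1 u).relIndex B1 ≤ 3 := by
      have := H9.relIndex_centralizer_le_card (H := B1) (N := zpowers z1) (x := u) fun g hg => by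
        rw [← commutatorElement_inv]; exact inv_mem (hc g (hg1 hg))
      rwa [Nat.card_zpowers, z13] at this
    have A9 : 9 ≤ Nat.card ↥(C1 u ⊓ B1) := by
      have e1 := ((C1 u).subgroupOf B1).index_mul_card
      have e2 : Nat.card ((C1 u).subgroupOf B1) = Nat.card ↥(C1 u ⊓ B1) := by
        rw [← inf_subgroupOf_right]
        exact Nat.card_congr (subgroupOfEquivOfLe inf_le_right).toEquiv
      have e3 := hB1.2
      rw [e2] at e1
      change (C1 u).relIndex B1 * _ = _ at e1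
      nlinarith
    have hW := ea_sup (ea_le hB1.1 (inf_le_right (a := C1 u))) hU
      (ce (inf_le_right.trans hg1) inf_le_left)
    rcases (le_sup_left (a := C1 u ⊓ B1) (b := zpowers z1 ⊔ zpowers u)).eq_or_lt with e | e
    · exact ⟨B1, hg1.trans PM, hB1, le_sup_right.trans (e.ge.trans inf_le_right)⟩
    · have := step (ea_p hW) e
      exact ⟨_, (sup_le (inf_le_right.trans hg1) UP).trans PM, ⟨hW, by omega⟩, le_sup_right⟩
  have nyu : y ∉ C1 u := fun k => by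
    have hW := ea_sup (ea_zp y3) hU (ce (zpowers_le.2 yP) (zpowers_le.2 k))
    rcases (le_sup_right (a := zpowers y) (b := zpowers z1 ⊔ zpowers u)).eq_or_lt with e | e
    · obtain ⟨B2, -, h2, h3⟩ := inU
      exact bad ⟨B2, h2, h3 (e.ge (mem_sup_left (mem_zpowers y)))⟩
    · have := step (ea_p hW) e
      exact bad ⟨_, ⟨hW, by omega⟩, mem_sup_left (mem_zpowers y)⟩
  have zm : ⁅y⁻¹, u⁆ ∈ zpowers z1 := hc _ (inv_mem yP)
  have zne : ⁅y⁻¹, u⁆ ≠ 1 := fun e => nyu (by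
    rw [commutatorElement_eq_one_iff_mul_comm] at e
    simpa using inv_mem (mem_centralizer_singleton_iff.2 e : y⁻¹ ∈ C1 u))
  have z3 : orderOf ⁅y⁻¹, u⁆ = 3 := orderOf_eq_prime ((ea_zp z13).2 _ zm) zne
  have ze : zpowers ⁅y⁻¹, u⁆ = zpowers z1 := eq_of_le_of_card_ge (zpowers_le.2 zm)
    (by rw [Nat.card_zpowers, Nat.card_zpowers, z13, z3])
  have uy : u * y * u⁻¹ = y * ⁅y⁻¹, u⁆ := by rw [commutatorElement_def]; group
  generalize ⁅y⁻¹, u⁆ = z at zm z3 ze uy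
  have zP : z ∈ (P : Subgroup G) := zpowers_le.2 z1P zm
  have Pz : (P : Subgroup G) ≤ C1 z := fun g hg =>
    mem_centralizer_singleton_iff.2 (le_ce_zp z1c hg z zm).symm
  refine ⟨z, u, { h with
    syl := ⟨P, PM, yP, zP, uP, Pz, ?_, fun R hR a b => ?_⟩, y3 := y3, z3 := z3, u3 := u3, uy := uy,
    bad := bad, uU := by rw [ze]; exact inU,
    iso := iso G M Q P y z h.toUa PM yP zP Pz y3 z3 (fun k => ?_) fun ⟨B2, _, h2, h3⟩ =>
      bad ⟨B2, h2, h3 (mem_sup_left (mem_zpowers y))⟩ }⟩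
  · intro g hg
    refine mem_normalizer_of_cj_le (cj_le_iff.2 (sup_le (zpowers_le.2 ?_) (zpowers_le.2 ?_)))
    · rw [mem_cj, inv_inv, mem_centralizer_singleton_iff.1 (Pz hg), mul_inv_cancel_right]
      exact mem_sup_left (mem_zpowers z)
    · rw [mem_cj, inv_inv, show g * u * g⁻¹ = ⁅g, u⁆ * u by rw [commutatorElement_def]; group]
      exact mul_mem (mem_sup_left (ze ▸ hc g hg)) (mem_sup_right (mem_zpowers u))
  · exact (hR0.eq_of_le hR ((le_inf hP hR0.le).trans a) b).le.trans hP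
  · obtain ⟨B2, -, h2, h3⟩ := inU
    exact bad ⟨B2, h2, h3 (mem_sup_left (ze ▸ k))⟩

end H13.DP0C0
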