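/- S3275, chapter U0, section B: job K3 (invariant 3'-groups and 3-groups over a `3³`). -/
import Cfsg.Agent.H92.DP0BSpec
import Cfsg.Agent.H13.DP0C0
import Cfsg.Agent.H1.CoprimeGen

set_option autoImplicit false

namespace H13.DP0BK3

open Subgroup Cfsg H98 H48.DP H57.DPC H48.DP2 H92.DPB
open H13.DP0C0 (step zp_le_ce le_ce_zp ea_sup)
open scoped commutatorElement

universe u

variable {G : Type u} [Group G] [Finite G]

theorem ncyc {A : Subgroup G} (hA : IsElementaryAbelian 3 A) (h : 9 ≤ Nat.card A) :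
    ¬ IsCyclic A := fun hc => by
  have := H9.card_le_of_le_cyclic hc le_rfl (n := 3) (by norm_num) hA.2
  omega

theorem cop {A Y : Subgroup G} (hA : IsElementaryAbelian 3 A) (hY : ¬ 3 ∣ Nat.card Y) :
    (Nat.card A).Coprime (Nat.card Y) := by
  have : Fact (Nat.Prime 3) := ⟨Nat.prime_three⟩
  obtain ⟨k, hk⟩ := IsPGroup.iff_card.1 (el_pg hA)
  rw [hk]
  exact ((Nat.Prime.coprime_iff_not_dvd Nat.prime_three).2 hY).pow_left k

theorem ex_out {A B : Subgroup G} (h : Nat.card A < Nat.card B) : ∃ b ∈ B, b ∉ A := by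
  by_contra hn
  push Not at hn
  exact absurd (card_le_of_le (show B ≤ A from hn)) (not_le.2 h)

theorem part1 {M Q B : Subgroup G} (h : Ua M Q) (hB : E27 B) (BM : B ≤ M) (Y : Subgroup G)
    (hY : ¬ 3 ∣ Nat.card Y) (hn : B ≤ No Y) : Y ≤ M := by
  have : Fact (Nat.Prime 3) := ⟨Nat.prime_three⟩
  have h27 := hB.2
  have o3 : ∀ b ∈ B, b ≠ 1 → orderOf b = 3 := fun b hb h1 => orderOf_eq_prime (hB.1.2 b hb) h1
  have := hB.1.1
  refine H1.le_of_noncyclic_centralizer_le (ncyc hB.1 (by omega)) hn (cop hB.1 hY) M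
    fun b hb b1 => ?_
  have b3 := o3 b hb b1
  obtain ⟨c, hc, cb⟩ := ex_out (A := zpowers b) (B := B) (by rw [Nat.card_zpowers, b3]; omega)
  have c3 := o3 c hc fun e => cb (e ▸ one_mem _)
  have hE := e9 c3 b3 (el_comm hB.1 hc hb) cb
  obtain ⟨d, hd, dE⟩ := ex_out (A := zpowers c ⊔ zpowers b) (B := B) (by rw [hE.2]; omega)
  have d3 := o3 d hd fun e => dE (e ▸ one_mem _)
  have hA := e9 d3 c3 (el_comm hB.1 hd hc) fun k => dE (mem_sup_left k)
  have AB : zpowers d ⊔ zpowers c ≤ B := sup_le (zpowers_le.2 hd) (zpowers_le.2 hc)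
  have bA : b ∉ zpowers d ⊔ zpowers c := fun k => dE (by
    rw [eq_of_le_of_card_ge (sup_le le_sup_right (zpowers_le.2 k) :
      zpowers c ⊔ zpowers b ≤ zpowers d ⊔ zpowers c) (by rw [hA.2, hE.2])]
    exact mem_sup_left (mem_zpowers d))
  have := hA.1.1
  have Bb : B ≤ C1 b := fun x hx => mem_centralizer_singleton_iff.2 (el_comm hB.1 hx hb).eq
  refine H1.le_of_noncyclic_centralizer_le (ncyc hA.1 hA.2.ge)
    (AB.trans (le_normalizer_inf hn (le_normalizer_of_le Bb)))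
    (cop hA.1 fun k => hY (k.trans (card_dvd_of_le inf_le_left))) M fun a ha a1 => ?_
  have a3 := o3 a (AB ha) a1
  have ab : a ∉ zpowers b := fun k => bA (zpowers_le.2 ha (by
    rw [eq_of_le_of_card_ge (zpowers_le.2 k) (by rw [Nat.card_zpowers, Nat.card_zpowers, a3, b3])]
    exact mem_zpowers b))
  have hF := e9 a3 b3 (el_comm hB.1 (AB ha) hb) ab
  refine le_trans (le_normalizer_of_le_centralizer ?_) (h.n9 _
    ⟨B, BM, hB, sup_le (zpowers_le.2 (AB ha)) (zpowers_le.2 hb)⟩ hF.2.ge)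
  exact le_centralizer_iff.1 (sup_le (zp_le_ce inf_le_right)
    (zp_le_ce (inf_le_left.trans inf_le_right)))

theorem part2 {M Q B : Subgroup G} (h : Ua M Q) (hB : E27 B) (BM : B ≤ M) (R : Subgroup G)
    (hR : IsPGroup 3 R) (BR : B ≤ R) : R ≤ M ∧ No R ≤ M := by
  have : Fact (Nat.Prime 3) := ⟨Nat.prime_three⟩
  have RM : R ≤ M := by
    have := hR.isNilpotent
    by_contra hn
    have h1 : M.subgroupOf R < ⊤ := lt_top_iff_ne_top.2 fun e => hn (subgroupOf_eq_top.1 e)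
    obtain ⟨r, hr, hr'⟩ := SetLike.exists_of_lt (normalizerCondition_of_isNilpotent _ h1)
    refine hr' (h.t27 B r hB BM ?_)
    rintro _ ⟨b, hb, rfl⟩
    exact (mem_normalizer_iff.1 hr ⟨b, BR hb⟩).1 (BM hb)
  exact ⟨RM, fun g hg => h.t27 B g hB BM ((cj_le_of_le BR hg).trans RM)⟩

theorem part3 {M B : Subgroup G} (hB : E27 B) (BM : B ≤ M) (U : Subgroup G) (UM : U ≤ M)
    (hU : IsElementaryAbelian 3 U) (U9 : Nat.card U = 9) (hn : B ≤ No U) : InU M U := by
  have : Fact (Nat.Prime 3) := ⟨Nat.prime_three⟩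
  have hP : IsPGroup 3 ↥(B ⊔ U) := (el_pg hB.1).to_sup_of_normal_right' (el_pg hU) hn
  have hN : (U.subgroupOf (B ⊔ U)).Normal :=
    (normal_subgroupOf_iff_le_normalizer le_sup_right).2 (sup_le hn le_normalizer)
  have hc : Nat.card (U.subgroupOf (B ⊔ U)) = 9 := by
    rw [← U9]; exact Nat.card_congr (subgroupOfEquivOfLe le_sup_right).toEquiv
  have h1 : U.subgroupOf (B ⊔ U) ≠ ⊥ := fun e => by rw [e] at hc; simp at hc
  obtain ⟨z, zU, zZ, z3⟩ := H9.exists_mem_center_orderOf_eq hP h1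
  have := H9.normal_of_le_center' (zpowers_le.2 zZ)
  obtain ⟨w, wU, wz, -, hw⟩ := H9.exists_central_step hP (N := zpowers z)
    (K := U.subgroupOf (B ⊔ U)) fun e => by
      have := card_le_of_le e
      rw [Nat.card_zpowers, z3, hc] at this
      omega
  have back : ∀ v : ↥(B ⊔ U), (v : G) ∈ zpowers (z : G) ↔ v ∈ zpowers z := fun v =>
    ⟨fun ⟨n, hn⟩ => ⟨n, Subtype.ext (by simpa using hn)⟩,
      fun ⟨n, hn⟩ => ⟨n, by simpa using congrArg Subtype.val hn⟩⟩
  have z3' : orderOf (z : G) = 3 := by rw [orderOf_coe, z3]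
  have wz' : (w : G) ∉ zpowers (z : G) := fun k => wz ((back w).1 k)
  have w3 : orderOf (w : G) = 3 := orderOf_eq_prime (hU.2 _ wU) fun e => wz' (e ▸ one_mem _)
  have hE := e9 w3 z3' (el_comm hU wU zU) wz'
  have eU : zpowers (w : G) ⊔ zpowers (z : G) = U :=
    eq_of_le_of_card_ge (sup_le (zpowers_le.2 wU) (zpowers_le.2 zU)) (by rw [hE.2, U9])
  have Bz : B ≤ C1 (z : G) := fun g hg => mem_centralizer_singleton_iff.2
    (congrArg Subtype.val (mem_center_iff.1 zZ ⟨g, mem_sup_left hg⟩))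
  have i3 : (C1 (w : G)).relIndex B ≤ 3 := by
    have := H9.relIndex_centralizer_le_card (H := B) (N := zpowers (z : G)) (x := (w : G))
      fun g hg => (back _).2 (hw ⟨g, mem_sup_left hg⟩)
    rwa [Nat.card_zpowers, z3'] at this
  have A9 : 9 ≤ Nat.card ↥(C1 (w : G) ⊓ B) := by
    have e1 := ((C1 (w : G)).subgroupOf B).index_mul_card
    have e2 : Nat.card ((C1 (w : G)).subgroupOf B) = Nat.card ↥(C1 (w : G) ⊓ B) := by
      rw [← inf_subgroupOf_right]
      exact Nat.card_congr (subgroupOfEquivOfLe inf_le_right).toEquiv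
    have e3 := hB.2
    rw [e2] at e1
    change (C1 (w : G)).relIndex B * _ = _ at e1
    nlinarith
  have ce : C1 (w : G) ⊓ B ≤ Ce U := le_centralizer_iff.1 (eU.ge.trans
    (sup_le (zp_le_ce inf_le_left) (zp_le_ce (inf_le_right.trans Bz))))
  have hW := ea_sup (el_le hB.1 (inf_le_right (a := C1 (w : G)))) hU ce
  rcases (le_sup_left (a := C1 (w : G) ⊓ B) (b := U)).eq_or_lt with e | e
  · exact ⟨B, BM, hB, le_sup_right.trans (e.ge.trans inf_le_right)⟩
  · have := step (el_pg hW) e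
    exact ⟨_, sup_le (inf_le_right.trans BM) UM, ⟨hW, by omega⟩, le_sup_right⟩

theorem jobK3 : JobK3.{u} := fun _ _ _ _ _ h _ hB BM =>
  ⟨part1 h hB BM, part2 h hB BM, part3 hB BM⟩

end H13.DP0BK3
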