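/- Tower EA: fusion of central elements of a defect group is realised by automorphisms. -/
import Cfsg.Agent.H68.EaSpec

set_option autoImplicit false

open scoped MonoidAlgebra

namespace H13.EACF

open Cfsg H28 H34 H35 H36 H39 H24.KB Subgroup

universe u

theorem le_cen_zpowers {G : Type*} [Group G] [Finite G] {D : Subgroup G} {z : D} (hz : z ∈ center D) :
    D ≤ Cen (zpowers (z : G)) := fun x hx => by
  rw [cen_zpowers, Subgroup.mem_centralizer_singleton_iff]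
  exact congrArg Subtype.val (Subgroup.mem_center_iff.1 hz ⟨x, hx⟩)

theorem jobCF : H68.EA.JobCF.{u} := by
  intro G _ _ p M _ B D e h z w hz hw hc
  have := Fact.mk h.hM.1
  have := charP_F h.hM
  obtain ⟨g, -, h0, hg, f, h1, h2⟩ := (h.fc_iff z.2 w.2).1 (h.cj_iff.1 hc)
  have h3 := (h.hm.local_of_le_cen h2 (by rw [cS_zpowers, h0]; exact le_cen_zpowers hw)).cj g⁻¹
  rw [cS_inf_cen_of_mem ((⊤ : Subgroup G).inv_mem hg), cS_inv_cS, cj_inv_cj] at h3
  obtain ⟨y, hy, h4⟩ := (h.hm.local_of_le_cen h1 (le_cen_zpowers hz)).exists_cj_sub h3.bp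
  rw [cS_cS, cj_cj] at h4
  have h5 : cS (y * g⁻¹) D = D := Subgroup.eq_of_le_of_card_ge h4.le (card_cS _ _).ge
  refine ⟨D.normalizerMonoidHom ⟨_, inv_mem (cS_eq_iff.1 h5)⟩, Subtype.ext ?_⟩
  change (y * g⁻¹)⁻¹ * z * (y * g⁻¹)⁻¹⁻¹ = w
  rw [← h0]
  conv_rhs => rw [← cen_conj_eq (inv_mem hy.2) (Subgroup.mem_zpowers (z : G))]
  group

end H13.EACF
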