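/- Tower FE (S1308): a Sylow subgroup of the standard subgroup centralises `T`, or `T` is abelian. -/
import Cfsg.Agent.H14.FESpec

set_option autoImplicit false

namespace H13.FEK2a

open Cfsg Subgroup MulAction H14 H98 H1.Gold H31.S2 H14.GC H14.FE
open scoped commutatorElement

universe u

theorem ni_one {G : Type u} [Group G] {Y : Subgroup G} (h : NI Y) :
    ∀ (n : ℕ) (c : G), c ∈ Y → c ^ 2 ^ n = 1 → c = 1
  | 0, c, _, e => by simpa using e
  | n + 1, c, hc, e => by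
    have h1 : c * c = 1 := ni_one h n _ (mul_mem hc hc) (by rw [← sq, ← pow_mul, ← pow_succ', e])
    by_contra h2
    exact h c hc ⟨h2, h1⟩

theorem ni_of_odd {G : Type u} [Group G] {Y : Subgroup G} (h : Odd (Nat.card Y)) : NI Y :=
  fun d hd hi => by
    have := orderOf_dvd_natCard Y hd
    rw [inv_iff.1 hi] at this
    exact Nat.not_even_iff_odd.2 h (even_iff_two_dvd.2 this)

theorem jobK2a : JobK2a.{u} := by
  intro G _ _ K hK g R T ed ni
  have : Fact (Nat.Prime 2) := ⟨Nat.prime_two⟩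
  set Q := cj g (cen K) with hQ
  have TK : T ≤ normalizer (K : Set G) := hK.2.2.2 ▸ ed.le
  have TQ : T ≤ Q := ed.sylT.le
  obtain ⟨P, hP, TP⟩ := exists_isSyl_le ed.sylT.isPGroup (le_sup_right : T ≤ K ⊔ T)
  have two : ∀ c ∈ P, ∃ n : ℕ, c ^ 2 ^ n = 1 := isPGroup_iff_forall.1 hP.isPGroup
  have hS : IsSyl 2 (P ⊓ K) K :=
    hP.inf_of_le_normalizer le_sup_left (hP.le.trans (sup_le le_normalizer TK))
  have cm : ∀ s ∈ P, s ∈ K → s ∈ normalizer (Q : Set G) → ∀ t ∈ T, Commute s t :=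
    fun s hs sK sQ t ht => by
      obtain ⟨n, hn⟩ := two ⁅s, t⁆ (mul_mem (mul_mem (mul_mem hs (TP ht)) (inv_mem hs))
        (inv_mem (TP ht)))
      refine commutatorElement_eq_one_iff_commute.1 (ni_one ni n _ ⟨?_, ?_⟩ hn)
      · have e : ⁅s, t⁆ = s * (t * s⁻¹ * t⁻¹) := by simp only [commutatorElement_def]; group
        rw [e]
        exact mul_mem sK (conj_mem_of_mem_normalizer (TK ht) (inv_mem sK))
      · exact Q.mul_mem (conj_mem_of_mem_normalizer sQ (TQ ht)) (Q.inv_mem (TQ ht))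
  by_cases hle : P ≤ normalizer (Q : Set G)
  · exact .inr ⟨_, hS, fun s hs => mem_centralizer_iff.2 fun t ht =>
      (cm s hs.1 hs.2 (hle hs.1) t ht).symm⟩
  left
  set P0 := P ⊓ normalizer (Q : Set G) with hP0
  have TP0 : T ≤ P0 := le_inf TP (TQ.trans le_normalizer)
  have lt : P0 < P := lt_of_le_of_ne inf_le_left fun e => hle (inf_eq_left.1 e)
  obtain ⟨y, hy, hy0⟩ := SetLike.exists_of_lt (lt_inf_normalizer hP.isPGroup lt)
  obtain ⟨yP, yN⟩ : y ∈ P ∧ y ∈ normalizer (P0 : Set G) := by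
    first | exact ⟨hy.1, hy.2⟩ | exact ⟨hy.2, hy.1⟩
  obtain ⟨x, xK, t0, ht0, rfl⟩ := (mem_sup_right_norm TK).1 (hP.le yP)
  have xP : x ∈ P := (mul_mem_cancel_right (TP ht0)).1 yP
  have xN : x ∈ normalizer (P0 : Set G) :=
    (mul_mem_cancel_right (le_normalizer (TP0 ht0))).1 yN
  have xQ : x ∉ normalizer (Q : Set G) := fun h => hy0 (mul_mem ⟨xP, h⟩ (TP0 ht0))
  have ni2 := ni_of_odd (ed.te.2 (g⁻¹ * x * g) fun h => xQ (by
    rw [hQ, ← cj_normalizer]; exact mem_cj.2 h))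
  intro t ht t' ht'
  have a0 : x * t * x⁻¹ ∈ P0 := conj_mem_of_mem_normalizer xN (TP0 ht)
  have b0 : x⁻¹ * t' * x ∈ P0 := conj_mem_of_mem_normalizer' xN (TP0 ht')
  have h1 : Commute (x * t * x⁻¹) t' := by
    obtain ⟨n, hn⟩ := two ⁅x * t * x⁻¹, t'⁆ (mul_mem (mul_mem (mul_mem a0.1 (TP ht'))
      (inv_mem a0.1)) (inv_mem (TP ht')))
    have c1 : ⁅x * t * x⁻¹, t'⁆ ∈ Q :=
      mul_mem (conj_mem_of_mem_normalizer a0.2 (TQ ht')) (inv_mem (TQ ht'))
    have c2 : x⁻¹ * ⁅x * t * x⁻¹, t'⁆ * x ∈ Q := by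
      have e : x⁻¹ * ⁅x * t * x⁻¹, t'⁆ * x = t * (x⁻¹ * t' * x * t⁻¹ * (x⁻¹ * t' * x)⁻¹) := by
        simp only [commutatorElement_def]; group
      rw [e]
      exact mul_mem (TQ ht) (conj_mem_of_mem_normalizer b0.2 (inv_mem (TQ ht)))
    refine commutatorElement_eq_one_iff_commute.1 ?_
    generalize ⁅x * t * x⁻¹, t'⁆ = c at hn c1 c2
    have h2 : g⁻¹ * c * g⁻¹⁻¹ = 1 := ni_one ni2 n _ ⟨by simpa using mem_cj.1 c1, mem_cj.2 (by
      have := mem_cj.1 c2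
      convert this using 1
      group)⟩ (by rw [conj_pow, hn]; group)
    calc c = g * (g⁻¹ * c * g⁻¹⁻¹) * g⁻¹ := by group
      _ = 1 := by rw [h2]; group
  have s0 : x * t * x⁻¹ * t⁻¹ ∈ P0 := mul_mem a0 (inv_mem (TP0 ht))
  have sK : x * t * x⁻¹ * t⁻¹ ∈ K := by
    have e : x * t * x⁻¹ * t⁻¹ = x * (t * x⁻¹ * t⁻¹) := by group
    rw [e]
    exact mul_mem xK (conj_mem_of_mem_normalizer (TK ht) (inv_mem xK))
  have h3 := (cm _ s0.1 sK s0.2 t' ht').inv_left.mul_left h1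
  have e : (x * t * x⁻¹ * t⁻¹)⁻¹ * (x * t * x⁻¹) = t := by group
  rw [e] at h3
  exact h3

end H13.FEK2a
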