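import Cfsg.Agent.H63.KgvSpec
import Cfsg.Agent.S3380
import Cfsg.Agent.H3.NormalRankOne
import Cfsg.Agent.H98.Sylow

/-! Tower KGV: nilpotent groups with cyclic centre. -/

set_option autoImplicit false

namespace H13.KgvSg

open Cfsg Subgroup

universe u

variable {E : Type u} [Group E] [Finite E]

theorem nrm (hE : Group.IsNilpotent E) {p : ℕ} [hp : Fact p.Prime] (P : Sylow p E) :
    (P : Subgroup E).Normal := by
  have h := (Group.isNilpotent_of_finite_tfae (G := E)).out 0 3
  exact h.1 hE p hp P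

theorem mem_syl (hE : Group.IsNilpotent E) {p : ℕ} [Fact p.Prime] (P : Sylow p E) {U : Subgroup E}
    (hU : IsPGroup p U) : U ≤ P := by
  haveI := nrm hE P
  exact (H98.isSyl_sylow P).le_of_le_normalizer' hU le_top (by rw [normalizer_eq_top]; exact le_top)

theorem dec (hE : Group.IsNilpotent E) {p : ℕ} [Fact p.Prime] (P : Sylow p E) (y : E) :
    ∃ u ∈ (P : Subgroup E), ∃ v : E, (∀ x ∈ (P : Subgroup E), x * v = v * x) ∧ u * v = y := by
  haveI := nrm hE P
  have h : (⊤ : Subgroup E) ≤ (P : Subgroup E) ⊔ centralizer ((P : Subgroup E) : Set E) := by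
    refine H98.le_of_forall_prime_pow_mem fun q hq _ x _ ⟨k, hk⟩ => ?_
    haveI := Fact.mk hq
    by_cases e : q = p
    · subst e
      exact mem_sup_left (mem_syl hE P (H98.isPGroup_zpowers hk) (mem_zpowers x))
    · obtain ⟨Q⟩ := (inferInstance : Nonempty (Sylow q E))
      have hx := mem_syl hE Q (H98.isPGroup_zpowers hk) (mem_zpowers x)
      exact mem_sup_right (mem_centralizer_iff.2 fun g hg =>
        commute_of_normal_of_disjoint _ _ (nrm hE P) (nrm hE Q)
          (IsPGroup.disjoint_of_ne p q (Ne.symm e) _ _ P.isPGroup' Q.isPGroup') g x hg hx)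
  obtain ⟨u, hu, v, hv, e⟩ := mem_sup_of_normal_left.1 (h (mem_top y))
  exact ⟨u, hu, v, fun x hx => mem_centralizer_iff.1 hv x hx, e⟩

theorem mem_zp {Z : Type u} [Group Z] [Finite Z] [IsCyclic Z] {p : ℕ} (hp : 0 < p) {c a : Z}
    (hc : orderOf c = p) (ha : a ^ p = 1) : a ∈ zpowers c := by
  classical
  cases nonempty_fintype Z
  by_contra hn
  have h1 := IsCyclic.card_pow_eq_one_le (α := Z) hp
  have h2 : insert a (Finset.univ.filter fun x => x ∈ zpowers c) ⊆
      Finset.univ.filter fun x : Z => x ^ p = 1 := by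
    intro x hx
    rw [Finset.mem_filter]
    refine ⟨Finset.mem_univ _, ?_⟩
    rcases Finset.mem_insert.1 hx with rfl | hx
    · exact ha
    · obtain ⟨k, rfl⟩ := (Finset.mem_filter.1 hx).2
      rw [← hc, ← zpow_natCast, ← zpow_mul, mul_comm, zpow_mul, zpow_natCast, pow_orderOf_eq_one,
        one_zpow]
  have h3 := Finset.card_le_card h2
  have h4 : (Finset.univ.filter fun x => x ∈ zpowers c).card = p := by
    rw [← hc, ← Nat.card_zpowers, Nat.card_eq_fintype_card, Fintype.card_subtype]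
  rw [Finset.card_insert_of_notMem (by simpa using hn), h4] at h3
  omega

theorem cyc (hE : Group.IsNilpotent E) (H : Subgroup E)
    (h : ∀ (q : ℕ), q.Prime → ∀ U ≤ H, IsPGroup q U → IsCyclic U) : IsCyclic H := by
  haveI : IsZGroup H := ⟨fun q hq Q =>
    haveI := h q hq _ (map_subtype_le (Q : Subgroup H)) (Q.isPGroup'.map H.subtype)
    isCyclic_of_surjective _
      ((Q : Subgroup H).equivMapOfInjective H.subtype H.subtype_injective).symm.surjective⟩
  infer_instance

theorem job : H63.Kgv.SgSt.{u} := by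
  intro E _ _ hE hZ hna
  by_cases h : ∃ (p : ℕ) (_ : Fact p.Prime) (P : Sylow p E) (A : Subgroup (P : Subgroup E)),
      A.Normal ∧ IsMulCommutative A ∧ ¬ IsCyclic A
  · obtain ⟨p, hp, P, A, hA, hc, hn⟩ := h
    obtain ⟨c, a, c1, c2, a1, a2, a3⟩ := Cfsg.Agent.S3380.exists_pair P.isPGroup' A hc hn
    have cz : (c : E) ∈ center E := mem_center_iff.2 fun y => by
      obtain ⟨u, hu, v, hv, rfl⟩ := dec hE P y
      have h1 : u * c = c * u := congrArg Subtype.val (mem_center_iff.1 c1 ⟨u, hu⟩)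
      rw [mul_assoc, ← hv c c.2, ← mul_assoc, h1, mul_assoc]
    have oc : orderOf (c : E) = p := by rw [orderOf_coe, c2]
    have ap : (a : E) ^ p = 1 := congrArg Subtype.val a1
    refine Or.inl ⟨p, c, a, hp.out, oc, cz, ap, fun az => a2 ?_, fun y => ?_⟩
    · obtain ⟨k, hk⟩ := mem_zp (Z := center E) hp.out.pos (c := ⟨c, cz⟩) (a := ⟨a, az⟩)
        (by rw [← orderOf_coe]; exact oc) (Subtype.ext ap)
      exact ⟨k, Subtype.ext (congrArg (fun x : center E => (x : E)) hk)⟩
    · obtain ⟨u, hu, v, hv, rfl⟩ := dec hE P y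
      obtain ⟨k, hk⟩ := a3 ⟨u, hu⟩
      refine ⟨k, (congrArg Subtype.val hk).trans ?_⟩
      change u * a * u⁻¹ * (a : E)⁻¹ = _
      rw [mul_assoc u v, ← hv a a.2]
      group
  push Not at h
  have odd : ∀ q : ℕ, q.Prime → q ≠ 2 → ∀ U : Subgroup E, IsPGroup q U → IsCyclic U :=
    fun q hq q2 U hU => by
      haveI := Fact.mk hq
      obtain ⟨Q⟩ := (inferInstance : Nonempty (Sylow q E))
      haveI := H3.isCyclic_of_normal_abelian_cyclic_odd q2 Q.isPGroup' (h q inferInstance Q)
      exact isCyclic_of_le (mem_syl hE Q hU)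
  haveI : Fact (Nat.Prime 2) := ⟨Nat.prime_two⟩
  obtain ⟨T⟩ := (inferInstance : Nonempty (Sylow 2 E))
  have hT : ¬ IsCyclic (T : Subgroup E) := fun hT => by
    haveI : IsCyclic (⊤ : Subgroup E) := cyc hE ⊤ fun q hq U _ hU => by
      by_cases q2 : q = 2
      · subst q2
        exact isCyclic_of_le (mem_syl hE T hU)
      · exact odd q hq q2 U hU
    refine hna fun a b => ?_
    obtain ⟨g, hg⟩ := IsCyclic.exists_generator (α := (⊤ : Subgroup E))
    obtain ⟨i, hi⟩ := hg ⟨a, mem_top a⟩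
    obtain ⟨j, hj⟩ := hg ⟨b, mem_top b⟩
    have e1 : (g : E) ^ i = a := congrArg Subtype.val hi
    have e2 : (g : E) ^ j = b := congrArg Subtype.val hj
    rw [← e1, ← e2]
    exact zpow_mul_comm _ _ _
  obtain ⟨a, hi, hc⟩ := H3.exists_zpowers_index_two_of_normal_abelian_cyclic T.isPGroup'
    (h 2 inferInstance T) hT
  have key : ∀ x : (T : Subgroup E), (x : E) ∈ centralizer ({(a : E)} : Set E) ↔ x ∈ zpowers a :=
    fun x => ⟨fun hx => hc x (Subtype.ext (mem_centralizer_singleton_iff.1 hx)), fun ⟨k, hk⟩ => by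
      rw [← hk]
      exact zpow_mem (mem_centralizer_singleton_iff.2 rfl) k⟩
  refine Or.inr ⟨centralizer ({(a : E)} : Set E), cyc hE _ fun q hq U hl hU => ?_, ?_⟩
  · by_cases q2 : q = 2
    · subst q2
      refine isCyclic_of_le (H' := zpowers (a : E)) fun x hx => ?_
      obtain ⟨k, hk⟩ := (key ⟨x, mem_syl hE T hU hx⟩).1 (hl hx)
      exact ⟨k, congrArg Subtype.val hk⟩
    · exact odd q hq q2 U hU
  · obtain ⟨b, hb⟩ := index_eq_two_iff'.1 hi
    refine index_eq_two_iff'.2 ⟨b, fun y => ?_⟩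
    obtain ⟨u, hu, v, hv, rfl⟩ := dec hE T y
    have vc : v ∈ centralizer ({(a : E)} : Set E) :=
      mem_centralizer_singleton_iff.2 (hv a a.2).symm
    rw [← mul_assoc, mul_mem_cancel_right vc, mul_mem_cancel_right vc]
    have := hb ⟨u, hu⟩
    rwa [← key, ← key] at this

end H13.KgvSg
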