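import Cfsg.Agent.H20.LD4Spec
import Cfsg.Agent.H8.FE6
import Cfsg.Agent.S3035
import Cfsg.Agent.H61.PSLOdd
import Mathlib.NumberTheory.LegendreSymbol.QuadraticChar.Basic

/-! Tower LD4, job ML2: the groups `L₂(q)`, `q` odd. -/

set_option autoImplicit false

namespace H13.L4M

open Cfsg Matrix H20.LD Polynomial
open scoped MatrixGroups

theorem dih_of {Γ : Type*} [Group Γ] (S : Sylow 2 Γ) {n : ℕ} [NeZero n]
    (e : (S : Subgroup Γ) ≃* DihedralGroup n) : Dih Γ := by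
  let f := (S : Subgroup Γ).subtype.comp e.symm.toMonoidHom
  have hr : ∀ i, f (.r i) ∈ Subgroup.zpowers (f (.r 1)) := fun i =>
    ⟨(i.val : ℕ), by simp only [zpow_natCast, ← map_pow]; simp⟩
  refine ⟨S, f (.r 1), f (.sr 0), by rw [← map_mul]; simp, by
    rw [← map_inv, ← map_inv, ← map_mul, ← map_mul]; simp, fun x hx => ?_⟩
  obtain ⟨y, rfl⟩ : ∃ y, x = f y := ⟨e ⟨x, hx⟩, by simp [f]⟩
  cases y with
  | r i => exact .inl (hr i)
  | sr i => exact .inr (by rw [← map_mul]; exact hr _)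

variable {K : Type*} [Field K]

/-- The projection to `PSL₂`. -/
abbrev pj (K : Type*) [Field K] : SL(2, K) →* PSL(2, K) := QuotientGroup.mk' _

theorem pj_eq_one {g : SL(2, K)} : pj K g = 1 ↔ ∃ c : K, g.1 = c • 1 :=
  (QuotientGroup.eq_one_iff _).trans (Matrix.SpecialLinearGroup.mem_center_iff.trans
    ⟨fun ⟨c, _, e⟩ => ⟨c, e.symm.trans (by simp [smul_eq_diagonal_mul])⟩, fun ⟨c, e⟩ =>
      ⟨c, by simpa [e] using g.2, Eq.trans (by simp [smul_eq_diagonal_mul]) e.symm⟩⟩)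

theorem inv_of_tr (h2 : (2 : K) ≠ 0) {g : SL(2, K)} (h : g.1.trace = 0) :
    pj K g ≠ 1 ∧ pj K g * pj K g = 1 := by
  have d := g.2
  refine ⟨fun e => ?_, ?_⟩
  · obtain ⟨c, e⟩ := pj_eq_one.1 e
    rw [e] at h d
    simp at h d
    grind
  · rw [← map_mul, pj_eq_one]
    rw [det_fin_two] at d
    rw [trace_fin_two] at h
    refine ⟨-1, ?_⟩
    ext i j
    fin_cases i <;> fin_cases j <;> simp [mul_apply, Fin.sum_univ_two] <;> grind

theorem exists_s [Fintype K] (ho : Odd (Fintype.card K)) (h2 : (2 : K) ≠ 0) (a b c : K)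
    (h : a ^ 2 + 4 * b * c ≠ 0 ∨ IsSquare (-1 : K)) :
    ∃ u v w : K, u * -u - v * w = 1 ∧ u * a + v * c + w * b = 0 := by
  by_cases hb : b = 0
  · subst hb
    by_cases hc : c = 0
    · exact ⟨0, 1, -1, by ring, by simp [hc]⟩
    rcases h with h | ⟨i, h⟩
    · have : a ≠ 0 := by rintro rfl; simp at h
      exact ⟨1, -a / c, 2 * c / a, by field_simp; ring, by field_simp; ring⟩
    · exact ⟨i, -i * a / c, 0, by linear_combination h, by field_simp; ring⟩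
  obtain ⟨x, v, e⟩ : ∃ x v : K, x ^ 2 - (a ^ 2 + 4 * b * c) * v ^ 2 + 4 * b ^ 2 = 0 := by
    rcases h with h | ⟨i, h⟩
    · obtain ⟨x, v, e⟩ := FiniteField.exists_root_sum_quadratic (f := X ^ 2 + C (4 * b ^ 2))
        (g := C (-(a ^ 2 + 4 * b * c)) * X ^ 2) (degree_X_pow_add_C two_pos _)
        (degree_C_mul_X_pow 2 (neg_ne_zero.2 h)) (Nat.odd_iff.1 ho)
      refine ⟨x, v, ?_⟩
      simp only [eval_add, eval_mul, eval_C, eval_pow, eval_X] at e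
      linear_combination e
    · exact ⟨2 * b * i, 0, by linear_combination (-4 * b ^ 2) * h⟩
  refine ⟨(x + a * v) / (2 * b), v, -((x + a * v) / (2 * b) * a + v * c) / b, ?_, by field_simp; ring⟩
  field_simp
  linear_combination -e

theorem sr_of [Fintype K] (ho : Odd (Fintype.card K)) (h2 : (2 : K) ≠ 0) (g : SL(2, K))
    (h : g.1.trace ^ 2 ≠ 4 ∨ IsSquare (-1 : K)) : SR (pj K g) := by
  have d := g.2
  rw [det_fin_two] at d
  rw [trace_fin_two] at h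
  obtain ⟨u, v, w, e1, e2⟩ := exists_s ho h2 (g.1 0 0 - g.1 1 1) (g.1 0 1) (g.1 1 0)
    (h.imp_left fun a b => a (by linear_combination b + 4 * d))
  let s : SL(2, K) := ⟨!![u, v; w, -u], by rwa [det_fin_two_of]⟩
  obtain ⟨a1, a2⟩ := inv_of_tr h2 (g := s) (by simp [s, trace_fin_two])
  obtain ⟨b1, b2⟩ := inv_of_tr h2 (g := s * g) (by
    change (!![u, v; w, -u] * g.1).trace = 0
    simp [trace_fin_two, vecMul, dotProduct]
    linear_combination e2)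
  exact ⟨_, _, a1, a2, b1, b2, by rw [map_mul, ← mul_assoc, a2, one_mul]⟩

theorem pow_char_of_tr (r : ℕ) [Fact r.Prime] [CharP K r] (h2 : (2 : K) ≠ 0) {g : SL(2, K)}
    (h : g.1.trace ^ 2 = 4) : pj K g ^ r = 1 := by
  have d := g.2
  rw [det_fin_two] at d
  rw [trace_fin_two] at h
  obtain ⟨e, he⟩ : ∃ e, 2 * e = g.1 0 0 + g.1 1 1 := ⟨_, mul_div_cancel₀ _ h2⟩
  have e2 : e ^ 2 = 1 := mul_left_cancel₀ (mul_ne_zero h2 h2) (by rw [← he] at h; linear_combination h)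
  have n : (g.1 - e • 1) ^ 2 = 0 := by
    ext i j
    fin_cases i <;> fin_cases j <;> simp [sq, mul_apply, Fin.sum_univ_two] <;> grind
  rw [← map_pow, pj_eq_one]
  refine ⟨e ^ r, ?_⟩
  rw [Matrix.SpecialLinearGroup.coe_pow, ← add_sub_cancel (e • 1) g.1,
    add_pow_char_of_commute r (Commute.smul_left (Commute.one_left _) _),
    pow_eq_zero_of_le (Fact.out : r.Prime).two_le n, add_zero, _root_.smul_pow, one_pow]

/-- The upper unitriangular group. -/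
def up (K : Type*) [Field K] : Multiplicative K →* SL(2, K) := MonoidHom.mk'
  (fun a => ⟨!![1, a.toAdd; 0, 1], by simp⟩) fun a b => Subtype.ext (by
    change _ = !![1, a.toAdd; 0, 1] * !![1, b.toAdd; 0, 1]
    simp [add_comm])

theorem up_val (a : K) : (up K (.ofAdd a)).1 = !![1, a; 0, 1] := rfl

/-- A diagonal matrix. -/
def dn (c : Kˣ) : SL(2, K) := ⟨!![c, 0; 0, (c⁻¹ : Kˣ)], by simp⟩

theorem dn_up (c : Kˣ) (a : K) :
    dn c * up K (.ofAdd a) * (dn c)⁻¹ = up K (.ofAdd ((c ^ 2 : Kˣ) * a)) := by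
  rw [mul_inv_eq_iff_eq_mul]
  refine Subtype.ext ?_
  change !![(c : K), 0; 0, (c⁻¹ : Kˣ)] * !![1, a; 0, 1] =
    !![1, (c ^ 2 : Kˣ) * a; 0, 1] * !![(c : K), 0; 0, (c⁻¹ : Kˣ)]
  simp [sq, mul_right_comm _ a]

theorem pj_up {a : K} (h : pj K (up K (.ofAdd a)) = 1) : a = 0 := by
  obtain ⟨c, e⟩ := pj_eq_one.1 h
  simpa [up_val] using congrFun₂ e 0 1

theorem w5_psl [Fintype K] (r : ℕ) [CharP K r] (h : 11 ≤ Fintype.card K) : W5 PSL(2, K) r := by
  obtain ⟨g, hg⟩ := IsCyclic.exists_ofOrder_eq_natCard (α := Kˣ)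
  rw [Nat.card_units, Nat.card_eq_fintype_card] at hg
  have cj : ∀ (c : Kˣ) (a : K), pj K (dn c) * pj K (up K (.ofAdd a)) * (pj K (dn c))⁻¹ =
      pj K (up K (.ofAdd ((c ^ 2 : Kˣ) * a))) := fun c a => by
    rw [← map_inv, ← map_mul, ← map_mul, dn_up]
  refine ⟨((pj K).comp (up K)).range, fun e => one_ne_zero (pj_up (Subgroup.mem_bot.1
    (e.le ⟨.ofAdd 1, rfl⟩))), ?_, ?_, fun i => pj K (dn (g ^ (i : ℕ))), ?_, ?_⟩
  · rintro _ ⟨a, rfl⟩
    rw [← map_pow, show a ^ r = 1 from Multiplicative.toAdd.injective (by simp), map_one]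
  · rintro _ ⟨a, rfl⟩ _ ⟨b, rfl⟩
    rw [← map_mul, ← map_mul, mul_comm]
  · rintro i _ ⟨a, rfl⟩
    exact ⟨_, (cj _ a.toAdd).symm⟩
  · rintro i j ij _ ⟨a, rfl⟩
    have ne : (((g ^ (i : ℕ)) ^ 2 : Kˣ) : K) - ((g ^ (j : ℕ)) ^ 2 : Kˣ) ≠ 0 := fun e => by
      rw [sub_eq_zero, Units.val_inj, ← pow_mul, ← pow_mul] at e
      have := pow_injOn_Iio_orderOf (x := g) (Set.mem_Iio.2 (by omega)) (Set.mem_Iio.2 (by omega)) e
      omega
    refine ⟨_, ⟨.ofAdd (a.toAdd / ((((g ^ (i : ℕ)) ^ 2 : Kˣ) : K) - ((g ^ (j : ℕ)) ^ 2 : Kˣ))), rfl⟩,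
      Eq.trans ?_ (congrArg₂ (· * ·⁻¹) (cj _ _) (cj _ _)).symm⟩
    rw [← map_inv, ← map_mul, ← map_inv, ← map_mul, ← ofAdd_neg, ← ofAdd_add, ← sub_eq_add_neg,
      ← sub_mul, mul_div_cancel₀ _ ne]
    rfl

theorem jobML2 : JobML2 := fun K _ _ r _ ho h5 => by
  have ho' : Odd (Nat.card K) := by rwa [Nat.card_eq_fintype_card]
  have h2 : (2 : K) ≠ 0 := H61.two_ne_zero_iff_odd.2 ho'
  have one : H20.LD.One PSL(2, K) := fun s t a b c d => H61.psl_isConj_inv ho'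
    (H61.orderOf_eq_two_iff'.2 ⟨a, b⟩) (H61.orderOf_eq_two_iff'.2 ⟨c, d⟩)
  have : Fact r.Prime := ⟨CharP.char_is_prime K r⟩
  obtain ⟨S⟩ : Nonempty (Sylow 2 PSL(2, K)) := inferInstance
  obtain ⟨n, hn, ⟨e⟩⟩ := H8.FE.syl_L2 ho S
  have : NeZero n := ⟨by omega⟩
  refine ⟨dih_of S e, ⟨one, fun x x1 hx => ?_⟩, fun h4 p => ⟨one, fun x _ _ => ?_⟩, w5_psl r,
    fun h7 => Cfsg.Agent.S3035.sl3_equiv h7 (MulEquiv.refl _)⟩
  · obtain ⟨g, rfl⟩ := QuotientGroup.mk'_surjective _ x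
    exact sr_of ho h2 g (.inl fun e => hx (orderOf_eq_prime (pow_char_of_tr r h2 e) x1 ▸ dvd_rfl))
  · obtain ⟨g, rfl⟩ := QuotientGroup.mk'_surjective _ x
    exact sr_of ho h2 g (.inr (FiniteField.isSquare_neg_one_iff.2 (by omega)))

end H13.L4M
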