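import Cfsg.Agent.H13.LD4WT
import Cfsg.Agent.H20.LD4RFa
import Cfsg.Agent.H17.LD4RF2
import Cfsg.Agent.H61.Sp4Tv
import Cfsg.Agent.H98.Sylow

/-! Tower LD4, job RF4: a monomial element outside the dihedral type. -/

set_option autoImplicit false

namespace H13.L4W

open Cfsg Matrix H20.LD H17.RF2

universe u v

theorem extr2 {G : Type*} [Group G] [Finite G] (S : Sylow 2 G) {τ : G}
    (hτ : ∀ s ∈ (S : Subgroup G), Commute s τ) (g : G) : ∃ a, a * τ * a⁻¹ = g * τ * g⁻¹ ∧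
      ∀ s ∈ (S : Subgroup G), Commute s (g * τ * g⁻¹) → a⁻¹ * s * a ∈ (S : Subgroup G) := by
  obtain ⟨c, hc, e⟩ := ((H98.isSyl_sylow S).of_le (K := Subgroup.centralizer {τ})
    (fun s hs => Subgroup.mem_centralizer_singleton_iff.2 (hτ s hs)) le_top).exists_le_cj
    (Q := ((S : Subgroup G) ⊓ Subgroup.centralizer {g * τ * g⁻¹}).map
      (MulAut.conj g⁻¹).toMonoidHom) ((S.isPGroup'.to_le inf_le_left).map _)
    ((H8.map_conj_le_iff _ _ _).2 fun x hx => Subgroup.mem_centralizer_singleton_iff.2 (by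
      have := Subgroup.mem_centralizer_singleton_iff.1 hx.2
      calc _ = g⁻¹ * (x * (g * τ * g⁻¹)) * g := by group
        _ = _ := by rw [this]; group))
  refine ⟨g * c, ?_, fun s hs cs => ?_⟩
  · rw [mul_assoc g, Subgroup.mem_centralizer_singleton_iff.1 hc]; group
  · have := H98.mem_cj.1 (e ⟨s, ⟨hs, Subgroup.mem_centralizer_singleton_iff.2 cs⟩, rfl⟩)
    convert this using 1
    simp [mul_assoc]

variable {k : Type u} [Field k] {X : Type u} [Group X] {Γ : Type v} [Group Γ] {p : ℕ}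
  {ρ : X →* G4 k} {π : X →* Γ}

theorem z_conj [Finite X] (h : R4 p ρ π) (hp : p ≠ 2) {S : Sylow 2 Γ} (ms : MS ρ π S)
    (H0 : ∀ x σ, Mon (ρ x) σ → σ * bl = bl * σ) {l m : k} (lm : l * l = -(m * m)) {z : X}
    (zS : π z ∈ (S : Subgroup Γ)) (hz : (ρ z).val = diagonal ![m, m, l, l]) (g : X)
    (hg : π (g * z * g⁻¹) ∈ (S : Subgroup Γ)) :
    g * z * g⁻¹ = z ∨ (ρ (g * z * g⁻¹)).val = diagonal ![l, l, m, m] := by
  have two := h.two_ne hp
  have d1 := diag_det h hz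
  simp only [cons_val_zero, cons_val_one, cons_val] at d1
  have A : ∀ g, π (g * z * g⁻¹) ∈ (S : Subgroup Γ) → g * z * g⁻¹ ∈ Dg ρ ∧
      ∀ e, (ρ (g * z * g⁻¹)).val = diagonal e → ∀ j, e j = l ∨ e j = m := fun g hg => by
    have q : (ρ (g * z * g⁻¹)).val * (ρ (g * z * g⁻¹)).val =
        (l + m) • (ρ (g * z * g⁻¹)).val + (-(l * m)) • 1 := by
      have : (ρ (z * z)).val = (l + m) • (ρ z).val + (-(l * m)) • 1 := by
        rw [val_mul', hz]
        ext i j
        fin_cases i <;> fin_cases j <;> simp <;> ring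
      rw [← val_mul', conj_mul, val_mul', val_mul', this, val_mul', val_mul', mul_add, add_mul,
        Matrix.mul_smul, Matrix.smul_mul, Matrix.mul_smul, Matrix.smul_mul, mul_one, map_inv,
        val_mul_inv]
    obtain ⟨σ, -, hσ⟩ := ms _ hg
    refine ⟨dg_of hσ (hσ.eq_one_of_quad (by grind) q), fun e he j => ?_⟩
    rw [he] at q
    have := congrFun₂ q j j
    simp at this
    exact (mul_eq_zero.1 (show (e j - l) * (e j - m) = 0 by linear_combination this)).imp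
      sub_eq_zero.1 sub_eq_zero.1
  let P : Sylow 2 X := S.comapOfKerIsPGroup π (fun x => ⟨2, Subtype.ext (h.pow_four x.2)⟩)
    fun x _ => h.surj x
  let D := Subgroup.closure {y | ∃ g, y = g * z * g⁻¹ ∧ π y ∈ (S : Subgroup Γ)}
  have DD : D ≤ Dg ρ := (Subgroup.closure_le _).2 (by rintro _ ⟨g, rfl, hg⟩; exact (A g hg).1)
  obtain ⟨n, n1, n2⟩ := wc_lemma (S := P) (D := D) (x := z) (g := g)
    ((Subgroup.closure_le _).2 fun _ ⟨_, _, e⟩ => e)
    (fun a ha => ((Subgroup.closure_le (D.comap (MulAut.conj a).toMonoidHom)).2 fun y hy => by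
      have := ha y (Subgroup.subset_closure hy)
      obtain ⟨b, rfl, -⟩ := hy
      exact Subgroup.subset_closure ⟨a * b, by simp [mul_assoc], this⟩))
    (fun a ha => dg_comm h (DD ha) (mon_of_diagonal hz)) fun a ha => dg_comm h (DD ha) (A g hg).1
  obtain ⟨e, he⟩ := dg_ex (A g hg).1
  have e0 := (A g hg).2 e he 0
  have e1 := (A g hg).2 e he 1
  have e2 := (A g hg).2 e he 2
  have e3 := (A g hg).2 e he 3
  have d2 := diag_det h he
  have ml : m ≠ l := by grind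
  have key : e 0 = e 1 := by_contra fun ne => by
    have ne' : e 2 ≠ e 3 := by grind
    obtain ⟨f, hf⟩ := dg_ex (DD ((n1 _).1 (Subgroup.subset_closure ⟨g, rfl, hg⟩)))
    have r1 : (ρ n).val * diagonal ![m, m, l, l] = diagonal e * (ρ n).val := by
      rw [← hz, ← he, ← val_mul', ← val_mul', n2, inv_mul_cancel_right]
    have r2 : (ρ n).val * diagonal e = diagonal f * (ρ n).val := by
      rw [← hf, ← he, ← val_mul', ← val_mul', inv_mul_cancel_right]
    obtain ⟨σ, hσ⟩ := exists_mon_of_row (g := ρ n) fun i j j' a b => by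
      have a1 := by_contra fun c => a (eq_zero_of_mul_diagonal r1 c)
      have a2 := by_contra fun c => a (eq_zero_of_mul_diagonal r2 c)
      have b1 := by_contra fun c => b (eq_zero_of_mul_diagonal r1 c)
      have b2 := by_contra fun c => b (eq_zero_of_mul_diagonal r2 c)
      have c1 := a1.trans b1.symm
      have c2 := a2.trans b2.symm
      clear a1 a2 b1 b2
      fin_cases j <;> fin_cases j' <;> first
        | rfl | exact (ml c1).elim | exact (ml c1.symm).elim | exact (ne c2).elim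
        | exact (ne c2.symm).elim | exact (ne' c2).elim | exact (ne' c2.symm).elim
    have := hσ.conj_diagonal ![m, m, l, l]
    rw [← hz, ← map_inv, ← val_mul', ← val_mul', ← n2, he, diagonal_eq_diagonal_iff] at this
    rw [this, this, show σ⁻¹ 1 = bl (σ⁻¹ 0) from congrFun (congrArg DFunLike.coe (H0 _ _ hσ.map_inv)) 0]
      at ne
    generalize σ⁻¹ 0 = j at ne
    fin_cases j <;> exact ne rfl
  have : e 0 = m ∧ e 1 = m ∧ e 2 = l ∧ e 3 = l ∨ e 0 = l ∧ e 1 = l ∧ e 2 = m ∧ e 3 = m := by grind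
  refine this.imp (fun a => h.ext (he.trans (Eq.trans ?_ hz.symm))) fun a => he.trans ?_ <;>
  · refine congrArg diagonal (funext fun j => ?_)
    fin_cases j <;> simp [a]

theorem jobRF4 : JobRF4.{u, v} := fun p k _ _ X _ _ Γ _ ρ π h hp S i H => by_contra fun H0 => by
  have := h.finite
  have := h.simple
  have two := h.two_ne hp
  obtain ⟨z, zS, l, hz⟩ := H.z
  have ii := H.ii
  replace hz : (ρ z).val = diagonal ![l * i, l * i, l, l] := by
    rw [hz, ← diagonal_smul]; simp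
  have d1 := diag_det h hz
  simp only [cons_val_zero, cons_val_one, cons_val] at d1
  have A := z_conj h hp H.ms (fun x σ a => by_contra fun b => H0 ⟨x, σ, a, b⟩) (by grind) zS hz
  have zD : z ∈ Dg ρ := mon_of_diagonal hz
  have t2 : π z ^ 2 * π z ^ 2 = 1 := by
    rw [← map_pow, ← map_mul, h.ker]
    refine ⟨-1, (diag_mul (diag_pow hz 2) (diag_pow hz 2)).trans ?_⟩
    rw [smul_one_eq_diagonal]
    refine congrArg diagonal (funext fun j => ?_)
    fin_cases j <;> simp <;> grind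
  have t1 : π z ^ 2 ≠ 1 := fun e => by
    obtain ⟨c, hc⟩ := (h.ker (z ^ 2)).1 (by rw [map_pow, e])
    rw [diag_pow hz, smul_one_eq_diagonal, diagonal_eq_diagonal_iff] at hc
    have a := hc 0
    have b := hc 2
    simp at a b
    grind
  have B : ∀ γ, γ * π z * γ⁻¹ ∈ (S : Subgroup Γ) →
      γ * π z * γ⁻¹ = π z ∨ γ * π z * γ⁻¹ = (π z)⁻¹ := fun γ hγ => by
    obtain ⟨g, rfl⟩ := h.surj γ
    simp only [← map_inv, ← map_mul] at hγ ⊢
    refine (A g hγ).imp (congrArg π) fun e => ?_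
    rw [map_inv, eq_inv_iff_mul_eq_one, ← map_mul, h.ker]
    refine ⟨l * (l * i), (diag_mul e hz).trans ?_⟩
    rw [smul_one_eq_diagonal]
    refine congrArg diagonal (funext fun j => ?_)
    fin_cases j <;> simp [mul_comm]
  have C : ∀ γ, γ * π z * γ⁻¹ ∈ (S : Subgroup Γ) → γ * π z ^ 2 * γ⁻¹ = π z ^ 2 := fun γ hγ => by
    rw [← conj_pow]
    rcases B γ hγ with e | e <;> rw [e]
    rw [inv_pow, inv_eq_of_mul_eq_one_right t2]
  have cen : ∀ s ∈ (S : Subgroup Γ), Commute s (π z ^ 2) := fun s hs =>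
    mul_inv_eq_iff_eq_mul.1 (C s (mul_mem (mul_mem hs zS) (inv_mem hs)))
  have P : ∀ γ, Commute (π z) (γ * π z ^ 2 * γ⁻¹) → γ * π z ^ 2 * γ⁻¹ = π z ^ 2 := fun γ c => by
    obtain ⟨a, e, ha⟩ := extr2 S cen γ
    have := C a⁻¹ (by rw [inv_inv]; exact ha _ zS c)
    rw [← e]
    calc _ = a * (a⁻¹ * π z ^ 2 * a⁻¹⁻¹) * a⁻¹ := by rw [this]
      _ = _ := by group
  have E : ∀ w, π w ∈ (S : Subgroup Γ) → ∀ e, (ρ (w * z * w⁻¹)).val = diagonal e →
      e 0 ^ 2 = (l * i) ^ 2 → w * z * w⁻¹ = z := fun w hw e he e0 =>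
    (A w (by simpa using mul_mem (mul_mem hw zS) (inv_mem hw))).resolve_right fun a => by
      have := diagonal_eq_diagonal_iff.1 (he.symm.trans a) 0
      simp at this
      grind
  obtain ⟨γ, uS, u1⟩ := H61.S4.exists_conj_ne h.nab S (orderOf_eq_prime (by rwa [sq]) t1)
  obtain ⟨γ', e, hγ⟩ := extr2 S cen γ
  rw [← e] at uS u1 hγ
  obtain ⟨g, rfl⟩ := h.surj γ'
  obtain ⟨u, hu⟩ : ∃ u, u = g * z ^ 2 * g⁻¹ := ⟨_, rfl⟩
  have pu : π g * π z ^ 2 * (π g)⁻¹ = π u := by simp [hu]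
  rw [pu] at uS u1 hγ
  have u2 : π (u * u) = 1 := by rw [map_mul, ← pu, conj_mul, t2]; group
  obtain ⟨r, rS, c, hr⟩ := H.rf 0
  obtain ⟨σ, -, hσ⟩ := H.ms u uS
  have aD : u⁻¹ * r * u ∈ Dg ρ := by simpa using dg_conj (rf_dg hr) hσ.map_inv
  have cm := dg_comm h aD (rf_dg hr)
  have r2 : π (r * r) = 1 := by rw [map_mul, rf_inv h hr]
  have c1 : Commute (u⁻¹ * r * u * r⁻¹) u := by
    have a1 := (h.comm_of_ker u2 r⁻¹).eq
    have a2 := (h.comm_of_ker r2 u).eq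
    calc u⁻¹ * r * u * r⁻¹ * u = r⁻¹ * u⁻¹ * r * (u * u) := by rw [cm.inv_right.eq]; group
      _ = r⁻¹ * u⁻¹ * (r * r) * (r⁻¹ * (u * u)) := by group
      _ = _ := by
        rw [← a1, mul_assoc r⁻¹, ← (h.comm_of_ker r2 u⁻¹).eq]
        group
  have tS : π (u⁻¹ * r * u * r⁻¹) ∈ (S : Subgroup Γ) := by
    simp only [map_mul, map_inv]
    exact mul_mem (mul_mem (mul_mem (inv_mem uS) rS) uS) (inv_mem rS)
  have tD : u⁻¹ * r * u * r⁻¹ ∈ Dg ρ := mul_mem aD (inv_mem (rf_dg hr))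
  obtain ⟨w, hw⟩ : ∃ w, w = u⁻¹ * r * u * r⁻¹ := ⟨_, rfl⟩
  rw [← hw] at c1 tS tD
  have wS : π (g⁻¹ * w * g) ∈ (S : Subgroup Γ) := by simpa using hγ _ tS (c1.map π)
  have c2 : g⁻¹ * w * g * z * (g⁻¹ * w * g)⁻¹ = z := by
    obtain ⟨τ, -, hτ⟩ := H.ms _ wS
    obtain ⟨e, he⟩ := dg_ex (dg_conj zD hτ)
    refine E _ wS e he (diagonal_eq_diagonal_iff.1
      ((diag_pow he 2).symm.trans (Eq.trans ?_ (diag_pow hz 2))) 0)
    rw [conj_pow]
    congr 2
    calc _ = g⁻¹ * (w * u) * w⁻¹ * g := by rw [hu]; group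
      _ = _ := by rw [c1.eq, hu]; group
  have vS := inv_mem (hγ _ (pow_mem zS 2) (cen _ uS).symm)
  have v1 := (B _ (mul_mem (mul_mem vS zS) (inv_mem vS))).resolve_left fun a => u1 (by
    have := P (π g)⁻¹ (by
      rw [inv_inv]
      exact Commute.inv_right_iff.1 (mul_inv_eq_iff_eq_mul.1 a).symm)
    rw [← pu]
    calc _ = π g * ((π g)⁻¹ * π z ^ 2 * (π g)⁻¹⁻¹) * (π g)⁻¹ := by rw [this]
      _ = _ := by group)
  have c3 := congrArg π c2
  have c4 := congrArg π hw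
  simp only [map_mul, map_inv] at c3 c4
  have c5 := (cen _ rS).eq
  have c6 : (π g * π z * (π g)⁻¹)⁻¹ * π r * (π g * π z * (π g)⁻¹) * π z ^ 2 *
      ((π g * π z * (π g)⁻¹)⁻¹ * π r * (π g * π z * (π g)⁻¹))⁻¹ = π z ^ 2 * π w := by
    have a1 : π g * π z * (π g)⁻¹ * π z ^ 2 * (π g * π z * (π g)⁻¹)⁻¹ = π z ^ 2 * π u := by
      calc _ = π z ^ 2 * π g * (((π g)⁻¹ * π z ^ 2 * π g)⁻¹ * π z * ((π g)⁻¹ * π z ^ 2 * π g)⁻¹⁻¹) *
          (π z)⁻¹ * (π g)⁻¹ := by group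
        _ = π z ^ 2 * (π g * (π z ^ 2)⁻¹ * (π g)⁻¹) := by rw [v1]; group
        _ = _ := by rw [inv_eq_of_mul_eq_one_right t2, pu]
    have a2 : (π g * π z * (π g)⁻¹)⁻¹ * π w * (π g * π z * (π g)⁻¹) = π w := by
      calc _ = π g * (π z)⁻¹ * ((π g)⁻¹ * π w * π g * π z * ((π g)⁻¹ * π w * π g)⁻¹) * (π g)⁻¹ *
          π w := by group
        _ = _ := by rw [c3]; group
    generalize π g * π z * (π g)⁻¹ = y at a1 a2
    calc _ = y⁻¹ * (π r * (y * π z ^ 2 * y⁻¹) * (π r)⁻¹) * y := by group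
      _ = y⁻¹ * (π z ^ 2 * π u * π w) * y := by rw [a1, ← mul_assoc (π r), c5, c4]; group
      _ = y⁻¹ * (y * π z ^ 2 * y⁻¹) * y * (y⁻¹ * π w * y) := by rw [a1]; group
      _ = _ := by rw [a2]; group
  have w1 := P _ (c6 ▸ (Commute.self_pow _ 2).mul_right ((dg_comm h zD tD).map π))
  rw [c6, mul_eq_left] at w1
  have s0 : σ⁻¹ 0 = 0 := by_contra fun ne => by
    obtain ⟨b, -, hb⟩ := h.exists_smul (g := r) (g' := u⁻¹ * r * u⁻¹⁻¹) (by
      rw [inv_inv, ← inv_mul_cancel_right (u⁻¹ * r * u) r, inv_mul_cancel_right,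
        ← mul_inv_cancel_right (u⁻¹ * r * u) r⁻¹, ← hw, map_mul, w1, one_mul, inv_inv])
    rw [conj_rf hσ.map_inv hr, hr] at hb
    obtain ⟨j, j1, j2⟩ := (by decide : ∀ i : Fin 4, ∃ j, j ≠ i ∧ j ≠ 0) (σ⁻¹ 0)
    have b1 := congrFun₂ hb 0 0
    have b2 := congrFun₂ hb j j
    have := rf_c h hr
    simp only [rf, Matrix.smul_apply, diagonal_apply_eq, if_neg j1, if_neg j2, if_neg (Ne.symm ne),
      if_true, smul_eq_mul] at b1 b2
    grind
  have := hσ.conj_diagonal ![l * i, l * i, l, l]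
  rw [← hz, ← map_inv, ← val_mul', ← val_mul'] at this
  exact u1 (pu ▸ P _ (pu ▸ (Commute.map (mul_inv_eq_iff_eq_mul.1
    (E u uS _ this (by rw [s0]; rfl))) π).symm))

end H13.L4W
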