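import Cfsg.Agent.H45.MSpec5
import Cfsg.Agent.H35.BF
import Cfsg.Agent.H35.Loc
import Cfsg.Agent.H34.Block

/-! The `3`-blocks of defect one (job M24-Tri). -/

set_option autoImplicit false

namespace H13.M24

open Cfsg H87 H35 H45.M24

universe u

variable {G : Type u} [Group G] [Fintype G] {M : Ideal AlgInt} [M.IsMaximal]
  {B : Set (IrrCharacter G)}

theorem sq_two {s t : ℤ} (hs : s ≠ 0) (ht : t ≠ 0) (h : s ^ 2 + t ^ 2 = 2) :
    (s = 1 ∨ s = -1) ∧ (t = 1 ∨ t = -1) := by
  have a : 0 < s ^ 2 := by positivity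
  have b : 0 < t ^ 2 := by positivity
  exact ⟨sq_eq_one_iff.1 (by omega), sq_eq_one_iff.1 (by omega)⟩

theorem exists_three (hM : IsPModular 3 M) (hB : IsPBlock M B) (hd : blockDefect 3 B = 1)
    {x : IrrCharacter G} (hx : x ∈ B) :
    ∃ y z, x ≠ y ∧ x ≠ z ∧ y ≠ z ∧ ∀ w, w ∈ B ↔ w = x ∨ w = y ∨ w = z := by
  classical
  have h1 := cz_self_lt hM hB (by omega) hx
  have h2 := cz_self_pos hM.1 hx
  have h3 := sum_cz_sq hM hB hx
  rw [hd] at h1 h3
  rw [← Finset.add_sum_erase _ _ (mem_bF.2 hx)] at h3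
  have h4 : ∑ ξ ∈ (bF B).erase x, cz 3 B x ξ ^ 2 = 2 := by
    have : cz 3 B x x = 1 ∨ cz 3 B x x = 2 := by omega
    rcases this with e | e <;> rw [e] at h3 <;> omega
  have h5 : (((bF B).erase x).card : ℤ) ≤ 2 := by
    rw [← h4, Finset.card_eq_sum_ones, Nat.cast_sum]
    refine Finset.sum_le_sum fun ξ hξ => ?_
    have hξ' := mem_bF.1 (Finset.mem_of_mem_erase hξ)
    have := cz_ne_zero_of_height_zero hM hB hx hξ'
      (height_eq_zero_of_defect_le_two hM hB (by omega) hξ')
    have a : 0 < cz 3 B x ξ ^ 2 := by positivity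
    push_cast
    omega
  have h6 : ((bF B).erase x).card = 2 := by
    have : ((bF B).erase x).card = 0 ∨ ((bF B).erase x).card = 1 ∨
      ((bF B).erase x).card = 2 := by omega
    rcases this with e | e | e
    · rw [Finset.card_eq_zero.1 e] at h4
      simp at h4
    · obtain ⟨w, hw⟩ := Finset.card_eq_one.1 e
      rw [hw, Finset.sum_singleton] at h4
      exfalso
      generalize cz 3 B x w = s at h4
      have a : s ≤ 1 := by nlinarith
      have b : -1 ≤ s := by nlinarith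
      interval_cases s <;> simp at h4
    · exact e
  obtain ⟨y, z, hyz, he⟩ := Finset.card_eq_two.1 h6
  have hy : y ∈ (bF B).erase x := by simp [he]
  have hz : z ∈ (bF B).erase x := by simp [he]
  refine ⟨y, z, (Finset.ne_of_mem_erase hy).symm, (Finset.ne_of_mem_erase hz).symm, hyz,
    fun w => ⟨fun hw => ?_, ?_⟩⟩
  · by_cases e : w = x
    · exact .inl e
    · have : w ∈ (bF B).erase x := Finset.mem_erase.2 ⟨e, mem_bF.2 hw⟩
      rw [he] at this
      exact .inr (by simpa using this)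
  · rintro (rfl | rfl | rfl)
    · exact hx
    · exact mem_bF.1 (Finset.mem_of_mem_erase hy)
    · exact mem_bF.1 (Finset.mem_of_mem_erase hz)

/-- One row of the contribution matrix. -/
theorem row (hM : IsPModular 3 M) (hB : IsPBlock M B) (hd : blockDefect 3 B = 1)
    {x y z : IrrCharacter G} (hxy : x ≠ y) (hxz : x ≠ z) (hyz : y ≠ z)
    (h : ∀ w, w ∈ B ↔ w = x ∨ w = y ∨ w = z) :
    (cz 3 B x x = 1 ∨ cz 3 B x x = 2) ∧ (cz 3 B x y = 1 ∨ cz 3 B x y = -1) ∧
      (cz 3 B x z = 1 ∨ cz 3 B x z = -1) ∧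
      cz 3 B x x * cz 3 B x y + cz 3 B x y * cz 3 B y y + cz 3 B x z * cz 3 B y z =
        3 * cz 3 B x y ∧
      (∀ g, ¬ 3 ∣ orderOf g → 3 * x.1 g =
        cz 3 B x x * x.1 g + cz 3 B x y * y.1 g + cz 3 B x z * z.1 g) ∧
      ∀ g, 3 ∣ orderOf g → 0 = cz 3 B x x * x.1 g + cz 3 B x y * y.1 g + cz 3 B x z * z.1 g := by
  classical
  have hx : x ∈ B := (h x).2 (.inl rfl)
  have hy : y ∈ B := (h y).2 (.inr (.inl rfl))
  have hz : z ∈ B := (h z).2 (.inr (.inr rfl))
  have hF : bF B = {x, y, z} := by ext w; simp [h]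
  have hs : ∀ {R : Type u} [AddCommMonoid R] (f : IrrCharacter G → R),
      ∑ w ∈ bF B, f w = f x + f y + f z := by
    intro R _ f
    rw [hF, Finset.sum_insert (by simp [hxy, hxz]), Finset.sum_pair hyz, add_assoc]
  have hs' : ∀ f : IrrCharacter G → ℤ, ∑ w ∈ bF B, f w = f x + f y + f z := by
    intro f
    rw [hF, Finset.sum_insert (by simp [hxy, hxz]), Finset.sum_pair hyz, add_assoc]
  have h1 := cz_self_lt hM hB (by omega) hx
  have h2 := cz_self_pos hM.1 hx
  have h3 := sum_cz_sq hM hB hx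
  have h4 := smul_pReg_eq_sum_cz hM hB hx
  have h5 := sum_cz_mul_cz hM hB hx y
  rw [hd] at h1 h3 h4 h5
  rw [hs'] at h3 h5
  rw [hs] at h4
  have m : cz 3 B x x = 1 ∨ cz 3 B x x = 2 := by omega
  have ny := cz_ne_zero_of_height_zero hM hB hx hy
    (height_eq_zero_of_defect_le_two hM hB (by omega) hy)
  have nz := cz_ne_zero_of_height_zero hM hB hx hz
    (height_eq_zero_of_defect_le_two hM hB (by omega) hz)
  have k := sq_two ny nz (by rcases m with e | e <;> rw [e] at h3 <;> omega)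
  refine ⟨m, k.1, k.2, ?_, fun g hg => ?_, fun g hg => ?_⟩
  · rw [cz_comm z y] at h5
    simpa using h5
  · have := congrFun h4 g
    rw [Pi.smul_apply, pReg_of_reg _ hg] at this
    simpa using this
  · have := congrFun h4 g
    rw [Pi.smul_apply, pReg_of_sing _ hg] at this
    simpa using this

theorem tr_of (hM : IsPModular 3 M) (hB : IsPBlock M B) (hd : blockDefect 3 B = 1)
    (hG : (Nat.card G).factorization 3 = 3)
    {a b c : IrrCharacter G} (hab : a ≠ b) (hac : a ≠ c) (hbc : b ≠ c)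
    (h : ∀ w, w ∈ B ↔ w = a ∨ w = b ∨ w = c)
    (alt : ((∀ g, ¬ 3 ∣ orderOf g → a.1 g + b.1 g = c.1 g) ∧
      ∀ g, 3 ∣ orderOf g → b.1 g = a.1 g ∧ c.1 g = -a.1 g) ∨
    ((∀ g, ¬ 3 ∣ orderOf g → b.1 g = a.1 g ∧ c.1 g = a.1 g) ∧
      ∀ g, 3 ∣ orderOf g → a.1 g + b.1 g + c.1 g = 0)) : Tr a b c := by
  have hm : ∀ w, w ∈ [a, b, c] ↔ w ∈ B := fun w => by simp [h]
  refine ⟨by simp [hab, hac, hbc], fun χ hχ => ?_, fun χ hχ ψ => ?_, alt⟩
  · have hχ' := (hm χ).1 hχ
    have h1 := nu_add_blockDefect 3 hχ'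
    rw [hd, hG, height_eq_zero_of_defect_le_two hM hB (by omega) hχ'] at h1
    have h0 := deg_ne_zero χ
    constructor
    · exact (Nat.prime_three.pow_dvd_iff_le_factorization (k := 2) h0).2 (by omega)
    · intro h27
      have := (Nat.prime_three.pow_dvd_iff_le_factorization (k := 3) h0).1 h27
      omega
  · have hχ' := (hm χ).1 hχ
    rw [hm]
    refine ⟨fun hψ => ?_, fun hψ => ?_⟩
    · exact classInner_pReg_ne_zero_of_height_zero hM hB hχ'
        (height_eq_zero_of_defect_le_two hM hB (by omega) hχ') hψ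
    · by_contra hn
      exact hψ (classInner_pReg_eq_zero hM hB hχ' hn)

theorem not_neg (x y z : IrrCharacter G) {k : ℕ} (h : (k : ℂ) * x.1 1 = -y.1 1 - z.1 1) : False := by
  have h8 : ((k * dg x + dg y + dg z : ℕ) : ℂ) = 0 := by
    push_cast
    rw [coe_dg, coe_dg, coe_dg]
    linear_combination h
  have := deg_ne_zero y
  rw [Nat.cast_eq_zero] at h8
  unfold dg at h8
  omega

theorem jobTri : JobTri.{u} := by
  intro G _ _ hG χ h9 h27
  obtain ⟨M, hM⟩ := exists_isPModular 3 Nat.prime_three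
  haveI : M.IsMaximal := hM.2.1
  have hB := H34.isPBlock_blockOf (M := M) χ
  have hχ := H34.self_mem_blockOf (M := M) χ
  generalize blockOf M (χ : G → ℂ) = B at hB hχ
  have hG3 : (Nat.card G).factorization 3 = 3 := by
    rw [hG, show 244823040 = 3 ^ 3 * 9067520 by norm_num, Nat.factorization_mul (by norm_num)
      (by norm_num), Finsupp.add_apply, Nat.prime_three.factorization_pow,
      Nat.factorization_eq_zero_of_not_dvd (by norm_num)]
    simp
  have h0 := deg_ne_zero χ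
  have hν : (charDegree (χ : G → ℂ)).factorization 3 = 2 := by
    have a := (Nat.prime_three.pow_dvd_iff_le_factorization (k := 2) h0).1 h9
    have b := (Nat.prime_three.pow_dvd_iff_le_factorization (k := 3) h0).not.1 h27
    omega
  have hd : blockDefect 3 B = 1 := by
    have h1 := nu_add_blockDefect 3 hχ
    rw [hν, hG3] at h1
    by_cases hh : blockHeight 3 B (χ : G → ℂ) = 0
    · omega
    · have := height_add_two_le hM hB hχ hh
      omega
  obtain ⟨y, z, hxy, hxz, hyz, h⟩ := exists_three hM hB hd hχ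
  have hy : ∀ w, w ∈ B ↔ w = y ∨ w = χ ∨ w = z := fun w => by rw [h]; tauto
  have hz : ∀ w, w ∈ B ↔ w = z ∨ w = χ ∨ w = y := fun w => by rw [h]; tauto
  have hz' : ∀ w, w ∈ B ↔ w = χ ∨ w = z ∨ w = y := fun w => by rw [h]; tauto
  have hy' : ∀ w, w ∈ B ↔ w = y ∨ w = z ∨ w = χ := fun w => by rw [h]; tauto
  obtain ⟨a1, a2, a3, a4, a5, a6⟩ := row hM hB hd hxy hxz hyz h
  obtain ⟨b1, -, b3, -, b5, b6⟩ := row hM hB hd hxy.symm hyz hxz hy
  obtain ⟨c1, -, -, c4, c5, c6⟩ := row hM hB hd hxz.symm hyz.symm hxy hz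
  rw [cz_comm y χ] at b5 b6
  rw [cz_comm z χ, cz_comm z y] at c4 c5 c6
  have o1 : ¬ 3 ∣ orderOf (1 : G) := by simp
  have a7 := a5 1 o1
  have b7 := b5 1 o1
  have c7 := c5 1 o1
  generalize cz 3 B χ χ = m1 at *
  generalize cz 3 B y y = m2 at *
  generalize cz 3 B z z = m3 at *
  generalize cz 3 B χ y = s at *
  generalize cz 3 B χ z = t at *
  generalize cz 3 B y z = r at *
  rcases a1 with rfl | rfl <;> rcases b1 with rfl | rfl <;> rcases c1 with rfl | rfl <;>
    rcases a2 with rfl | rfl <;> rcases a3 with rfl | rfl <;> rcases b3 with rfl | rfl <;>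
    (try omega) <;> push_cast at a5 a6 a7 b5 b6 b7 c5 c6 c7
  · exact ⟨χ, y, z, by simp, tr_of hM hB hd hG3 hxy hxz hyz h (.inr ⟨fun g hg =>
      ⟨by linear_combination (b5 g hg - a5 g hg) / 3,
        by linear_combination (c5 g hg - a5 g hg) / 3⟩,
      fun g hg => by linear_combination -a6 g hg⟩)⟩
  · exact (not_neg z χ y (k := 2) (by push_cast; linear_combination c7)).elim
  · exact (not_neg y χ z (k := 2) (by push_cast; linear_combination b7)).elim
  · exact (not_neg χ y z (k := 2) (by push_cast; linear_combination a7)).elim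
  · exact ⟨y, z, χ, by simp, tr_of hM hB hd hG3 hyz hxy.symm hxz.symm hy' (.inl ⟨fun g hg =>
      by linear_combination -a5 g hg, fun g hg =>
      ⟨by linear_combination (b6 g hg - c6 g hg) / 3,
        by linear_combination (-2 * b6 g hg - c6 g hg) / 3⟩⟩)⟩
  · exact ⟨χ, z, y, by simp, tr_of hM hB hd hG3 hxz hxy hyz.symm hz' (.inl ⟨fun g hg =>
      by linear_combination -b5 g hg, fun g hg =>
      ⟨by linear_combination (a6 g hg - c6 g hg) / 3,
        by linear_combination (-2 * a6 g hg - c6 g hg) / 3⟩⟩)⟩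
  · exact ⟨χ, y, z, by simp, tr_of hM hB hd hG3 hxy hxz hyz h (.inl ⟨fun g hg =>
      by linear_combination -c5 g hg, fun g hg =>
      ⟨by linear_combination (a6 g hg - b6 g hg) / 3,
        by linear_combination (-2 * a6 g hg - b6 g hg) / 3⟩⟩)⟩
  · exact (not_neg χ y z (k := 1) (by push_cast; linear_combination a7)).elim

end H13.M24
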