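/- S1308, tower NF: job DS (dihedral Sylow 2-subgroup and a central involution give solvability). -/
import Cfsg.Agent.H54.NFSpec
import Cfsg.Agent.H8.TransferEval
import Cfsg.Agent.H42.OddOrder

set_option autoImplicit false

namespace H13.NFDS

open Cfsg Subgroup MulAction H14 H98 H1.Gold H31.S2 H14.GC H14.FE H54.NF
open scoped commutatorElement

universe u

variable {G : Type u} [Group G] [Finite G]

omit [Finite G] in
theorem sol_ext (N : Subgroup G) [N.Normal] (h1 : Group.IsSolvable N)
    (h2 : Group.IsSolvable (G ⧸ N)) : Group.IsSolvable G :=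
  Group.isSolvable_of_ker_le_range N.subtype (QuotientGroup.mk' N) (by simp)

theorem sol_cyc (S : Sylow 2 G) (hS : IsCyclic S) : Group.IsSolvable G := by
  rcases Nat.even_or_odd (Nat.card G) with h | h
  · have h2 : (Nat.card G).minFac = 2 := (Nat.minFac_eq_two_iff _).2 h.two_dvd
    have hc := hS.isComplement' h2
    refine sol_ext (MonoidHom.transferSylow S (hS.normalizer_le_centralizer h2)).ker
      (H42.odd_order ?_) ?_
    · rw [← hc.index_eq_card]
      exact Nat.odd_iff.2 (Nat.two_dvd_ne_zero.1 S.not_dvd_index)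
    · have : IsPGroup 2 (G ⧸ (MonoidHom.transferSylow S
          (hS.normalizer_le_centralizer h2)).ker) := by
        obtain ⟨k, hk⟩ := IsPGroup.iff_card.1 S.isPGroup'
        exact IsPGroup.of_card (hc.symm.index_eq_card.trans hk)
      have := this.isNilpotent
      infer_instance
  · exact H42.odd_order h

theorem uniq {M : Subgroup G} (hM : IsCyclic M) {w z : G} (hw : w ∈ M) (hz : z ∈ M) (w1 : w ≠ 1)
    (z1 : z ≠ 1) (w2 : w * w = 1) (z2 : z * z = 1) : w = z := by
  classical
  have := Fintype.ofFinite M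
  by_contra ne
  have h := IsCyclic.card_pow_eq_one_le (α := M) (n := 2) two_pos
  have sub : ({1, ⟨w, hw⟩, ⟨z, hz⟩} : Finset M) ⊆ Finset.univ.filter fun a : M => a ^ 2 = 1 := by
    intro a ha
    simp only [Finset.mem_insert, Finset.mem_singleton] at ha
    rw [Finset.mem_filter]
    refine ⟨Finset.mem_univ _, ?_⟩
    rcases ha with rfl | rfl | rfl
    · exact one_pow _
    · exact Subtype.ext (by simpa [pow_two] using w2)
    · exact Subtype.ext (by simpa [pow_two] using z2)
  have h3 : ({1, ⟨w, hw⟩, ⟨z, hz⟩} : Finset M).card = 3 := Finset.card_eq_three.2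
    ⟨_, _, _, fun e => w1 (Subtype.ext_iff.1 e).symm, fun e => z1 (Subtype.ext_iff.1 e).symm,
      fun e => ne (Subtype.ext_iff.1 e), rfl⟩
  have := Finset.card_le_card sub
  omega

theorem core {R M : Subgroup G} {z : G} (hR : IsSyl 2 R ⊤) (hM : IsCyclic M)
    (idx : M.relIndex R = 2) (inv : ∀ x ∈ R, x ∉ M → x * x = 1) (zM : z ∈ M) (z1 : z ≠ 1)
    (z2 : z * z = 1) (zc : ∀ g : G, g * z = z * g) : Group.IsSolvable G := by
  have : Fact (Nat.Prime 2) := ⟨Nat.prime_two⟩
  have odd : Odd R.index := H8.odd_index_sylow_two hR.toSylowTop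
  have le : R ⊓ _root_.commutator G ≤ M := fun s hs => by
    by_contra sM
    have s2 := inv s hs.1 sM
    obtain ⟨N, -, i2, sN⟩ := H8.thompson_transfer R M odd idx s (by rw [pow_two, s2]) fun g hg => by
      have e := uniq hM hg zM (fun e => sM (by
        rw [show s = 1 by simpa using e]; exact one_mem M)) z1 (by
          calc g * s * g⁻¹ * (g * s * g⁻¹) = g * (s * s) * g⁻¹ := by group
            _ = 1 := by rw [s2]; group) z2
      refine sM ?_
      rw [show s = z by
        calc s = g⁻¹ * (g * s * g⁻¹) * g := by group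
          _ = z := by rw [e, zc g⁻¹, inv_mul_cancel_right]]
      exact zM
    refine sN ((commutator_le (H₁ := ⊤) (H₂ := ⊤)).2 (fun a _ b _ => ?_) hs.2)
    rw [commutatorElement_def]
    simp only [mul_mem_iff_of_index_two i2, inv_mem_iff]
    tauto
  obtain ⟨P, hP⟩ := (hR.inf_of_le_normalizer (N := _root_.commutator G) le_top
    le_normalizer_of_normal).exists_sylow
  have hc : IsCyclic ↥(R ⊓ _root_.commutator G) := Subgroup.isCyclic_of_le le
  refine sol_ext (_root_.commutator G) (sol_cyc P ?_) (inferInstanceAs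
    (Group.IsSolvable (Abelianization G)))
  rw [hP]
  exact isCyclic_of_surjective _ (subgroupOfEquivOfLe inf_le_right).symm.surjective

theorem jobDS : JobDS.{u} := by
  intro G _ _ C R ρ z hR d hz iz hC
  have le : zpowers ρ ≤ C := (zpowers_le.2 d.mem).trans hR.le
  exact core (z := ⟨z, le hz⟩) (M := (zpowers ρ).subgroupOf C) hR.subgroupOf_top
    (isCyclic_of_surjective _ (subgroupOfEquivOfLe le).symm.surjective)
    (by rw [relIndex_subgroupOf hR.le]; exact d.idx)
    (fun x hx hn => Subtype.ext (d.inv x hx hn)) hz (fun e => iz.1 (Subtype.ext_iff.1 e))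
    (Subtype.ext iz.2)
    fun g => Subtype.ext (mem_centralizer_singleton_iff.1 (hC g.2))

end H13.NFDS
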