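import Cfsg.Agent.H31.O7K
import Cfsg.Agent.H93.S2BW2
import Cfsg.Agent.H9.SecE8c
import Cfsg.Agent.H22.Weights

/-! O7, slot SR4: sectional `2`-rank at most four. -/

set_option autoImplicit false
set_option linter.unusedSectionVars false

namespace H13.O7S

open H56 QuadraticMap Module Cfsg Subgroup H9.Sec H31.O7

universe u

section grp

/-- sections of exponent two have order at most `n` -/
def SR (n : ℕ) (G : Type*) [Group G] : Prop := ∀ H K : Subgroup G, SQ H K → K.relIndex H ≤ n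

theorem SR.mul {G A : Type*} [Group G] [Finite G] [Group A] {a b : ℕ} (f : G →* A)
    (h1 : SR a f.ker) (h2 : SR b f.range) : SR (a * b) G := fun H K hs => by
  have e1 := swap f.ker K H
  have e3 := H9.relIndex_mul_card_inf ((K ⊓ H).map f.rangeRestrict) (H.map f.rangeRestrict)
  rw [inf_eq_left.mpr (Subgroup.map_mono inf_le_right), ← Subgroup.relIndex_ker,
    ← Subgroup.relIndex_ker, MonoidHom.ker_rangeRestrict] at e3
  have e4 : K.relIndex H = K.relIndex (f.ker ⊓ H) *
      ((K ⊓ H).map f.rangeRestrict).relIndex (H.map f.rangeRestrict) :=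
    Nat.eq_of_mul_eq_mul_left (relIndex_pos f.ker (K ⊓ H)) (by rw [e1, ← e3]; ring)
  rw [e4, ← relIndex_subgroupOf (inf_le_left : f.ker ⊓ H ≤ f.ker)]
  refine Nat.mul_le_mul (h1 _ _ fun x hx => hs _ hx.2) (h2 _ _ ?_)
  rintro _ ⟨y, hy, rfl⟩
  exact ⟨y * y, ⟨hs y hy, H.mul_mem hy hy⟩, map_mul _ _ _⟩

theorem perm8 : SectionalPRankLE 2 4 (Equiv.Perm (Multiplicative (Fin 3 → ZMod 2))) := by
  let M := Multiplicative (Fin 3 → ZMod 2)
  let φ := MulAction.toPermHom M M
  have c8 : Nat.card φ.range = 8 := by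
    rw [← Nat.card_congr (MonoidHom.ofInjective (f := φ) MulAction.toPerm_injective).toEquiv]
    simp [M]
  have hE : IsPGroup 2 φ.range := IsPGroup.of_card (n := 3) c8
  obtain ⟨P, hP⟩ := hE.exists_le_sylow
  refine sec_of_sylow P (SA.sec (A := φ.range.subgroupOf P) ⟨P.2, ?_, ?_, ?_⟩)
  · rintro ⟨_, h⟩ ⟨a, rfl⟩
    refine Subtype.ext ?_
    change φ a * φ a = 1
    rw [← map_mul, show a * a = 1 from (by decide : ∀ a : M, a * a = 1) a, map_one]
  · rw [Nat.card_congr (subgroupOfEquivOfLe hP).toEquiv, c8]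
  · intro g hg
    refine ⟨g.1 1, Equiv.ext fun x => ?_⟩
    have := congrArg (fun s : P => s.1 1) (hg ⟨φ x, hP ⟨x, rfl⟩⟩ ⟨x, rfl⟩)
    change g.1 (x * 1) = x * g.1 1 at this
    change g.1 1 * x = g.1 x
    rw [mul_comm, ← this, mul_one]

theorem sec_of_perm {G X : Type*} [Group G] [Finite X] (hX : Nat.card X ≤ 8)
    (f : G →* Equiv.Perm X) (hf : Function.Injective f) : SectionalPRankLE 2 4 G := by
  haveI := Fintype.ofFinite X
  obtain ⟨e⟩ := Function.Embedding.nonempty_of_card_le (α := X)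
    (β := Multiplicative (Fin 3 → ZMod 2)) (by rw [← Nat.card_eq_fintype_card]; simpa using hX)
  exact H3.sectionalPRankLE_of_injective perm8 ((Equiv.Perm.viaEmbeddingHom e).comp f)
    ((Equiv.Perm.viaEmbeddingHom_injective e).comp hf)

end grp

variable {K : Type u} [Field K] {V : Type u} [AddCommGroup V] [Module K V] [FiniteDimensional K V]
  {Q : QuadraticForm K V} {S : Type*} [Group S]

/-- restriction to an invariant subspace -/
def res (σ : S →* O Q) (U : Submodule K V) (h : ∀ s, ∀ u ∈ U, σ s u ∈ U) : S →* O (Q.restrict U) :=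
  MonoidHom.mk' (fun s => O.ofInv ((σ s).lin.restrict (h s)) ((σ s⁻¹).lin.restrict (h s⁻¹))
    (fun x => (σ s).map_Q x)
    (fun x => Subtype.ext (by
      change σ s (σ s⁻¹ x) = x
      rw [map_inv, O.apply_inv_apply]))
    fun x => Subtype.ext (by
      change σ s⁻¹ (σ s x) = x
      rw [map_inv, O.inv_apply_apply]))
    fun a b => O.ext fun x => Subtype.ext (by
      change σ (a * b) x = σ a (σ b x)
      rw [map_mul, O.mul_apply])

theorem res_eq_one {σ : S →* O Q} {U : Submodule K V} {h : ∀ s, ∀ u ∈ U, σ s u ∈ U} {s : S} :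
    res σ U h s = 1 ↔ ∀ u ∈ U, σ s u = u :=
  ⟨fun e u hu => congrArg (fun g : O (Q.restrict U) => (g ⟨u, hu⟩ : V)) e,
    fun e => O.ext fun x => Subtype.ext (e x x.2)⟩

theorem nd_res {U : Submodule K V} (h : ∀ u ∈ U, (∀ w ∈ U, polar Q u w = 0) → u = 0) :
    (Q.restrict U).polarBilin.Nondegenerate :=
  nondegenerate_of_polar fun x hx => Subtype.ext (h x x.2 fun w hw => by
    simpa [polar] using hx ⟨w, hw⟩)

variable [IsAlgClosed K]

theorem exists_unit {v : V} (hv : Q v ≠ 0) : ∃ c : K, c ≠ 0 ∧ Q (c • v) = 1 := by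
  obtain ⟨c, hc⟩ := IsAlgClosed.exists_eq_mul_self (Q v)⁻¹
  refine ⟨c, fun e => ?_, by rw [Q_smul, ← hc, inv_mul_cancel₀ hv]⟩
  rw [e, mul_zero] at hc
  exact hv (inv_eq_zero.1 hc)

theorem exists_hyp (h2 : (2 : K) ≠ 0) (hQ : Q.polarBilin.Nondegenerate) (hd : finrank K V = 2) :
    ∃ v w : V, Q v = 0 ∧ Q w = 0 ∧ polar Q v w = 1 := by
  obtain ⟨v, hv0, hv⟩ : ∃ v : V, v ≠ 0 ∧ Q v = 0 := by
    obtain ⟨x, hx⟩ := finrank_pos_iff_exists_ne_zero.1 (show 0 < finrank K V by omega)
    by_cases hx0 : Q x = 0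
    · exact ⟨x, hx, hx0⟩
    have h1 := finrank_perp hQ (Submodule.span K {x})
    rw [finrank_span_singleton hx] at h1
    obtain ⟨y, hy⟩ := finrank_pos_iff_exists_ne_zero.1
      (show 0 < finrank K (perp Q (Submodule.span K {x})) by omega)
    have hp := mem_perp_span_singleton.1 y.2
    obtain ⟨c, hc⟩ := IsAlgClosed.exists_eq_mul_self (-Q y.1 / Q x)
    refine ⟨c • x + y, fun e => ?_, ?_⟩
    · have := congrArg (polar Q x) e
      rw [polar_add_right, hp, polar_smul_right, polar_self', polar_zero_right, add_zero,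
        smul_eq_mul] at this
      have c0 : c = 0 := by simpa [h2, hx0] using this
      rw [c0, zero_smul, zero_add] at e
      exact hy (Subtype.ext e)
    · rw [Q_add, Q_smul, ← hc, polar_smul_left, hp]
      field_simp
      simp
  obtain ⟨w, hw⟩ := exists_polar_eq_one hQ hv0
  refine ⟨v, w - Q w • v, hv, ?_, ?_⟩
  · rw [Q_sub, Q_smul, hv, polar_smul_right, polar_comm, hw]; simp
  · rw [polar_sub_right, polar_smul_right, polar_self', hv, hw]; simp

/-- finite subgroups of `O₂` -/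
theorem sr2 [Finite S] (h2 : (2 : K) ≠ 0) (hQ : Q.polarBilin.Nondegenerate) (hd : finrank K V = 2)
    (σ : S →* O Q) (hσ : Function.Injective σ) : SR 4 S := by
  obtain ⟨v, w, hv, hw, hp⟩ := exists_hyp h2 hQ hd
  have vv : polar Q v v = 0 := by rw [polar_self', hv, mul_zero]
  have ww : polar Q w w = 0 := by rw [polar_self', hw, mul_zero]
  have dec : ∀ x : V, ∃ a b : K, x = a • v + b • w := fun x => by
    have li : LinearIndependent K ![v, w] := LinearIndependent.pair_iff.2 fun a b e => by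
      have e1 := congrArg (polar Q v) e
      have e2 := congrArg (polar Q w) e
      rw [polar_add_right, polar_smul_right, polar_smul_right, polar_zero_right] at e1 e2
      rw [vv, hp] at e1
      rw [ww, polar_comm, hp] at e2
      exact ⟨by simpa using e2, by simpa using e1⟩
    have : x ∈ Submodule.span K {v, w} := by
      rw [Submodule.eq_top_of_finrank_eq ((finrank_span_pair li).trans hd.symm)]; trivial
    obtain ⟨a, b, e⟩ := Submodule.mem_span_pair.1 this
    exact ⟨a, b, e.symm⟩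
  have qq : ∀ a b : K, Q (a • v + b • w) = a * b := fun a b => by
    rw [Q_add, Q_smul, Q_smul, hv, hw, polar_smul_left, polar_smul_right, hp]; simp
  let M : Subgroup S :=
    { carrier := {s | ∃ a : K, a ≠ 0 ∧ σ s v = a • v}
      one_mem' := ⟨1, one_ne_zero, by rw [map_one, O.one_apply, one_smul]⟩
      mul_mem' := fun ⟨a, a0, ha⟩ ⟨b, b0, hb⟩ => ⟨b * a, mul_ne_zero b0 a0, by
        rw [map_mul, O.mul_apply, hb, map_smul, ha, smul_smul]⟩
      inv_mem' := fun ⟨a, a0, ha⟩ => ⟨a⁻¹, inv_ne_zero a0, by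
        rw [map_inv, O.inv_apply_eq, map_smul, ha, smul_smul, inv_mul_cancel₀ a0, one_smul]⟩ }
  have pw : ∀ a : K, polar Q (a • v) w = a := fun a => by rw [polar_smul_left, hp]; simp
  let f : M →* K :=
    { toFun := fun s => polar Q (σ s v) w
      map_one' := by rw [OneMemClass.coe_one, map_one, O.one_apply, hp]
      map_mul' := fun ⟨s, a, _, ha⟩ ⟨t, b, _, hb⟩ => by
        change polar Q (σ (s * t) v) w = polar Q (σ s v) w * polar Q (σ t v) w
        rw [map_mul, O.mul_apply, hb, map_smul, ha, smul_smul, pw, pw, pw, mul_comm] }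
  have fi : Function.Injective f := (injective_iff_map_eq_one f).2 fun ⟨s, a, _, ha⟩ e => by
    change polar Q (σ s v) w = 1 at e
    rw [ha, pw] at e
    rw [e, one_smul] at ha
    obtain ⟨c, d, hc⟩ := dec (σ s w)
    have e1 := (σ s).map_Q w
    have e2 := (σ s).map_polar v w
    rw [hc, qq, hw] at e1
    rw [ha, hc, polar_add_right, polar_smul_right, polar_smul_right, vv, hp] at e2
    have d1 : d = 1 := by simpa using e2
    rw [d1, mul_one] at e1
    rw [d1, e1, zero_smul, zero_add, one_smul] at hc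
    refine Subtype.ext (hσ (O.ext fun x => ?_))
    obtain ⟨a, b, rfl⟩ := dec x
    change σ s _ = σ 1 _
    rw [map_add, map_smul, map_smul, ha, hc, map_one, O.one_apply]
  haveI := isCyclic_of_injective_ringHom f fi
  obtain ⟨g, hg⟩ := IsCyclic.exists_generator (α := M)
  have out : ∀ s, s ∉ M → ∃ b : K, b ≠ 0 ∧ σ s v = b • w := fun s hs => by
    obtain ⟨a, b, e⟩ := dec (σ s v)
    have e1 := (σ s).map_Q v
    rw [e, qq, hv] at e1
    have n0 : σ s v ≠ 0 := fun e => by
      rw [(σ s).apply_eq_zero.1 e, polar_zero_left] at hp; exact zero_ne_one hp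
    rcases mul_eq_zero.1 e1 with rfl | rfl
    · exact ⟨b, fun b0 => n0 (by rw [e, b0]; simp), by rw [e]; simp⟩
    · exact absurd ⟨a, fun a0 => n0 (by rw [e, a0]; simp), by rw [e]; simp⟩ hs
  intro H L hs
  refine (le_mul_relIndex M L H).trans (Nat.mul_le_mul (cyc_relIndex_le_two (g := g.1)
    (fun x hx => ?_) (hs.mono inf_le_right)) (relIndex_le_two' fun x _ y _ a b => ?_))
  · obtain ⟨i, hi⟩ := hg ⟨x, hx.1⟩
    exact ⟨i, congrArg Subtype.val hi⟩
  · obtain ⟨c, c0, hc⟩ := out x a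
    obtain ⟨d, d0, hd⟩ := out y b
    refine ⟨c / d, div_ne_zero c0 d0, ?_⟩
    rw [map_mul, O.mul_apply, map_inv, O.inv_apply_eq, map_smul, hc, hd, smul_smul,
      div_mul_cancel₀ _ d0]

/-- finite `2`-subgroups of `O₄` -/
theorem sr4 [Finite S] (h2 : (2 : K) ≠ 0) (hQ : Q.polarBilin.Nondegenerate) (hd : finrank K V ≤ 4)
    (hS : IsPGroup 2 S) (σ : S →* O Q) (hσ : Function.Injective σ) : SectionalPRankLE 2 4 S := by
  by_contra hne
  obtain ⟨A, hA, -, hA2, hA4⟩ : ∃ A : Subgroup S, A.Normal ∧ IsMulCommutative A ∧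
      (∀ a ∈ A, a ^ 2 = 1) ∧ ¬ Nat.card A ≤ 4 := by
    by_contra h
    exact hne (H93.S2W.rank_le_four hS fun A a b c => by_contra fun d => h ⟨A, a, b, c, d⟩)
  apply hne
  have sq : ∀ a ∈ A, a * a = 1 := fun a ha => by rw [← pow_two]; exact hA2 a ha
  let f : A → Module.End K V := fun a => (σ a).lin
  have mw : ∀ {χ : A → K} {v : V}, v ∈ H22.wt f χ ↔ ∀ a : A, σ a v = χ a • v := H22.mem_wt
  have hc : ∀ s t : A, Commute (f s) (f t) := fun s t => LinearMap.ext fun x => by
    change σ s (σ t x) = σ t (σ s x)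
    rw [← O.mul_apply, ← O.mul_apply, ← map_mul, ← map_mul, comm_of_sq sq s s.2 t t.2]
  have aa : ∀ (a : A) (x : V), σ a (σ a x) = x := fun a x => by
    rw [← O.mul_apply, ← map_mul, sq a a.2, map_one, O.one_apply]
  have ho : ∀ s : A, ∃ n : ℕ, (n : K) ≠ 0 ∧ f s ^ n = 1 := fun s =>
    ⟨2, by exact_mod_cast h2, LinearMap.ext fun x => aa s x⟩
  have ext := @H22.ext_of_wt K V A _ _ _ _ _ f hc ho
  have pm : ∀ {χ : A → K} {v : V}, v ∈ H22.wt f χ → v ≠ 0 → ∀ a, χ a * χ a = 1 := fun {χ v} hv h0 a => by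
    have := aa a v
    rw [mw.1 hv, map_smul, mw.1 hv, smul_smul] at this
    exact smul_left_injective K h0 (this.trans (one_smul K _).symm)
  have orth : ∀ {χ ψ : A → K} {v w : V}, v ∈ H22.wt f χ → w ∈ H22.wt f ψ → χ ≠ ψ →
      polar Q v w = 0 := fun {χ ψ v w} hv hw hne => by
    by_cases h0 : v = 0
    · rw [h0, polar_zero_left]
    obtain ⟨a, ha⟩ := Function.ne_iff.1 hne
    have e := (σ a).map_polar v w
    rw [mw.1 hv, mw.1 hw, polar_smul_left, polar_smul_right, smul_eq_mul, smul_eq_mul] at e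
    refine (mul_eq_zero.1 (show (ψ a - χ a) * polar Q v w = 0 from ?_)).resolve_left
      (sub_ne_zero.2 ha.symm)
    linear_combination χ a * e - ψ a * polar Q v w * pm hv h0 a
  have nd : ∀ (χ : A → K), ∀ v ∈ H22.wt f χ, (∀ w ∈ H22.wt f χ, polar Q v w = 0) → v = 0 :=
    fun χ v hv h => eq_zero_of_polar hQ fun y => LinearMap.congr_fun
      (ext (Q.polarBilin v) 0 fun ψ w hw => by
        by_cases e : χ = ψ
        · exact h w (e ▸ hw)
        · exact orth hv hw e) y
  have mv : ∀ (s : S) (χ : A → K), ∃ ψ : A → K, ∀ v ∈ H22.wt f χ, σ s v ∈ H22.wt f ψ :=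
    fun s χ => ⟨fun a => χ ⟨s⁻¹ * a * s, hA.conj_mem' a a.2 s⟩, fun v hv => mw.2 fun a => by
      rw [← map_smul, ← mw.1 hv, ← O.mul_apply, ← O.mul_apply, ← map_mul, ← map_mul]
      congr 2
      group⟩
  have dim3 : ∀ {χ ψ ω : A → K}, χ ≠ ψ → χ ≠ ω → ψ ≠ ω → finrank K (H22.wt f χ) +
      finrank K (H22.wt f ψ) + finrank K (H22.wt f ω) ≤ finrank K V := fun {χ ψ ω} a b c => by
    have i := H22.iSupIndep_wt f
    have e1 := Submodule.finrank_sup_add_finrank_inf_eq (H22.wt f χ) (H22.wt f ψ)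
    have e2 := Submodule.finrank_sup_add_finrank_inf_eq (H22.wt f χ ⊔ H22.wt f ψ) (H22.wt f ω)
    rw [(i.pairwiseDisjoint a).eq_bot, finrank_bot] at e1
    rw [((i ω).symm.mono_left (sup_le (le_iSup₂_of_le χ b le_rfl)
      (le_iSup₂_of_le ψ c le_rfl))).eq_bot, finrank_bot] at e2
    have := (H22.wt f χ ⊔ H22.wt f ψ ⊔ H22.wt f ω).finrank_le
    omega
  have pos : ∀ {χ : A → K}, H22.wt f χ ≠ ⊥ → 0 < finrank K (H22.wt f χ) := fun h =>
    Nat.pos_of_ne_zero fun e => h (Submodule.finrank_eq_zero.1 e)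
  have three : ∀ χ ψ : A → K, ∃ ω, ω ≠ χ ∧ ω ≠ ψ ∧ H22.wt f ω ≠ ⊥ := fun χ ψ => by
    classical
    by_contra h
    push Not at h
    refine hA4 ((Nat.card_le_card_of_injective
      (fun a : A => (decide (χ a = 1), decide (ψ a = 1))) fun a b e => ?_).trans_eq (by simp))
    refine Subtype.ext (hσ (O.ext fun x => LinearMap.congr_fun (ext (f a) (f b) fun ω v hv => ?_) x))
    by_cases h0 : v = 0
    · rw [h0, map_zero, map_zero]
    have k : ω a = 1 ↔ ω b = 1 := by
      by_cases e1 : ω = χ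
      · rw [e1]; simpa using congrArg Prod.fst e
      by_cases e2 : ω = ψ
      · rw [e2]; simpa using congrArg Prod.snd e
      rw [h ω e1 e2] at hv
      exact absurd hv h0
    change σ a v = σ b v
    rw [mw.1 hv, mw.1 hv]
    rcases mul_self_eq_one_iff.1 (pm hv h0 a) with a1 | a1
    · rw [a1, k.1 a1]
    rcases mul_self_eq_one_iff.1 (pm hv h0 b) with b1 | b1
    · rw [b1, k.2 b1]
    · rw [a1, b1]
  by_cases h : ∃ χ, 2 ≤ finrank K (H22.wt f χ)
  · obtain ⟨χ, hχ⟩ := h
    have inv : ∀ s, ∀ u ∈ H22.wt f χ, σ s u ∈ H22.wt f χ := fun s => by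
      obtain ⟨ψ, hψ⟩ := mv s χ
      by_cases e : χ = ψ
      · exact e ▸ hψ
      obtain ⟨ω, a, b, c⟩ := three χ ψ
      have e1 := dim3 e a.symm b.symm
      have e2 : finrank K ((H22.wt f χ).map (σ s).lin) ≤ finrank K (H22.wt f ψ) :=
        Submodule.finrank_mono (Submodule.map_le_iff_le_comap.2 hψ)
      have e3 := (Submodule.equivMapOfInjective (σ s).lin (σ s).injective (H22.wt f χ)).finrank_eq
      have := pos c
      omega
    obtain ⟨ψ, a, -, c⟩ := three χ χ
    obtain ⟨ω, a', b', c'⟩ := three χ ψ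
    have e1 := dim3 a.symm a'.symm b'.symm
    have e2 := finrank_perp hQ (H22.wt f χ)
    have := pos c
    have := pos c'
    have inv' : ∀ s, ∀ u ∈ perp Q (H22.wt f χ), σ s u ∈ perp Q (H22.wt f χ) := fun s u hu =>
      mem_perp.2 fun w hw => by
        rw [O.polar_apply_right, ← map_inv]; exact mem_perp.1 hu _ (inv _ w hw)
    have dj : ∀ u ∈ perp Q (H22.wt f χ), (∀ w ∈ perp Q (H22.wt f χ), polar Q u w = 0) → u = 0 :=
      fun u hu h => nd χ u (perp_perp hQ (H22.wt f χ) ▸ mem_perp'.2 h) (mem_perp'.1 hu)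
    haveI : Finite (res σ _ inv).range := Finite.of_surjective _ (res σ _ inv).rangeRestrict_surjective
    refine sec_of (SR.mul (a := 4) (b := 4) (res σ _ inv) ?_
      (sr2 h2 (nd_res (nd χ)) (by omega) (Subgroup.subtype _) (subtype_injective _)))
    refine sr2 h2 (nd_res dj) (by omega) ((res σ _ inv').comp (Subgroup.subtype _))
      ((injective_iff_map_eq_one _).2 fun s hs => Subtype.ext (hσ (O.ext fun x =>
        LinearMap.congr_fun (ext (σ s).lin (σ 1).lin fun ω v hv => ?_) x)))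
    change σ s v = σ 1 v
    rw [map_one, O.one_apply]
    by_cases e : χ = ω
    · exact res_eq_one.1 s.2 v (e ▸ hv)
    · exact res_eq_one.1 hs v (mem_perp.2 fun w hw => orth hw hv e)
  · push Not at h
    have ln : ∀ {χ : A → K} {v w : V}, v ∈ H22.wt f χ → w ∈ H22.wt f χ → v ≠ 0 →
        ∃ c : K, c • v = w := fun {χ v w} hv hw h0 => by
      have h0' : (⟨v, hv⟩ : H22.wt f χ) ≠ 0 := fun e => h0 (congrArg Subtype.val e)
      have := (finrank_pos_iff_exists_ne_zero (R := K)).2 ⟨_, h0'⟩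
      have := h χ
      obtain ⟨c, hc⟩ := exists_smul_eq_of_finrank_eq_one (K := K) (by omega) h0' ⟨w, hw⟩
      exact ⟨c, congrArg Subtype.val hc⟩
    have un : ∀ {χ : A → K} {v : V}, v ∈ H22.wt f χ → v ≠ 0 → ∃ c : K, c ≠ 0 ∧ Q (c • v) = 1 :=
      fun {χ v} hv h0 => exists_unit fun e => h0 (nd χ v hv fun w hw => by
        obtain ⟨c, rfl⟩ := ln hv hw h0
        rw [polar_smul_right, polar_self', e]; simp)
    let Y : Type u := {v : V // Q v = 1 ∧ ∃ χ, v ∈ H22.wt f χ}
    let act : S → Y → Y := fun s y => ⟨σ s y.1, by rw [O.map_Q, y.2.1], by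
      obtain ⟨χ, hχ⟩ := y.2.2
      obtain ⟨ψ, hψ⟩ := mv s χ
      exact ⟨ψ, hψ _ hχ⟩⟩
    let φ : S →* Equiv.Perm Y := MonoidHom.toHomPerm
      { toFun := act
        map_one' := funext fun y => Subtype.ext (by
          change σ 1 y.1 = y.1
          rw [map_one, O.one_apply])
        map_mul' := fun a b => funext fun y => Subtype.ext (by
          change σ (a * b) y.1 = σ a (σ b y.1)
          rw [map_mul, O.mul_apply]) }
    let I : Type _ := {χ : A → K // H22.wt f χ ≠ ⊥}
    have he : ∀ χ : I, ∃ e ∈ H22.wt f χ.1, Q e = 1 := fun χ => by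
      obtain ⟨v, hv, h0⟩ := (Submodule.ne_bot_iff _).1 χ.2
      obtain ⟨c, -, hc⟩ := un hv h0
      exact ⟨c • v, Submodule.smul_mem _ c hv, hc⟩
    choose e e1 e2 using he
    have e0 : ∀ χ, e χ ≠ 0 := fun χ h0 => by
      have := e2 χ
      rw [h0, map_zero] at this
      exact zero_ne_one this
    have li := H22.linearIndependent_of_wt f (fun χ : I => χ.1) Subtype.val_injective e e1 e0
    haveI : Finite I := li.finite
    haveI := Fintype.ofFinite I
    have cI := li.fintype_card_le_finrank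
    let g : I × Bool → Y := fun p => ⟨if p.2 then e p.1 else -e p.1, by
      split_ifs
      · exact e2 _
      · rw [QuadraticMap.map_neg, e2], p.1.1, by
      split_ifs
      · exact e1 _
      · exact neg_mem (e1 _)⟩
    have gs : Function.Surjective g := fun ⟨y, y1, χ, y2⟩ => by
      have y0 : y ≠ 0 := fun h0 => by
        rw [h0, map_zero] at y1
        exact zero_ne_one y1
      let χ' : I := ⟨χ, (Submodule.ne_bot_iff _).2 ⟨y, y2, y0⟩⟩
      obtain ⟨c, hc⟩ := ln (e1 χ') y2 (e0 χ')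
      have y3 := y1
      rw [← hc, Q_smul, e2, mul_one] at y3
      rcases mul_self_eq_one_iff.1 y3 with rfl | rfl
      · exact ⟨(χ', true), Subtype.ext ((one_smul K _).symm.trans hc)⟩
      · exact ⟨(χ', false), Subtype.ext ((neg_one_smul K _).symm.trans hc)⟩
    haveI : Finite Y := Finite.of_surjective g gs
    refine sec_of_perm ((Nat.card_le_card_of_surjective g gs).trans ?_) φ
      ((injective_iff_map_eq_one _).2 fun s hs => hσ (O.ext fun x =>
        LinearMap.congr_fun (ext (σ s).lin (σ 1).lin fun ω v hv => ?_) x))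
    · rw [Nat.card_prod, Nat.card_eq_fintype_card, Nat.card_eq_fintype_card, Fintype.card_bool]
      omega
    change σ s v = σ 1 v
    rw [map_one, O.one_apply]
    by_cases h0 : v = 0
    · rw [h0, map_zero]
    obtain ⟨c, c0, hc⟩ := un hv h0
    have := congrArg (fun p : Equiv.Perm Y => (p ⟨c • v, hc, ω, Submodule.smul_mem _ c hv⟩).1) hs
    change σ s (c • v) = c • v at this
    rw [map_smul] at this
    exact smul_right_injective V c0 this

theorem jobSR4 : JobSR4.{u} := by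
  intro p K _ V _ _ _ Q Γ _ _ ρ h hK
  obtain ⟨S⟩ : Nonempty (Sylow 2 Γ) := inferInstance
  refine sec_of_sylow S ?_
  have h2 := h.two
  let σ : (S : Subgroup Γ) →* O Q := ρ.comp (Subgroup.subtype _)
  have hσ : Function.Injective σ := h.inj.comp (subtype_injective _)
  let C : Set (S : Subgroup Γ) := {z | z ∈ center _ ∧ z * z = 1}
  obtain ⟨z, ⟨zc, zz⟩, hz⟩ := Set.exists_max_image C (fun z => (σ z).rk) (Set.toFinite _)
    ⟨1, one_mem _, mul_one _⟩
  have cz : ∀ s, Commute (σ s) (σ z) := fun s => Commute.map (mem_center_iff.1 zc s) σ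
  have inv : ∀ s, ∀ u ∈ (σ z).mov, σ s u ∈ (σ z).mov := fun s u hu => comm_mem_mov (cz s) hu
  have z2 : σ z * σ z = 1 := by rw [← map_mul, zz, map_one]
  have zzv : ∀ v, σ z (σ z v) = v := fun v => by rw [← O.mul_apply, z2, O.one_apply]
  have mm : ∀ {v}, v ∈ (σ z).mov ↔ σ z v = -v := mem_mov_of_inv h2 z2
  have dj : ∀ v, σ z v = v → σ z v = -v → v = 0 := fun v a b => by
    have : (2 : K) • v = 0 := by rw [two_smul]; nth_rw 1 [← a]; rw [b, neg_add_cancel]
    exact (smul_eq_zero.1 this).resolve_left h2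
  refine sr4 h2 (nd_res fun u hu hw => dj u ?_ (mm.1 hu)) ?_ S.2 (res σ _ inv) ?_
  · rw [← O.mem_fix, ← O.perp_mov h.nd]; exact mem_perp'.2 hw
  · by_cases e : z = 1
    · change (σ z).rk ≤ 4
      rw [e, map_one, O.rk_one]; omega
    · have := h.w24 z (fun e' => e (Subtype.ext e')) (congrArg Subtype.val zz)
      change (ρ z).rk ≤ 4
      omega
  rw [← MonoidHom.ker_eq_bot_iff]
  by_contra hne
  obtain ⟨c, c1, c2, c3, c4⟩ := exists_central_inv S.2 ((one_lt_card_iff_ne_bot _).2 hne)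
  have c5 := res_eq_one.1 c1
  have zs : ∀ v, v - σ z v ∈ (σ z).mov := fun v => by
    rw [← neg_sub]; exact neg_mem ((σ z).sub_mem_mov v)
  have le : (σ (c * z)).fix ≤ (σ z).fix ⊓ (σ c).fix := fun v hv => by
    rw [O.mem_fix, map_mul, O.mul_apply] at hv
    have e1 := c5 _ (zs v)
    have e2 : σ z (σ c v) = v := by rw [← O.mul_apply, ← (cz c).eq, O.mul_apply, hv]
    have e3 : σ c v = σ z v := (σ z).injective (by rw [e2, zzv])
    rw [map_sub, hv, e3] at e1
    have e4 : σ z v - v = 0 := (smul_eq_zero.1 (show (2 : K) • (σ z v - v) = 0 by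
      rw [two_smul]; nth_rw 1 [e1]; abel)).resolve_left h2
    exact ⟨O.mem_fix.2 (sub_eq_zero.1 e4), O.mem_fix.2 (e3.trans (sub_eq_zero.1 e4))⟩
  have e1 := hz (c * z) ⟨mul_mem c2 zc, by
    rw [(show Commute z c from mem_center_iff.1 c2 z).mul_mul_mul_comm, c4, zz, mul_one]⟩
  have e2 := (σ (c * z)).rk_add_finrank_fix
  have e3 := (σ z).rk_add_finrank_fix
  have e4 : (σ (c * z)).fix = (σ z).fix :=
    Submodule.eq_of_le_of_finrank_le (le.trans inf_le_left) (by omega)
  refine c3 (hσ (O.ext fun v => ?_))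
  rw [map_one, O.one_apply]
  have e5 : σ c (v + σ z v) = v + σ z v := O.mem_fix.1 (le (e4.ge (O.mem_fix.2 (by
    rw [map_add, zzv, add_comm])))).2
  have e6 := c5 _ (zs v)
  refine smul_right_injective V h2 ?_
  change (2 : K) • σ c v = (2 : K) • v
  rw [← map_smul, show (2 : K) • v = (v + σ z v) + (v - σ z v) by rw [two_smul]; abel, map_add, e5, e6]

end H13.O7S
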