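import Cfsg.Agent.H67.SPIII

/-! STD-SP chapter III, slot TL: Tits' lemma for a graph whose cycles split into triangles. -/

set_option autoImplicit false

namespace H13.SPTL

open Subgroup

universe u

/-- words of length `m` in `D`, followed by an element of `H` -/
def W {Γ : Type u} [Group Γ] (H : Subgroup Γ) (D : Set Γ) : ℕ → Γ → Prop
  | 0, g => g ∈ H
  | m + 1, g => ∃ d ∈ D, ∃ g', W H D m g' ∧ g = d * g'

theorem jobTL : H67.SP.JobTL.{u} := by
  intro Γ _ Ω _ R o H D sy inv pth hH hDH hDi hR hnb h1 h2 h3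
  have inv' : ∀ (g : Γ) a b, R (g • a) (g • b) → R a b := fun g a b h => by
    simpa using inv g⁻¹ _ _ h
  have L : ∀ a ∈ D, ∀ b ∈ D, R o ((a * b) • o) → a * b ∈ D := fun a ha b hb h => by
    have := h3 a⁻¹ (hDi a ha) b hb (inv' a _ _ (by simpa [mul_smul] using h))
    rwa [inv_inv] at this
  have key : ∀ m g, W H D m g → g • o = o → g ∈ H := by
    intro m
    induction m using Nat.strong_induction_on with
    | _ m ih =>
      intro g hg ho
      match m, ih, hg with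
      | 0, _, hg => exact hg
      | 1, _, ⟨d, hd, h, hh, e⟩ => exact h1 g (e ▸ hDH d hd h hh) ho
      | 2, _, ⟨d, hd, _, ⟨d', hd', h, hh, rfl⟩, e⟩ =>
        have := h2 d⁻¹ (hDi d hd) (d' * h) (hDH d' hd' h hh) (by
          rw [inv_smul_eq_iff, ← mul_smul, ← e, ho])
        rwa [inv_inv, ← e] at this
      | 3, ih, ⟨d₁, hd₁, _, ⟨d₂, hd₂, _, ⟨d₃, hd₃, h, hh, rfl⟩, rfl⟩, e⟩ =>
        have a := inv (d₁ * d₂) _ _ (hR _ (hDH d₃ hd₃ h hh))
        rw [← mul_smul, mul_assoc, ← e, ho] at a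
        exact ih 2 (by omega) g ⟨d₁ * d₂, L _ hd₁ _ hd₂ a, d₃ * h, ⟨d₃, hd₃, h, hh, rfl⟩,
          by rw [e, mul_assoc]⟩ ho
      | k + 4, ih, ⟨d₁, hd₁, _, ⟨d₂, hd₂, _, ⟨d₃, hd₃, _, ⟨d₄, hd₄, h, hh, rfl⟩, rfl⟩, rfl⟩, e⟩ =>
        have s : ∀ (a : Γ), ∀ d ∈ D, R (a • o) ((a * d) • o) := fun a d hd => by
          rw [mul_smul]; exact inv a _ _ (sy _ _ (hR d hd))
        have sh : ∀ a ∈ D, ∀ b ∈ D, ∀ c ∈ D, a * b * c = d₁ * d₂ * d₃ * d₄ → g ∈ H :=
          fun a ha b hb c hc e' => ih (k + 3) (by omega) g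
            ⟨a, ha, _, ⟨b, hb, _, ⟨c, hc, h, hh, rfl⟩, rfl⟩, by
              rw [e, ← mul_assoc, ← mul_assoc, ← mul_assoc, ← e']; simp only [mul_assoc]⟩ ho
        rcases pth o (d₁ • o) ((d₁ * d₂) • o) ((d₁ * d₂ * d₃) • o) ((d₁ * d₂ * d₃ * d₄) • o)
          (sy _ _ (hR _ hd₁)) (s _ _ hd₂) (s _ _ hd₃) (s _ _ hd₄) with
          a | a | ⟨y, w, y2, y3, y4, w0, w1, w2, wy⟩
        · exact sh _ (L _ hd₁ _ hd₂ a) _ hd₃ _ hd₄ rfl
        · refine sh _ hd₁ _ hd₂ _ (L _ hd₃ _ hd₄ (inv' (d₁ * d₂) _ _ ?_)) (by simp only [mul_assoc])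
          rwa [← mul_smul, ← mul_assoc]
        · obtain ⟨a, ha, ea⟩ := hnb ((d₁ * d₂)⁻¹ • y) (inv' (d₁ * d₂) _ _ (by
            rwa [smul_inv_smul]))
          have ey : y = (d₁ * d₂ * a) • o := by rw [mul_smul, ea, smul_inv_smul]
          obtain ⟨c, hc, rfl⟩ := hnb w w0
          subst ey
          have a3 : a⁻¹ * d₃ ∈ D := h3 a ha d₃ hd₃ (inv' (d₁ * d₂) _ _ (by
            rwa [← mul_smul, ← mul_smul]))
          have a4 : a⁻¹ * d₃ * d₄ ∈ D := L _ a3 _ hd₄ (inv' (d₁ * d₂ * a) _ _ (by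
            rw [← mul_smul]; convert y4 using 2; group))
          have c1 : c⁻¹ * d₁ ∈ D := h3 c hc d₁ hd₁ w1
          have c2 : c⁻¹ * d₁ * d₂ ∈ D := L _ c1 _ hd₂ (inv' c _ _ (by
            rw [← mul_smul]; convert w2 using 2; group))
          have c3 : c⁻¹ * d₁ * d₂ * a ∈ D := L _ c2 _ ha (inv' c _ _ (by
            rw [← mul_smul]; convert wy using 2; group))
          exact sh _ hc _ c3 _ a4 (by group)
  refine ⟨fun g hg ho => ?_, fun w hw => ?_⟩
  · have lH : ∀ h ∈ H, ∀ m g, W H D m g → W H D m (h * g) := fun h hh m g hg => by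
      match m, hg with
      | 0, hg => exact H.mul_mem hh hg
      | m + 1, ⟨d, hd, g', hg', e⟩ =>
        refine ⟨h * d, ?_, g', hg', by rw [e, mul_assoc]⟩
        have := hDi _ (hDH _ (hDi d hd) _ (H.inv_mem hh))
        rwa [mul_inv_rev, inv_inv, inv_inv] at this
    have : ∃ m, W H D m g := by
      clear ho
      rw [← closure_eq H, ← Subgroup.closure_union] at hg
      induction hg using closure_induction_left with
      | one => exact ⟨0, H.one_mem⟩
      | mul_left x hx y _ ih =>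
        obtain ⟨m, hm⟩ := ih
        rcases hx with hx | hx
        · exact ⟨m, lH x hx m y hm⟩
        · exact ⟨m + 1, x, hx, y, hm, rfl⟩
      | inv_mul_cancel x hx y _ ih =>
        obtain ⟨m, hm⟩ := ih
        rcases hx with hx | hx
        · exact ⟨m, lH x⁻¹ (H.inv_mem hx) m y hm⟩
        · exact ⟨m + 1, x⁻¹, hDi x hx, y, hm, rfl⟩
    obtain ⟨m, hm⟩ := this
    exact key m g hm ho
  · induction hw with
    | refl => exact ⟨1, one_mem _, one_smul _ _⟩
    | @tail b c _ hbc ih =>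
      obtain ⟨g, hg, rfl⟩ := ih
      obtain ⟨d, hd, e⟩ := hnb (g⁻¹ • c) (inv' g _ _ (by rw [smul_inv_smul]; exact sy _ _ hbc))
      exact ⟨g * d, mul_mem hg (subset_closure hd), by rw [mul_smul, e, smul_inv_smul]⟩

end H13.SPTL

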