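import Cfsg.Agent.H83.SVInd

/-! STD-U at `q = 2`, slot W1b: an element of odd order normalising `A₁` and `A₂` normalises `L₁ L₂`. -/

set_option autoImplicit false
set_option linter.unusedSectionVars false

namespace H13.SVW

open H64.SG (Cz Cs Ns cjs Is2 Inv2 UF cj_Cs cj_Ns)
open H67.SA (St cI mem_cI conj_mem_cjs cjs_swap)
open H83.SV H98 Subgroup

universe u

section Gen

variable {G : Type u} [Group G] [Finite G] {M B₁ B₂ : Subgroup G} {r t : G}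

/-- (TR) -/
theorem trans_mem (uf : UF M t) (h : cjs t B₁ = B₂) (hC : Cs B₁ ⊓ Cs B₂ ≤ M) (r2 : r * r = 1)
    (h1 : r ∈ Ns B₁) (h2 : r ∈ Cs B₂) : r ∈ M := by
  have ti : t⁻¹ = t := inv_eq_of_mul_eq_one_right uf.inv.1
  have ri : r⁻¹ = r := inv_eq_of_mul_eq_one_right r2
  have a1 : t * r * t⁻¹ ∈ Cs B₁ := by
    rw [← cjs_swap uf.inv.1 h, ← cj_Cs]; exact conj_mem_cjs.2 h2
  have a2 : t * r * t⁻¹ ∈ Ns B₂ := by rw [← h, ← cj_Ns]; exact conj_mem_cjs.2 h1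
  have si : (t * r * t⁻¹)⁻¹ = t * r * t⁻¹ := by rw [conj_inv, ri]
  have k2 : r * (t * r * t⁻¹) * (r * (t * r * t⁻¹)) ∈ M := hC ⟨by
    have := mul_mem (conj_mem_of_mem_normalizer (normalizer_le_normalizer_centralizer _ h1) a1) a1
    rwa [ri, mul_assoc] at this, by
    have := mul_mem h2 (conj_mem_of_mem_normalizer (normalizer_le_normalizer_centralizer _ a2) h2)
    rw [si] at this
    change _ ∈ Cs B₂
    simpa only [mul_assoc] using this⟩
  have tt : ∀ g, t * (t * g) = g := fun g => by rw [← mul_assoc, uf.inv.1, one_mul]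
  have k1 : r * (t * r * t⁻¹) ∈ M := uf.uf _ (by
    have := mul_mem k2 uf.mem
    simpa only [mul_inv_rev, ti, ri, mul_assoc, tt, uf.inv.1, mul_one] using this)
  exact uf.uf _ (by
    have := mul_mem k1 uf.mem
    simpa only [ti, ri, mul_assoc, uf.inv.1, mul_one] using this)

end Gen

variable {F K : Type} [Field F] [Finite F] [CharP F 2] [Field K] [Algebra F K] [StarRing K] [CharP K 2]
  [Qe F K] [Finite K] {G : Type u} [Group G] [Finite G] {e e₁ e₂ : X K →* G} {n t : G}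

variable (F) in
/-- the singular vectors of `e₁ A` -/
def Sg (e₁ : X K →* G) : Set G := {g | ∃ v : VA F K, dt v = 0 ∧ g = e₁ (xa v)}

theorem mem_Sg (hi : Function.Injective e₁) {v : VA F K} : e₁ (xa v) ∈ Sg F e₁ ↔ dt v = 0 :=
  ⟨fun ⟨_, h1, h2⟩ => xa_inj (hi h2) ▸ h1, fun h => ⟨v, h, rfl⟩⟩

theorem z_ne : zX F K ≠ 1 := fun h => by simpa using xa_eq_one.1 h

/-- There are more non-singular than singular vectors. -/
theorem no_inj (l : FL F K) (φ : VA F K → VA F K) (hφ : Function.Injective φ)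
    (h : ∀ v, dt v ≠ 0 → dt (φ v) = 0) : False := by
  classical
  have h1 := l.cS
  have h2 : Nat.card {v : VA F K // ¬ dt v = 0} ≤ Nat.card {v : VA F K // dt v = 0} :=
    Nat.card_le_card_of_injective (fun v => ⟨φ v.1, h v.1 v.2⟩)
      fun a b hab => Subtype.ext (hφ (congrArg Subtype.val hab))
  have h3 := Nat.card_congr (Equiv.sumCompl fun v : VA F K => dt v = 0)
  rw [Nat.card_sum, card_VA] at h3
  rw [Qe.two (F := F) (K := K)] at h1 h3
  omega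

variable (f : Fa.{u} F K) (c : CW e t e₁ e₂) (w : GW e t e₁ e₂)
include f c w

theorem cs_le : Cs ((AX K).map e₁) ⊓ Cs ((AX K).map e₂) ≤ Ns (G12 e₁ e₂) := fun g hg => w.cA (by
  rintro _ ⟨b, hb, rfl⟩
  rw [c.diag, mul_assoc, hg.2 _ ⟨b, hb, rfl⟩, ← mul_assoc, hg.1 _ ⟨b, hb, rfl⟩, mul_assoc])

/-- An involution normalising `A₁` and centralising `A₂` keeps the singular vectors. -/
theorem inv_sg {r : G} (r2 : r * r = 1) (h1 : r ∈ Ns ((AX K).map e₁))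
    (h2 : r ∈ Cs ((AX K).map e₂)) : r ∈ normalizer (Sg F e₁) := by
  have hM := trans_mem w.uf (c.cjs_map _) (cs_le f c w) r2 h1 h2
  have N : r ∈ Ns e₁.range := ((w.pm r hM).resolve_right fun k => z_ne (F := F) (c.inj₂ (by
    have k1 : r * e₂ (zX F K) * r⁻¹ ∈ e₁.range := k.2 ▸ conj_mem_cjs.2 ⟨_, rfl⟩
    rw [← h2 _ ⟨_, xa_mem_AX _, rfl⟩, mul_inv_cancel_right] at k1
    rw [c.eq_one f.o.cen k1 ⟨_, rfl⟩, map_one]))).1
  obtain ⟨β, hβ⟩ := exists_ind c.inj N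
  refine mem_normalizer_fintype ?_
  rintro _ ⟨v, hv, rfl⟩
  obtain ⟨v', hv'⟩ := (mem_AX (F := F)).1 ((hβ.st c.inj h1 _).1 (xa_mem_AX v))
  exact ⟨v', f.n.zw β v v' hv hv', by rw [hβ, hv']⟩

variable (h1 : n ∈ Ns ((AX K).map e₁)) (h2 : n ∈ Ns ((AX K).map e₂))
include h1 h2

theorem lv_sg {l : X K} (hl : l ∈ Lv F K) : n * e₁ l * n⁻¹ ∈ normalizer (Sg F e₁) := by
  have : closure {u | u ∈ Ns (AX K) ∧ u * u = 1} ≤ (normalizer (Sg F e₁)).comap (cje n e₁) :=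
    (closure_le _).2 fun p hp => inv_sg f c w (by rw [← map_mul, hp.2, map_one])
      (mul_mem (mul_mem h1 (map_mem_Ns hp.1)) (inv_mem h1))
      (conj_mem_of_mem_normalizer (normalizer_le_normalizer_centralizer _ h2)
        (Cs_range_le _ (c.le_Cs' ⟨p, rfl⟩)))
  exact this (f.s.ivL hl)

theorem exists_aut : ∃ β ∈ St (AX K), ∀ a ∈ AX K, n * e₁ (β a) * n⁻¹ = e₁ a := by
  have k : ∀ v : VA F K, ∃ v' : VA F K, n * e₁ (xa v) * n⁻¹ = e₁ (xa v') := fun v => by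
    obtain ⟨a, ha, h⟩ := conj_mem_of_mem_normalizer h1 (mem_map_of_mem e₁ (xa_mem_AX v))
    obtain ⟨v', rfl⟩ := (mem_AX (F := F)).1 ha
    exact ⟨v', h.symm⟩
  choose φ hφ using k
  have inj : Function.Injective φ := fun a b hab => xa_inj (c.inj (by
    have := hφ a
    rw [hab, ← hφ b] at this
    simpa using this))
  have add : ∀ a b, φ (a + b) = φ a + φ b := fun a b => xa_inj (c.inj (by
    rw [xa_add, map_mul, ← hφ, ← hφ, ← hφ, xa_add, map_mul, conj_mul]))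
  let ψ : VA F K ≃+ VA F K :=
    AddEquiv.ofBijective (AddMonoidHom.mk' φ add) (Finite.injective_iff_bijective.1 inj)
  have tr : ∀ v, dt v ≠ 0 → (dt (φ v) = 0 ↔ dt (φ (0, 1, 0)) = 0) := fun v hv => by
    obtain ⟨l, hl, e1⟩ := f.l.trN v hv
    rw [← mem_Sg c.inj, ← mem_Sg c.inj, lv_sg f c w h1 h2 hl (e₁ (xa (φ (0, 1, 0)))), ← hφ, ← hφ, ← e1,
      map_mul, map_mul, map_inv]
    exact iff_of_eq (congrArg _ (by group))
  have sg : ∀ v, dt (φ v) = 0 → dt v = 0 := fun v hv => by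
    by_contra hn
    exact no_inj f.l φ inj fun v' hv' => (tr v' hv').2 ((tr v hn).1 hv)
  obtain ⟨β, hβ, e1⟩ := f.s.s5 ψ.symm fun v hv => sg _ (by
    rwa [show φ (ψ.symm v) = v from ψ.apply_symm_apply v])
  refine ⟨β, hβ, fun a ha => ?_⟩
  obtain ⟨v, rfl⟩ := (mem_AX (F := F)).1 ha
  rw [e1, hφ, show φ (ψ.symm v) = v from ψ.apply_symm_apply v]

theorem exists_inn (ho : Odd (orderOf n)) : ∃ g, n * e₁ g ∈ Cs ((AX K).map e₁) := by
  obtain ⟨β, hβ, e1⟩ := exists_aut f c w h1 h2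
  have k : ∀ k : ℕ, ∀ a ∈ AX K, n ^ k * e₁ ((β ^ k) a) * (n ^ k)⁻¹ = e₁ a := fun k => by
    induction k with
    | zero => simp
    | succ k ih =>
      intro a ha
      rw [← ih a ha, ← e1 _ ((pow_mem hβ k a).1 ha), pow_succ' β, pow_succ n, MulAut.mul_apply]
      group
  obtain ⟨y, -, hy⟩ := mem_cI.1 (f.n.ctA (β ^ orderOf n) fun a ha => c.inj (by
    simpa [pow_orderOf_eq_one] using k (orderOf n) a ha))
  have o1 : oX K β = 1 := by
    have a1 : oX K β ^ orderOf n = 1 := by rw [← map_pow, hy, f.o.outc]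
    obtain ⟨j, hj⟩ := ho
    rwa [hj, pow_succ, pow_mul, pow_two, f.s.aut2, one_pow, one_mul] at a1
  obtain ⟨g, hg⟩ := f.o.dec β
  rw [o1, map_one, mul_one] at hg
  refine ⟨g, mem_Cs_map.2 fun a ha => ?_⟩
  have := e1 a ha
  rw [hg, MulAut.conj_apply, map_mul, map_mul, map_inv] at this
  rw [← mul_inv_eq_iff_eq_mul, eq_comm, ← mul_inv_eq_iff_eq_mul]
  nth_rewrite 2 [← this]
  group

end H13.SVW

namespace H13.SVW

open H64.SG (Cs Ns)
open H83.SV Subgroup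

universe u

theorem jobW1b : JobW1b.{u} := fun F K _ _ _ _ _ _ _ _ _ f _ _ _ e t e₁ e₂ _ _ c w n h1 h2 ho => by
  obtain ⟨g₁, k1⟩ := exists_inn f c w h1 h2 ho
  obtain ⟨g₂, k2⟩ := exists_inn f (c.symm w.uf.inv.1) w.symm h2 h1 ho
  have k : n * (e₁ g₁ * e₂ g₂) ∈ Ns (G12 e₁ e₂) := cs_le f c w ⟨by
    rw [← mul_assoc]; exact mul_mem k1 (Cs_range_le _ (c.le_Cs ⟨g₂, rfl⟩)), by
    rw [c.comm, ← mul_assoc]; exact mul_mem k2 (Cs_range_le _ (c.le_Cs' ⟨g₁, rfl⟩))⟩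
  exact (mul_mem_cancel_right (le_normalizer (c.mem_G12.2 ⟨g₁, g₂, rfl⟩))).1 k

end H13.SVW
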