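import Cfsg.Agent.H51.TESpec

/-! Tower TE (S1308): two perpendicular elements give a Sylow subgroup normalising four homes. -/

set_option autoImplicit false

namespace H13.TECPa

open Cfsg Subgroup MulAction H14 H98 H1.Gold H31.S2 H14.GC H14.FE H14.NF H51.TE
open scoped commutatorElement

universe u

theorem job : H51.TE.CPa.{u} := by
  intro G _ _ Q E gx Q₁ E₁ Q₂ E₂ c r hr s hs r1 s1 _ nr ns
  have tg := gx.tg
  obtain ⟨a, ha, a2⟩ := four_exists_inv (pt_four tg c.p2)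
  have le2 := pt_le tg c.p2
  have ab2 : E₂ ≤ cen E₂ := fun x hx => mem_centralizer_iff.2 fun y hy =>
    H51.TE.El.comm (pt_el tg c.p2) hy hx
  have cjc : ∀ v ∈ E₁, cj v E₂ ≤ (E₁ ⊔ E₂) ⊓ cen E₂ := fun v hv t ht => by
    have h1 := mem_cj.1 ht
    have e : t = ⁅v, v⁻¹ * t * v⁆ * (v⁻¹ * t * v) := by
      simp only [commutatorElement_def]; group
    refine mem_inf.2 ⟨?_, ?_⟩
    · have e' : t = v * (v⁻¹ * t * v) * v⁻¹ := by group
      rw [e']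
      exact mul_mem (mul_mem (mem_sup_left hv) (mem_sup_right h1)) (inv_mem (mem_sup_left hv))
    · rw [e]
      exact mul_mem (c.cm v hv _ h1).2 (ab2 h1)
  have hW : IsPGroup 2 ((E₁ ⊔ E₂) ⊓ cen E₂ : Subgroup G) := c.two.to_le inf_le_left
  have hn : (E₁ ⊔ E₂) ⊓ cen E₂ ≤ nor Q₂ := inf_le_right.trans fun x hx =>
    pt_cen tg c.p2 (le2 ha) a2 (mem_centralizer_singleton_iff.2
      (mem_centralizer_iff.1 hx a ha).symm)
  obtain ⟨P, hP, hl, hR⟩ := exists_inv_syl hW hn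
  have eR : E₂ ≤ P ⊓ Q₂ := le_inf ((le_inf le_sup_right ab2).trans hl) le2
  have z := gx.zc Q₂ E₂ c.p2 (P ⊓ Q₂) inf_le_right hR.isPGroup eR
  have pp : ∀ v ∈ E₁, v ≠ 1 → ¬ Col Q E Q₂ E₂ (cj v Q₂) (cj v E₂) → ∀ x ∈ P ⊓ Q₂,
      Commute x (v * a * v⁻¹) := fun v hv v1 nv x hx =>
    gx.pp Q₂ E₂ _ _ c.p2 (pt_cj c.p2 v) (fun e => c.o1 v hv v1 (cj_eq_self_iff.1 e.symm))
      ((cjc v hv).trans inf_le_right) nv x hx.2 _ (conj_mem_cj ha) P hP.isPGroup hx.1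
      (hl (cjc v hv (conj_mem_cj ha)))
  have fin : ∀ v x : G, Commute x (v * a * v⁻¹) → x ∈ nor (cj v Q₂) := fun v x h =>
    pt_cen tg (pt_cj c.p2 v) (conj_mem_cj (le2 ha)) (a2.conj v)
      (mem_centralizer_singleton_iff.2 h)
  refine ⟨P ⊓ Q₂, hR, fun x hx => ⟨⟨fin r x (pp r hr r1 nr x hx), fin s x (pp s hs s1 ns x hx)⟩,
    fin _ x ?_⟩⟩
  have h1 : r * ⁅s, a⁆ = ⁅s, a⁆ * r := mem_centralizer_iff.1 (c.cm s hs a ha).1 r hr
  have e : r * s * a * (r * s)⁻¹ = s * a * s⁻¹ * a⁻¹ * (r * a * r⁻¹) := by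
    calc r * s * a * (r * s)⁻¹ = r * ⁅s, a⁆ * a * r⁻¹ := by
          simp only [commutatorElement_def]; group
      _ = _ := by rw [h1]; simp only [commutatorElement_def]; group
  have h2 : Commute x a := (mem_centralizer_iff.1 (z hx) a ha).symm
  rw [e]
  exact ((pp s hs s1 ns x hx).mul_right h2.inv_right).mul_right (pp r hr r1 nr x hx)

end H13.TECPa
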