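import Cfsg.Agent.H28.TESpec2

/-! Tower TE (S1308): an involution centralising a Sylow subgroup of `Q`. -/

set_option autoImplicit false

namespace H13.TEPC

open Cfsg Subgroup H14 H98 H1.Gold H31.S2 H14.GC H14.FE H14.NF H28.TE
open scoped commutatorElement

universe u

variable {G : Type u} [Group G] [Finite G] {Q R R₀ U : Subgroup G} {d z y : G}

theorem cenS (zq : ZQ Q) (h0 : IsSyl 2 R₀ Q) (hz : z ∈ OZ R₀) (hU : IsPGroup 2 U) (hl : U ≤ Q)
    (zU : z ∈ U) {r : G} (hr : r ∈ U) : r * z = z * r :=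
  commutatorElement_eq_one_iff_mul_comm.1
    ((ni_of_odd (Nat.coprime_two_right.1 (coprime_card_opp (p := 2) Q))).eq_one hU
      (H14.FE.comm_mem hr zU) (zq Q (vx_self Q) R₀ h0 z hz r (hl hr)))

theorem sylc (hR : IsSyl 2 R Q) (hd : R ≤ cen1 d) (hz : z ∈ Q) (z2 : z * z = 1)
    (zd : z * d = d * z) : ∃ S, IsSyl 2 S Q ∧ z ∈ S ∧ S ≤ cen1 d := by
  obtain ⟨S, hS, hl⟩ := exists_isSyl_le (p := 2) (H := Q ⊓ cen1 d)
    (isPGroup_zpowers (x := z) (k := 1) (by rw [pow_one, pow_two, z2]))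
    (zpowers_le.2 ⟨hz, mem_centralizer_singleton_iff.2 zd⟩)
  exact ⟨S, hR.of_card_ge hS.isPGroup (hS.le.trans inf_le_left)
    (hS.card_le hR.isPGroup (le_inf hR.le hd)), hl (mem_zpowers z), hS.le.trans inf_le_right⟩

theorem zz (z4 : Z4.{u}) (zq : ZQ Q) (hR : IsSyl 2 R Q) (hd : R ≤ cen1 d) (h0 : IsSyl 2 R₀ Q)
    (hz : z ∈ OZ R₀) (zd : z * d = d * z) (hy : y ∈ Q) (e : y * d * y⁻¹ = d * z)
    (yz : y * z = z * y) : z = 1 := by
  obtain ⟨S, hS, zS, hc⟩ := sylc hR hd (h0.le hz.1) hz.2.2 zd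
  exact z4 G Q S d z y hS hc (fun r hr => mem_centralizer_singleton_iff.2
    (cenS zq h0 hz hS.isPGroup hS.le zS hr)) hy e yz hz.2.2

theorem jobPC : H28.TE.JobPC.{u} := by
  intro z4 up G _ _ Q zq rq t tn t2 R hR hc x hx P hP xP tP
  by_contra ne
  obtain ⟨S, hS, hl, hn⟩ := inv_syl (U := P ⊓ nor Q) (Y := Q) (hP.to_le inf_le_left) inf_le_right
  have xS : x ∈ S := hl ⟨⟨xP, le_normalizer hx⟩, hx⟩
  have tS : t ∈ nor S := hn ⟨tP, tn⟩
  have lt : S ⊓ cen1 t < S := lt_of_le_of_ne inf_le_left fun e =>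
    ne (mem_centralizer_singleton_iff.1 (e.ge xS).2)
  obtain ⟨w, wS, wA, -, w2, hw⟩ := up G S (zpowers t) (S ⊓ cen1 t) hS.isPGroup
    (isPGroup_zpowers (k := 1) (by rw [pow_one, pow_two, t2])) (zpowers_le.2 tS)
    (le_normalizer_inf (zpowers_le.2 tS)
      ((zpowers_le.2 (mem_centralizer_singleton_iff.2 rfl)).trans le_normalizer)) lt
  obtain ⟨cS, ct⟩ := hw t (mem_zpowers t)
  have ct : ⁅t, w⁆ * t = t * ⁅t, w⁆ := mem_centralizer_singleton_iff.1 ct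
  have w2 : w * w * t = t * (w * w) := mem_centralizer_singleton_iff.1 w2.2
  have ti : t⁻¹ = t := inv_eq_of_mul_eq_one_right t2
  have c1 : ⁅t, w⁆ ≠ 1 := fun e => wA ⟨wS, mem_centralizer_singleton_iff.2
    (commutatorElement_eq_one_iff_mul_comm.1 e).symm⟩
  have e0 : w * t * w⁻¹ = t * ⁅t, w⁆ := by
    rw [commutatorElement_def, ti, ← mul_assoc, ← mul_assoc, ← mul_assoc, t2, one_mul]
  have c2 : ⁅t, w⁆ * ⁅t, w⁆ = 1 := by
    have : t * ⁅t, w⁆ * (t * ⁅t, w⁆) = 1 := by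
      rw [← e0]
      calc w * t * w⁻¹ * (w * t * w⁻¹) = w * (t * t) * w⁻¹ := by group
        _ = 1 := by rw [t2]; group
    rwa [mul_assoc, ← mul_assoc ⁅t, w⁆, ct, ← mul_assoc, ← mul_assoc, t2, one_mul] at this
  generalize ⁅t, w⁆ = c at cS ct c1 e0 c2
  have ci : c⁻¹ = c := inv_eq_of_mul_eq_one_right c2
  have wc : w * c = c * w := by
    have h1 : t * c * (w * c * w⁻¹) = t := by
      calc t * c * (w * c * w⁻¹) = w * t * w⁻¹ * (w * c * w⁻¹) := by rw [e0]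
        _ = w * (t * c) * w⁻¹ := by group
        _ = w * w * t * w⁻¹ * w⁻¹ := by rw [← e0]; group
        _ = t := by rw [w2]; group
    have h2 : c * (w * c * w⁻¹) = 1 := by rwa [mul_assoc, mul_eq_left] at h1
    have h3 : w * c * w⁻¹ = c := (eq_inv_of_mul_eq_one_right h2).trans ci
    exact mul_inv_eq_iff_eq_mul.1 h3
  by_cases cz : c ∈ OZ S
  · exact c1 (zz z4 zq hR hc hS cz ct (hS.le wS) e0 wc)
  obtain ⟨S₂, h2, c2S, hc2⟩ := sylc hR hc (hS.le cS) c2 ct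
  have nz : c ∉ cen S₂ := fun h => cz ⟨cS, mem_centralizer_iff.2 fun r hr =>
    cenS zq h2 ⟨c2S, h, c2⟩ hS.isPGroup hS.le cS hr, c2⟩
  obtain ⟨y, yS, yc⟩ : ∃ y ∈ S₂, y * c ≠ c * y := by
    by_contra h
    push Not at h
    exact nz (mem_centralizer_iff.2 h)
  have hz := rq S₂ h2 y yS c c2S
  have zc : c * ⁅y, c⁆ = ⁅y, c⁆ * c := mem_centralizer_iff.1 hz.2.1 c c2S
  have zy : y * ⁅y, c⁆ = ⁅y, c⁆ * y := mem_centralizer_iff.1 hz.2.1 y yS
  have zt : ⁅y, c⁆ * t = t * ⁅y, c⁆ := mem_centralizer_singleton_iff.1 (hc2 hz.1)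
  have yt : y * t = t * y := mem_centralizer_singleton_iff.1 (hc2 yS)
  refine yc (commutatorElement_eq_one_iff_mul_comm.1 (zz (d := t * c) (y := y) z4 zq
    (hR.cj_of_mem (hS.le wS)) (fun r hr => ?_) h2 hz ?_ (h2.le yS) ?_ zy))
  · have h1 : w⁻¹ * r * w * t = t * (w⁻¹ * r * w) :=
      mem_centralizer_singleton_iff.1 (hc (mem_cj.1 hr))
    rw [mem_centralizer_singleton_iff, ← e0]
    calc r * (w * t * w⁻¹) = w * (w⁻¹ * r * w * t) * w⁻¹ := by group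
      _ = _ := by rw [h1]; group
  · rw [← mul_assoc, zt, mul_assoc, ← zc, mul_assoc]
  · rw [mul_assoc t c, zc, ← mul_assoc y t, yt, commutatorElement_def]; group

end H13.TEPC
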