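/- S3275, chapter U2F, central case: job TR (offenders are generated by transvections). -/
import Cfsg.Agent.H96.U2CenSpec

set_option autoImplicit false

namespace H13.U2CenTR

open Subgroup Cfsg H98 H48.DP H96.U2I H96.Cen

universe u

variable {W : Type u} [AddCommGroup W]

theorem ne_add {p c : W} (h : c ≠ 0) : p + c ≠ p := fun e => h (by simpa using e)

theorem tm_fix {a : Au W} {c : W} (two : ∀ w : W, w + w = 0) (h : Tm a c) : a • c = c := by
  rcases h.2.2 c with e | e
  · exact e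
  · rw [two, smul_eq_zero_iff_eq] at e
    exact absurd e h.1

theorem comm_fix {a b : Au W} {c : W} (h : Tm a c) (k : a * b = b * a) : b • c = c := by
  obtain ⟨p, hp⟩ := h.2.1
  have e : a • b • p = b • p + b • c := by rw [← mul_smul, k, mul_smul, hp, smul_add]
  rcases h.2.2 (b • p) with e' | e'
  · rw [e'] at e
    have : b • c = 0 := by simpa using e
    rw [smul_eq_zero_iff_eq] at this
    exact absurd this h.1
  · rw [e'] at e
    exact (add_left_cancel e).symm

theorem ex_move [Finite W] {F A : Subgroup (Au W)} (m : Md F A) {a : Au W} {c : W} (ha : a ∈ A)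
    (h : Tm a c) : ∃ f ∈ F, f • c ≠ c := by
  by_contra hn
  push Not at hn
  have aa := m.el a ha
  have ai : a⁻¹ = a := inv_eq_of_mul_eq_one_right aa
  have ac := tm_fix m.two h
  have a1 : a = 1 := m.fa a ha fun f hf => by
    have gF : a * f * a⁻¹ * f⁻¹ ∈ F :=
      mul_mem (conj_mem_of_mem_normalizer (m.nF ha) hf) (inv_mem hf)
    have g1 : ∀ p : W, (a * f * a⁻¹ * f⁻¹) • p = p ∨ (a * f * a⁻¹ * f⁻¹) • p = p + c := fun p => by
      rw [ai, mul_smul, mul_smul, mul_smul]
      rcases h.2.2 (f⁻¹ • p) with e | e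
      · rw [e, smul_inv_smul]; exact h.2.2 p
      · rw [e, smul_add, smul_inv_smul, hn f hf, smul_add, ac]
        rcases h.2.2 p with e' | e'
        · exact .inr (by rw [e'])
        · exact .inl (by rw [e', add_assoc, m.two, add_zero])
    have gc : (a * f * a⁻¹ * f⁻¹) • c = c := by
      rw [ai, mul_smul, mul_smul, mul_smul, hn _ (inv_mem hf), ac, hn f hf, ac]
    have k : a * f * a⁻¹ * f⁻¹ = 1 := by
      generalize a * f * a⁻¹ * f⁻¹ = g at gF g1 gc
      have g2 : g ^ 2 = 1 := by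
        refine LinearEquiv.ext fun p => ?_
        change (g ^ 2) • p = p
        rw [pow_two, mul_smul]
        rcases g1 p with e | e
        · rw [e, e]
        · rw [e, smul_add, e, gc, add_assoc, m.two, add_zero]
      obtain ⟨n, hn⟩ := isPGroup_iff_forall.1 m.F3 g gF
      have := Nat.dvd_gcd (orderOf_dvd_of_pow_eq_one g2) (orderOf_dvd_of_pow_eq_one hn)
      rw [Nat.Coprime.gcd_eq_one (Nat.Coprime.pow_right n (by norm_num)), Nat.dvd_one] at this
      exact orderOf_eq_one_iff.1 this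
    calc a * f = a * f * a⁻¹ * f⁻¹ * (f * a) := by group
      _ = f * a := by rw [k, one_mul]
  obtain ⟨p, hp⟩ := h.2.1
  rw [a1, one_smul] at hp
  exact ne_add h.1 hp.symm

theorem jobTR : JobTR.{u} := by
  intro ol tr0 W _ _ F A
  induction hn : Nat.card A using Nat.strong_induction_on generalizing A with
  | _ n ih =>
  intro H m hH hi
  subst hn
  by_cases hA : A = ⊥
  · subst hA
    refine ⟨?_, fun K hK => absurd bot_le hK⟩
    rw [card_bot]
    exact Nat.one_le_iff_ne_zero.2 AddSubgroup.index_ne_zero_of_finite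
  obtain ⟨a1, ha1, c1, t⟩ := tr0 W F A H m hA hH hi
  obtain ⟨f, hf, fc⟩ := ex_move m ha1 t
  obtain ⟨p0, hp0⟩ := t.2.1
  obtain ⟨o1, o2⟩ := ol W F a1 ⊤ c1 m.two m.F3 (m.el a1 ha1) (m.nF ha1) (fun _ _ _ _ => trivial)
    trivial t.1 ⟨p0, trivial, hp0⟩ fun p _ => t.2.2 p
  have cA : ∀ a ∈ A, ∀ b ∈ A, a * b = b * a := fun a ha b hb => by
    have h1 : ∀ x ∈ A, x⁻¹ = x := fun x hx => inv_eq_of_mul_eq_one_right (m.el x hx)
    rw [← h1 _ (mul_mem ha hb), mul_inv_rev, h1 a ha, h1 b hb]
  have fx : ∀ a ∈ A, a • c1 = c1 := fun a ha => comm_fix t (cA a1 ha1 a ha)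
  have orb : ∀ a ∈ A, a • f • c1 ∈ MulAction.orbit F c1 := fun a ha =>
    ⟨⟨a * f * a⁻¹, conj_mem_of_mem_normalizer (m.nF ha) hf⟩, by
      change (a * f * a⁻¹) • c1 = _
      rw [mul_smul, mul_smul, fx _ (inv_mem ha)]⟩
  have e1 := o1 f hf fc
  have f0 : f • c1 ≠ 0 := fun e => t.1 (smul_eq_zero_iff_eq f |>.1 e)
  have o3 : (MulAction.orbit F c1).ncard ≤ 3 := by
    rw [← MulAction.index_stabilizer]; exact o2
  have alt : ∀ a ∈ A, a • f • c1 = f • c1 ∨ a • f • c1 = f • c1 + c1 := fun a ha => by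
    by_contra hc
    push Not at hc
    have n1 : a • f • c1 ≠ c1 := fun e => fc (smul_left_cancel a (e.trans (fx a ha).symm))
    have sub : ({a • f • c1, f • c1, f • c1 + c1, c1} : Set W) ⊆ MulAction.orbit F c1 := by
      rintro _ (rfl | rfl | rfl | rfl)
      · exact orb a ha
      · simpa using orb 1 (one_mem _)
      · exact e1 ▸ orb a1 ha1
      · exact MulAction.mem_orbit_self _
    have := Set.ncard_le_ncard sub
    generalize f • c1 = c2 at hc n1 fc f0 this
    generalize a • c2 = c3 at hc n1 this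
    rw [Set.ncard_insert_of_notMem (by simp [hc.1, hc.2, n1]),
      Set.ncard_insert_of_notMem (by simp [t.1, fc]),
      Set.ncard_insert_of_notMem (by simp [f0]), Set.ncard_singleton] at this
    omega
  generalize f • c1 = c2 at e1 alt
  have n1 : a1 ∉ MulAction.stabilizer (Au W) c2 := fun e => ne_add t.1 (e1.symm.trans e)
  have dich : ∀ b ∈ A, b * a1 ∈ MulAction.stabilizer (Au W) c2 ∨
      b ∈ MulAction.stabilizer (Au W) c2 := fun b hb => by
    rcases alt b hb with e | e
    · exact .inr e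
    · refine .inl ?_
      change (b * a1) • c2 = c2
      rw [mul_smul, e1, smul_add, e, fx b hb, add_assoc, m.two, add_zero]
  have i2 : (MulAction.stabilizer (Au W) c2).relIndex A = 2 :=
    relIndex_eq_two_iff_exists_notMem_and.2 ⟨a1, ha1, n1, dich⟩
  have c2' : 2 * Nat.card ↥(MulAction.stabilizer (Au W) c2 ⊓ A) = Nat.card A := by
    have e := ((MulAction.stabilizer (Au W) c2).subgroupOf A).index_mul_card
    have e2 : Nat.card ((MulAction.stabilizer (Au W) c2).subgroupOf A) =
        Nat.card ↥(MulAction.stabilizer (Au W) c2 ⊓ A) := by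
      rw [← inf_subgroupOf_right]
      exact Nat.card_congr (subgroupOfEquivOfLe inf_le_right).toEquiv
    rw [e2] at e
    rw [← i2]; exact e
  have pos : 0 < Nat.card ↥(MulAction.stabilizer (Au W) c2 ⊓ A) := Nat.card_pos
  have hx : 2 * (H ⊔ AddSubgroup.zmultiples c2).index ≤ H.index := by
    rw [← AddSubgroup.relIndex_mul_index (le_sup_left : H ≤ H ⊔ AddSubgroup.zmultiples c2)]
    refine Nat.mul_le_mul_right _ ?_
    have r0 : H.relIndex (H ⊔ AddSubgroup.zmultiples c2) ≠ 0 := AddSubgroup.index_ne_zero_of_finite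
    have r1 : H.relIndex (H ⊔ AddSubgroup.zmultiples c2) ≠ 1 := fun e => n1 (hH a1 ha1 c2
      (AddSubgroup.relIndex_eq_one.1 e (AddSubgroup.mem_sup_right (AddSubgroup.mem_zmultiples c2))))
    omega
  obtain ⟨r1, r2⟩ := ih _ (by omega) (MulAction.stabilizer (Au W) c2 ⊓ A) rfl
    (H ⊔ AddSubgroup.zmultiples c2)
    ⟨m.two, m.F3, fun a ha => m.el a ha.2, inf_le_right.trans m.nF, fun a ha => m.fa a ha.2⟩
    (fun a ha p hp => by
      obtain ⟨y, hy, _, ⟨k, rfl⟩, rfl⟩ := AddSubgroup.mem_sup.1 hp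
      have : a • c2 = c2 := ha.1
      change a (y + k • c2) = _
      rw [map_add, map_zsmul]
      exact congrArg₂ _ (hH a ha.2 y hy) (congrArg _ this))
    (by omega)
  refine ⟨by omega, fun K hK => ?_⟩
  by_cases hk : a1 ∈ K
  · obtain ⟨a, ha, h⟩ := r2 K fun le => hK fun b hb => by
      rcases dich b hb with e | e
      · exact (mul_mem_cancel_right hk).1 (le ⟨e, mul_mem hb ha1⟩)
      · exact le ⟨e, hb⟩
    exact ⟨a, ha.2, h⟩
  · exact ⟨a1, ha1, hk, c1, t⟩

end H13.U2CenTR
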