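/- Chapter U2I of S3275: the symplectic section. -/
import Cfsg.Agent.H96.U2ISpec

set_option autoImplicit false

namespace H13.U2IB5a

open Subgroup Cfsg H98 H48.DP H57.DPC H48.DP2 H96.U2I
open scoped commutatorElement

universe u

variable {G : Type u} [Group G]

theorem yc {Q : Subgroup G} {z g : G} (hz : z ∈ Yq Q) (hg : g ∈ Q) : g * z * g⁻¹ = z := by
  rw [mem_centralizer_iff.1 hz.2.1 g hg]; group

/-- elements which are central modulo `Y` -/
def Z2g (Q : Subgroup G) : Subgroup G where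
  carrier := {a | a ∈ Q ∧ ∀ g ∈ Q, ⁅a, g⁆ ∈ Yq Q}
  one_mem' := ⟨one_mem _, fun g _ => by rw [commutatorElement_one_left]; exact one_mem _⟩
  mul_mem' := fun {a b} ha hb => ⟨mul_mem ha.1 hb.1, fun g hg => by
    have e : ⁅a * b, g⁆ = a * ⁅b, g⁆ * a⁻¹ * ⁅a, g⁆ := by simp only [commutatorElement_def]; group
    rw [e, yc (hb.2 g hg) ha.1]
    exact mul_mem (hb.2 g hg) (ha.2 g hg)⟩
  inv_mem' := fun {a} ha => ⟨inv_mem ha.1, fun g hg => by
    have e : ⁅a⁻¹, g⁆ = a⁻¹ * ⁅a, g⁆⁻¹ * a⁻¹⁻¹ := by simp only [commutatorElement_def]; group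
    rw [e, yc (inv_mem (ha.2 g hg)) (inv_mem ha.1)]
    exact inv_mem (ha.2 g hg)⟩

theorem jobB5a : JobB5a.{u} := by
  intro G _ _ M Q T R y z m c b hy n hz
  set v := y * z * y⁻¹ with hv
  set u := m * v * m⁻¹ with hu
  have zz : z * z = 1 := hz.zY.2.2
  have zi : z⁻¹ = z := inv_eq_of_mul_eq_one_right zz
  have vQ : v ∈ Q := hy.vQ z hz.zY
  have vR : v ∈ R := conj_mem_of_mem_normalizer c.yR (hy.le hz.zY)
  have vC : v ∈ Ce R :=
    conj_mem_of_mem_normalizer (normalizer_le_normalizer_centralizer R c.yR) (hy.cR hz.zY)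
  have P1 : ∀ p ∈ R, Commute p v := fun p hp => mem_centralizer_iff.1 vC p hp
  have P2 : ∀ p ∈ Q, Commute p v → p ∈ R := fun p hp h => by
    by_contra hn
    exact hz.z1 ((hy.cm z hz.zY p hp hn).symm.trans (commutatorElement_eq_one_iff_commute.2 h))
  have vA : v ∈ Z2g Q := ⟨vQ, fun g hg => by
    by_cases h : g ∈ R
    · rw [commutatorElement_eq_one_iff_commute.2 (P1 g h).symm]; exact one_mem _
    · rw [← commutatorElement_inv, hy.cm z hz.zY g hg h]; exact inv_mem hz.zY⟩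
  have AM : ∀ k ∈ M, ∀ a ∈ Z2g Q, k * a * k⁻¹ ∈ Z2g Q := fun k hk a ha =>
    ⟨conj_mem_of_mem_normalizer (c.MQ hk) ha.1, fun g hg => by
      have e : ⁅k * a * k⁻¹, g⁆ = k * ⁅a, k⁻¹ * g * k⁆ * k⁻¹ := by
        simp only [commutatorElement_def]; group
      rw [e]
      exact Yq_conj (c.MQ hk) (ha.2 _ (conj_mem_of_mem_normalizer' (c.MQ hk) hg))⟩
  let U : Subgroup G := closure {a | ∃ k ∈ M, a = k * v * k⁻¹}
  have UA : U ≤ Z2g Q := (closure_le _).2 fun a ⟨k, hk, e⟩ => e ▸ AM k hk v vA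
  have UQ : U ≤ Q := fun a ha => (UA ha).1
  have gU : ∀ k ∈ M, k * v * k⁻¹ ∈ U := fun k hk => subset_closure ⟨k, hk, rfl⟩
  have vU : v ∈ U := by simpa using gU 1 (one_mem _)
  have uU : u ∈ U := gU m hz.mM
  have uQ : u ∈ Q := UQ uU
  have uR : u ∉ R := hz.uR
  have MU : M ≤ No U := fun k hk => mem_normalizer_fintype fun a ha => by
    refine closure_induction (p := fun a _ => k * a * k⁻¹ ∈ U) ?_ ?_ ?_ ?_ ha
    · rintro _ ⟨l, hl, rfl⟩
      have e : k * (l * v * l⁻¹) * k⁻¹ = k * l * v * (k * l)⁻¹ := by group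
      rw [e]; exact gU _ (mul_mem hk hl)
    · simpa using one_mem U
    · intro a b _ _ h1 h2
      have e : k * (a * b) * k⁻¹ = k * a * k⁻¹ * (k * b * k⁻¹) := by group
      rw [e]; exact mul_mem h1 h2
    · intro a _ h1
      have e : k * a⁻¹ * k⁻¹ = (k * a * k⁻¹)⁻¹ := by group
      rw [e]; exact inv_mem h1
  have YC : ∀ a ∈ Yq Q, a ∈ Ce U := fun a ha =>
    mem_centralizer_iff.2 fun g hg => mem_centralizer_iff.1 ha.2.1 g (UQ hg)
  -- commuting with `K ⊓ R` and `u` is enough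
  have ext : ∀ (K : Subgroup G), K ≤ Q → u ∈ K → ∀ d : G, (∀ p ∈ K, p ∈ R → Commute p d) →
      Commute u d → d ∈ Ce K := fun K hK huK d h1 h2 => mem_centralizer_iff.2 fun g hg => by
    by_cases h : g ∈ R
    · exact h1 g hg h
    · have := (h1 _ (mul_mem hg huK) (c.mul g (c.QT (hK hg)) u (c.QT uQ) h uR)).mul_left h2.inv_left
      rw [mul_inv_cancel_right] at this
      exact this
  have cdU : ∀ p ∈ U, p ∈ R → ∀ d ∈ D0 Q R y, Commute p d := fun p hp hr =>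
    hy.cd p ⟨UQ hp, hr⟩ (UA hp).2
  have uv : ⁅u, v⁆ = z := hy.cm z hz.zY u uQ uR
  have D : ∀ d ∈ D0 Q R y, d ∈ Ce U ∨ d * v ∈ Ce U := fun d hd => by
    rcases hz.two _ ((UA uU).2 d hd.1.1) with h | h
    · exact .inl (ext U UQ uU d (fun p hp hr => cdU p hp hr d hd)
        (commutatorElement_eq_one_iff_commute.1 h))
    · refine .inr (ext U UQ uU _ (fun p hp hr => (cdU p hp hr d hd).mul_right (P1 p hr))
        (commutatorElement_eq_one_iff_commute.1 ?_))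
      have e : ⁅u, d * v⁆ = ⁅u, d⁆ * (d * ⁅u, v⁆ * d⁻¹) := by
        simp only [commutatorElement_def]; group
      rw [e, h, uv, yc hz.zY hd.1.1, zz]
  refine ⟨U, c.syl.of_le c.TM le_top, MU, UQ.trans c.QT, hz.z1, zz, fun k hk => ?_,
    fun a ha a' ha' => hz.two _ ((UA ha).2 a' (UQ ha')), vU, uU, fun h => uR (P2 u uQ h),
    fun t ht p hp hpv => ?_, fun r hr hrv => ?_, fun x hx x3 hc => ?_, c.e27⟩
  · rcases hz.two _ (Yq_conj (c.MQ hk) hz.zY) with h | h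
    · exact absurd (by simpa [mul_inv_eq_iff_eq_mul] using h) hz.z1
    · exact mul_inv_eq_iff_eq_mul.1 h
  · have pR := P2 p (UQ hp) hpv
    by_cases h : t ∈ R
    · exact D _ (b.com t h p pR)
    have aR : u⁻¹ * t ∈ R := c.mul _ (inv_mem (c.QT uQ)) t ht (fun e => uR (by simpa using e)) h
    have hd := b.com _ aR p pR
    have e : ⁅t, p⁆ = ⁅u, ⁅u⁻¹ * t, p⁆⁆ * ⁅u⁻¹ * t, p⁆ * ⁅u, p⁆ := by
      simp only [commutatorElement_def]; group
    have y1 := YC _ ((UA uU).2 _ hd.1.1)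
    have y2 := (UA uU).2 p (UQ hp)
    rcases D _ hd with h' | h'
    · exact .inl (e ▸ mul_mem (mul_mem y1 h') (YC _ y2))
    · refine .inr ?_
      rw [e, mul_assoc, ← mem_centralizer_iff.1 y2.2.1 v vQ, ← mul_assoc, mul_assoc _ _ v]
      exact mul_mem (mul_mem y1 h') (YC _ y2)
  · have rR := P2 r (UQ hr) hrv
    have hd := inv_mem (b.sur r ⟨UQ hr, rR⟩ u uQ uR)
    refine ⟨y * r * y⁻¹, c.RT (conj_mem_of_mem_normalizer c.yR rR), ?_⟩
    have e : ⁅y * r * y⁻¹, u⁆ * r = r⁻¹ * ((⁅u, y * r * y⁻¹⁆ * r⁻¹)⁻¹ * r) := by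
      simp only [commutatorElement_def]; group
    rw [← (cdU r hr rR _ hd).eq, inv_mul_cancel_left] at e
    rw [e]
    exact D _ hd
  · have cU : ⁅x, v⁆ ∈ U := mul_mem (gU x hx) (inv_mem vU)
    have cR : ⁅x, v⁆ ∈ R := P2 _ (UQ cU) (mem_centralizer_iff.1 hc v vU).symm
    have cQ : ⁅x, v⁆ ∈ Ce Q := by
      refine ext Q le_rfl uQ _ (fun g hg hr => ?_) (mem_centralizer_iff.1 hc u uU)
      have hd := inv_mem (b.sur g ⟨hg, hr⟩ u uQ uR)
      have h1 : ⁅u, y * g * y⁻¹⁆ ∈ U := by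
        have e : ⁅u, y * g * y⁻¹⁆ = u * (y * g * y⁻¹ * u⁻¹ * (y * g * y⁻¹)⁻¹) := by
          simp only [commutatorElement_def]; group
        rw [e]
        exact mul_mem uU (conj_mem_of_mem_normalizer
          (MU (c.TM (c.RT (conj_mem_of_mem_normalizer c.yR hr)))) (inv_mem uU))
      have h2 : Commute ⁅u, y * g * y⁻¹⁆ ⁅x, v⁆ := mem_centralizer_iff.1 hc _ h1
      have := (cdU _ cU cR _ hd).symm.mul_left h2
      have e : (⁅u, y * g * y⁻¹⁆ * g⁻¹)⁻¹ * ⁅u, y * g * y⁻¹⁆ = g := by group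
      rwa [e] at this
    refine n x hx x3 (inv_mem_iff.1 (mem_normalizer_fintype fun p hp => ?_))
    have pQ : x⁻¹ * p * x⁻¹⁻¹ ∈ Q := conj_mem_of_mem_normalizer (inv_mem (c.MQ hx)) hp.1
    refine ⟨pQ, P2 _ pQ ?_⟩
    have h1 : Commute p (⁅x, v⁆ * v) :=
      Commute.mul_right (mem_centralizer_iff.1 cQ p hp.1) (P1 p hp.2)
    have e : v = x⁻¹ * (⁅x, v⁆ * v) * x⁻¹⁻¹ := by simp only [commutatorElement_def]; group
    rw [e]
    exact h1.conj x⁻¹

end H13.U2IB5a
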