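import Cfsg.Agent.H64.YESpec
import Cfsg.Agent.H9.UfK1

/-! STD-SP endgame (row S3129), slot SZ: `Z` is strongly closed with respect to `C_K(r)`. -/

set_option autoImplicit false
set_option linter.unusedSectionVars false

namespace H13.YESZ

open H64.SG (O2 Syl Cz Cs Ns cjs Is2 Inv2 UF IsO2 fx mem_Cz mem_Cs is2_of_sq isPGroup_iff_is2)
open Subgroup H67.UA H67.SP H64.YE
open H59.SO (Ind CE AutOn)

universe u

/-- Two conjugates of `t` in `D`, the first being `t`, are conjugate in `D` modulo `M`. -/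
theorem fl {G : Type u} [Group G] [Finite G] {M D : Subgroup G} {t k : G} (h : UF M t)
    (ht : t ∈ D) (hk : k * t * k⁻¹ ∈ D) : ∃ n ∈ D, n * k ∈ M := by
  have t2 : Is2 t := is2_of_sq h.inv.1
  obtain ⟨P, hP, tP⟩ := H98.exists_isSyl_le t2.zpowers (zpowers_le.2 ht)
  have PM : P ≤ M := (H9.UF.jobK1 h (IsConj.refl t) h.mem).2 P hP.isPGroup (tP (mem_zpowers t))
  have k2 : Is2 (k * t * k⁻¹) := t2.map (MulAut.conj k).toMonoidHom
  obtain ⟨n, hn, le⟩ := hP.exists_cj_le k2.zpowers (zpowers_le.2 hk)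
  refine ⟨n, hn, h.uf _ (PM ?_)⟩
  have := le ⟨_, mem_zpowers _, rfl⟩
  simpa [mul_assoc] using this

theorem jobSZ : JobSZ.{u} := by
  intro n F _ _ _ _ _ _ G _ _ e t Y _ _ _ ι τ Gd Go U Φ K₀ h r Z Q d z rf x hx g _ gc hu
  have hk := h.ker
  have U2 : ∀ u ∈ U, Is2 u := isPGroup_iff_is2.1 h.syl.2.1
  have ZU : Z ≤ U := d.zq.trans d.qu
  have gr : Φ r * g = g * Φ r := gc _ ⟨r, mem_zpowers r, rfl⟩
  have root : ∀ y u, IsConj r y → Is2 u → g * Φ y * g⁻¹ = Φ u → IsConj r u := by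
    intro y u hy u2 e1
    obtain ⟨w, rfl⟩ := isConj_iff.1 hy
    obtain ⟨m, hm, c, hc, e2⟩ := rf (g * Φ w) ⟨u, by rw [← e1]; simp [mul_assoc]⟩
    obtain ⟨β, hβ⟩ := exists_ind hk hm
    have : m * Φ r * m⁻¹ = Φ u := by
      have e3 : g * Φ (w * r * w⁻¹) * g⁻¹ = g * Φ w * Φ r * (g * Φ w)⁻¹ := by simp [mul_assoc]
      rw [← e1, e3, e2, mul_assoc m c, ← mem_Cz.1 hc]; group
    rw [← (ind_eq_iff hk hβ (is2_of_sq d.inv.1) u2).1 this]
    exact d.ra β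
  obtain ⟨u, uU, eu⟩ := hu
  by_cases x1 : x = 1
  · subst x1; simp
  have ru := root x u (d.rt x hx x1) (U2 u uU) eu.symm
  have cu : u * r = r * u := (d.uz uU r d.rz).symm
  have e4 : g * Φ (x * r) * g⁻¹ = Φ (u * r) := by
    rw [map_mul, map_mul, eu, mul_assoc g, mul_assoc (Φ x), mul_assoc _ g⁻¹,
      show g⁻¹ * Φ r = Φ r * g⁻¹ from (Commute.inv_right gr).eq.symm, mul_assoc g (Φ x)]
  have ur2 : Is2 (u * r) := U2 _ (mul_mem uU (ZU d.rz))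
  have h3 : u * r = 1 ∨ IsConj r (u * r) := by
    by_cases xr : x * r = 1
    · left; exact eq_one2 hk ur2 (by rw [← e4, xr]; simp)
    · right; exact root _ _ (d.rt _ (mul_mem hx d.rz) xr) ur2 e4
  rcases z.zs u ru cu h3 with uZ | ⟨tz, w, w1, w2⟩
  · exact ⟨u, uZ, eu⟩
  have iw : Ind Φ (Φ w * t * (Φ w)⁻¹) (tw τ w) := (H59.SO.ind_conj w).conj h.act
  obtain ⟨m, ⟨m1, m2⟩, mM⟩ := fl (D := Cz (Φ r) ⊓ Cz (Φ x)) (k := g⁻¹ * Φ w) h.uf
    ⟨mem_Cz.2 (h.act.comm d.tr).symm, mem_Cz.2 (h.act.comm (tz x hx)).symm⟩ (by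
      have a1 := iw.comm w1
      have a2 := iw.comm w2
      rw [eu] at a2
      refine ⟨mem_Cz.2 ?_, mem_Cz.2 ?_⟩
      · calc _ = (Φ r * g⁻¹) * (Φ w * t * (Φ w)⁻¹) * g := by group
          _ = g⁻¹ * (Φ r * (Φ w * t * (Φ w)⁻¹)) * g := by
            rw [(Commute.inv_right gr).eq]; group
          _ = g⁻¹ * (Φ w * t * (Φ w)⁻¹) * (Φ r * g) := by rw [← a1]; group
          _ = _ := by rw [gr]; group
      · calc _ = g⁻¹ * (g * Φ x * g⁻¹ * (Φ w * t * (Φ w)⁻¹)) * g := by group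
          _ = _ := by rw [← a2]; group)
  have kM : g * m⁻¹ ∈ Ns Φ.range := by
    have := inv_mem (mul_mem mM (inv_mem (le_normalizer (H := Φ.range) ⟨w, rfl⟩)))
    convert this using 1; group
  obtain ⟨β, hβ⟩ := exists_ind hk kM
  have br : β r = r := (ind_comm_iff hk hβ (is2_of_sq d.inv.1)).1 (by
    rw [mul_assoc, ← (Commute.inv_right (mem_Cz.1 m1)).eq, ← mul_assoc, ← gr, mul_assoc])
  refine ⟨β x, (d.str β br x).1 hx, ?_⟩
  rw [← hβ x, mul_assoc g, ← (Commute.inv_right (mem_Cz.1 m2)).eq]; group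

end H13.YESZ
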