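import Cfsg.Agent.H10.S3Hub
import Cfsg.Agent.H13.SEmb
import Cfsg.Agent.H13.Ctrl3
import Cfsg.Agent.H89.OScott
import Cfsg.Agent.H24.HallNum
import Cfsg.Agent.H96.PMin
import Cfsg.Agent.H99.Idx
import Cfsg.Agent.H99.Sidki

/-! Glauberman: inversion of `3`-elements is detected in `N(ZJ(T))`; `2`-closed groups. -/

set_option autoImplicit false

open Cfsg Subgroup H98
open H10.W (Ab2)
open H16 (Nm Ce)
open scoped commutatorElement

namespace H13

universe u

variable {G : Type u} [Group G] [Finite G]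

theorem ab2_layer (hF : fittingSubgroup G = ⊥) (h : ∀ L : Subgroup G, IsComponent L → Ab2 L) :
    Ab2 (layer G) := by
  refine fun P => ⟨⟨fun x y => Subtype.ext (commutatorElement_eq_one_iff_mul_comm.1
    (Subtype.ext (mem_bot.1 ?_)))⟩⟩
  rw [← bot_inf_eq (layer G), ← hF, ← H14.layer_center_eq]
  refine ⟨(⁅x.1, y.1⁆).2, fun g hg => mem_centralizer_singleton_iff.1 (H14.layer_le (fun L hL l hl => ?_) hg)⟩
  choose f hf using fun x : layer G => H89.exists_pr hL x.2
  let pr : layer G →* L := MonoidHom.mk' (fun x => ⟨f x, (hf x).1⟩) fun a b =>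
    Subtype.ext ((hf _).unique hF hL ((hf a).mul (hf b)))
  have h1 : pr ⁅x.1, y.1⁆ = 1 := by
    rw [map_commutatorElement, commutatorElement_eq_one_iff_mul_comm]
    exact (h L hL).comm (P.2.map pr) ⟨_, x.2, rfl⟩ ⟨_, y.2, rfl⟩
  simpa [show f _ = 1 from congrArg Subtype.val h1, mem_centralizer_singleton_iff] using (hf ⁅x.1, y.1⁆).2 l hl

theorem ab2_of_min (hO : pPrimeCore 2 G = ⊥) (h3 : ¬ Involves S3 G)
    (h : ∀ K T : Subgroup G, K ≠ ⊤ → IsSyl 3 T ⊤ → T ≤ K → ¬ 2 ∣ Nat.card K) : Ab2 G := by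
  have := Fact.mk Nat.prime_two
  have key : ∀ N : Subgroup G, N.Normal → N ≠ ⊥ → Ab2 N → Ab2 G := fun N _ h1 h2 => by
    obtain ⟨T, hT⟩ := exists_isSyl 3 (⊤ : Subgroup G)
    obtain ⟨S, hS⟩ := exists_isSyl 2 N
    have e : T ⊔ N = ⊤ := by_contra fun e => h _ T e hT le_sup_left (by_contra fun e' => h1 (eq_bot_iff.2
      (hO ▸ H2.le_pPrimeCore_of_not_dvd fun e'' => e' (e''.trans (card_dvd_of_le le_sup_right)))))
    obtain ⟨k, hk⟩ := hT.isPGroup.exists_card_eq
    refine H24.ab2_of_sylow (H96.isSyl_of_not_dvd hS le_top fun e' => ?_).toSylowTop ⟨⟨fun a b => Subtype.ext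
      (congrArg Subtype.val (h2.comm (Q := S.subgroupOf N) hS.isPGroup.comap_subtype
        (a := ⟨a, hS.le a.2⟩) (b := ⟨b, hS.le b.2⟩) a.2 b.2) :)⟩⟩
    rw [← e, H99.relIndex_sup_of_le_normalizer (by rw [normalizer_eq_top]; exact le_top)] at e'
    exact absurd (Nat.prime_two.dvd_of_dvd_pow (hk ▸ e'.trans (relIndex_dvd_card _ _))) (by decide)
  by_cases h2 : pCore 2 G = ⊥
  swap
  · exact key (pCore 2 G ⊓ centralizer (pCore 2 G : Set G)) inferInstance
      (inf_centralizer_ne_bot (H2.pCore_isPGroup 2 G) (H2.pCore_isPGroup 2 G) le_normalizer h2)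
      fun P => ⟨⟨fun a b => Subtype.ext (Subtype.ext (b.1.2.2 _ a.1.2.1))⟩⟩
  rcases subsingleton_or_nontrivial G with _ | _
  · exact fun P => ⟨⟨fun a b => Subsingleton.elim _ _⟩⟩
  have hF := eq_bot_iff.2 (hO ▸ H2.fitting_le_pPrimeCore_of_pCore_eq_bot (p := 2) h2)
  have h4 : pPrimeCore 3 G = ⊥ := by
    obtain ⟨S, hS⟩ := exists_isSyl 2 (pPrimeCore 3 G)
    obtain ⟨T, hT⟩ := exists_isSyl 3 (normalizer (S : Set G))
    refine eq_bot_iff.2 (hO ▸ H2.le_pPrimeCore_of_not_dvd (hS.eq_bot_iff.1 (by_contra fun e => ?_)))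
    refine h _ T (fun e' => e (eq_bot_iff.2 (h2 ▸ ?_))) (H96.isSyl_of_not_dvd hT le_top fun e' => ?_) hT.le
      (((hS.isPGroup.card_eq_or_dvd).resolve_left fun e' => e (card_eq_one.1 e')).trans
        (card_dvd_of_le le_normalizer))
    · have := normalizer_eq_top_iff.1 e'
      exact H2.le_pCore hS.isPGroup
    have e1 := hS.frattini le_top (normalizer_eq_top (pPrimeCore 3 G)).ge
    rw [← e1, top_inf_eq, H96.relIndex_sup_of_le_normalizer (le_top.trans (normalizer_eq_top _).ge)] at e'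
    exact H2.not_dvd_card_pPrimeCore 3 G (e'.trans (relIndex_dvd_card _ _))
  refine key _ (H14.layer_normal G) (H89.layer_ne_bot hF) (ab2_layer hF fun L hL => ?_)
  have := H89.comp_simple hF hL
  have hn := H89.comp_not_comm hF hL
  rcases kt_base (H10.S3.simple L this hn fun e => h3 (H94.involves_trans e (H94.involves_subgroup L))) with e | e
  · exact fun P => have := (H24.l2_of_not_eight hn e).2 P; ⟨⟨IsKleinFour.isMulCommutative.1.1⟩⟩
  · refine (hn ?_).elim
    rw [le_bot_iff.1 ((H2.le_pPrimeCore_of_isSubnormal hL.1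
      (Nat.prime_three.coprime_iff_not_dvd.2 (sz_not_three e)).symm).trans h4.le)]
    infer_instance

omit [Finite G] in
theorem eq_one_of_odd' {P : Subgroup G} (hP : IsPGroup 2 P) {x : G} (hx : x ∈ P) (ho : Odd (orderOf x)) :
    x = 1 :=
  have := Fact.mk Nat.prime_two
  mem_bot.1 (mem_of_pow_mem_of_isPGroup hP hx ho.not_two_dvd_nat (mem_bot.2 (pow_orderOf_eq_one x)))

/-- no element of order `3` of `K` is inverted in `K` -/
def F3 (K : Subgroup G) : Prop := ∀ a ∈ K, ∀ x ∈ K, x ^ 3 = 1 → a * x * a⁻¹ = x⁻¹ → x = 1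

theorem f3_iff {K : Subgroup G} : F3 K ↔ ¬ Involves S3 K :=
  ⟨fun h e => let ⟨a, x, h1, h2, h3⟩ := exists_inverts_of_s3 e
    h2 (Subtype.ext (h a a.2 x x.2 (congrArg Subtype.val h1) (congrArg Subtype.val h3))),
   fun h a ha x hx h1 h2 => by_contra fun e => h (s3_of_cube (a := ⟨a, ha⟩) (x := ⟨x, hx⟩)
    (Subtype.ext h1) (fun e' => e (congrArg Subtype.val e')) (Subtype.ext h2))⟩

theorem f3_top : F3 (⊤ : Subgroup G) ↔ ¬ Involves S3 G :=
  f3_iff.trans (H94.involves_congr_right topEquiv).not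

omit [Finite G] in
theorem F3.mono {K L : Subgroup G} (h : F3 K) (hL : L ≤ K) : F3 L :=
  fun a ha x hx => h a (hL ha) x (hL hx)

theorem F3.map {H : Type u} [Group H] [Finite H] {K : Subgroup G} (h : F3 K) (f : G →* H) : F3 (K.map f) :=
  f3_iff.2 fun e => f3_iff.1 h (H94.involves_trans e (H94.involves_map K f))

theorem f3_of_zj (G : Type u) [Group G] [Finite G] :
    ∀ T : Subgroup G, IsSyl 3 T ⊤ → F3 (Nm (zj 0 T)) → ¬ Involves S3 G := by
  refine simple_induction (Pd := fun G _ => ∀ [Finite G] (T : Subgroup G), IsSyl 3 T ⊤ → F3 (Nm (zj 0 T)) →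
    ¬ Involves S3 G) (fun G _ _ ih _ T hT h hG => ?_) G
  have := Fact.mk Nat.prime_two
  obtain ⟨a, x, hx3, hx1, hax⟩ := exists_inverts_of_s3 hG
  have quo : ∀ (N : Subgroup G) [N.Normal], N ≠ ⊥ → F3 (Nm (zj 0 (T.map (QuotientGroup.mk' N)))) →
      ¬ Involves S3 (G ⧸ N) ∧ x ∈ N := fun N _ h1 h2 => by
    have h3 := ih _ (H10.card_quotient_lt N h1) _ (by
      simpa only [map_top_of_surjective _ (QuotientGroup.mk'_surjective N)] using hT.map (QuotientGroup.mk' N)) h2
    exact ⟨h3, (QuotientGroup.eq_one_iff x).1 (f3_top.2 h3 a trivial x trivial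
      (congrArg (QuotientGroup.mk' N) hx3) (congrArg (QuotientGroup.mk' N) hax))⟩
  have hO : pPrimeCore 3 G = ⊥ := by_contra fun e => by
    have hk := H10.coprime_card_ker_mk'_pPrimeCore 3 G
    refine hx1 (orderOf_eq_one_iff.1 (Nat.Coprime.eq_one_of_dvd ?_ (orderOf_dvd_of_pow_eq_one hx3)))
    refine H2.coprime_orderOf_of_mem_pPrimeCore (quo _ e ?_).2
    rw [zj_map (injOn_of_coprime_ker _ hk hT.isPGroup), Nm, ← H10.map_normalizer_of_coprime_ker _
      (QuotientGroup.mk'_surjective _) hk (hT.isPGroup.to_le (zj_le 0 T))]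
    exact h.map _
  have all : ∀ S, IsSyl 3 S ⊤ → F3 (Nm (zj 0 S)) := fun S hS => by
    obtain ⟨g, -, rfl⟩ := hT.exists_cj_eq hS
    rw [zj_map (MulAut.conj g).injective.injOn, Nm, ← cj_normalizer]
    exact h.map _
  have sub : ∀ H S : Subgroup G, H ≠ ⊤ → IsSyl 3 S H → F3 (Nm (zj 0 S)) → F3 H := fun H S h1 h2 h3 =>
    f3_iff.2 (ih H (H10.card_subgroup_lt H h1) _ h2.subgroupOf_top fun b hb y hy h4 h5 => by
      rw [zj_subgroupOf 0 h2.le, Nm, ← subgroupOf_normalizer_eq ((zj_le 0 S).trans h2.le)] at hb hy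
      exact Subtype.ext (h3 b hb y hy (congrArg Subtype.val h4) (congrArg Subtype.val h5)))
  have loc : ∀ U : Subgroup G, IsPGroup 3 U → ¬ U ≤ pCore 3 G → Nm U ≠ ⊤ := fun U hU h1 h2 =>
    have := normalizer_eq_top_iff.1 h2
    h1 (H2.le_pCore hU)
  have hQ : pCore 3 G ≠ ⊥ := fun e => by
    have step : ∀ n (S : Subgroup G), Nat.card G - Nat.card S = n → IsPGroup 3 S → S ≠ ⊥ → F3 (Nm (zj 0 S)) := by
      intro n
      induction n using Nat.strong_induction_on with
      | _ n ih' =>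
      rintro S rfl hS h1
      have h2 := normalizer_le_normalizer_zj 0 S
      obtain ⟨R, hR, hSR⟩ := exists_isSyl_le hS (le_normalizer.trans h2)
      rcases hSR.eq_or_lt with rfl | hlt
      · exact all S (isSyl_of_isSyl_normalizer (hR.of_le (le_inf le_top le_normalizer) (inf_le_right.trans h2)))
      refine sub _ R (loc _ (hS.to_le (zj_le 0 S)) (by rw [e, le_bot_iff]; exact zj_ne_bot (dvd_zero 3) hS h1))
        hR (ih' _ ?_ R rfl hR.isPGroup (ne_bot_of_gt hlt))
      have := card_le_card_group R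
      have := H46.card_lt_of_lt hlt
      omega
    have hx := isPGroup_zpowers (k := 1) (by rwa [pow_one])
    obtain ⟨R, hR, hxR⟩ := exists_isSyl_le hx le_normalizer
    have h1 : zpowers x ≠ ⊥ := by rwa [Ne, zpowers_eq_bot]
    exact hx1 (sub _ R (loc _ hx (by rwa [e, le_bot_iff])) hR (step _ R rfl hR.isPGroup (ne_bot_of_le_ne_bot h1 hxR))
      a (cj_eq_self_iff.1 (by rw [cj_zpowers, hax, zpowers_inv])) x (le_normalizer (mem_zpowers x)) hx3 hax)
  have ovr : ∀ K S : Subgroup G, K ≠ ⊤ → IsSyl 3 S ⊤ → S ≤ K → F3 K := fun K S h1 h2 h3 =>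
    sub K S h1 (h2.of_le h3 le_top) (all S h2)
  have hQT : ∀ {S}, IsSyl 3 S ⊤ → pCore 3 G ≤ S := fun hS => H2.pCore_le_sylow hS.toSylowTop
  obtain ⟨hq, hxQ⟩ := quo _ hQ (by
    set f := QuotientGroup.mk' (pCore 3 G)
    have h1 : (zj 0 (T.map f)).comap f ≤ T := (comap_mono (zj_le 0 _)).trans (by
      rw [comap_map_eq, QuotientGroup.ker_mk']
      exact sup_le le_rfl (hQT hT))
    rw [← map_comap_eq_self_of_surjective (QuotientGroup.mk'_surjective _) (Nm _)]
    refine ((ovr _ T (loc _ (hT.isPGroup.to_le h1) fun e => ?_) hT ((map_le_iff_le_comap.1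
      (le_normalizer.trans (normalizer_le_normalizer_zj 0 _))).trans (comap_Nm_le f _))).mono
      (comap_Nm_le f _)).map f
    have h2 : T = pCore 3 G := le_antisymm (by
      rw [← QuotientGroup.ker_mk' (pCore 3 G), ← Subgroup.map_eq_bot_iff]
      by_contra e'
      refine zj_ne_bot (dvd_zero 3) (hT.isPGroup.map f) e' ?_
      rwa [← map_comap_eq_self_of_surjective (QuotientGroup.mk'_surjective _) (zj 0 _),
        Subgroup.map_eq_bot_iff, QuotientGroup.ker_mk']) (hQT hT)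
    refine f3_top.1 (h.mono (le_trans ?_ (normalizer_le_normalizer_zj 0 T))) hG
    rw [h2, normalizer_eq_top])
  have hc : H10.IsCharP 3 G := isCharP_of_inf_le hT.toSylowTop hO (by_contra fun e => by
    obtain ⟨b, hb, c, hc, rfl⟩ := (hT.inf_of_le_normalizer (N := Ce (pCore 3 G)) le_top
      (by rw [normalizer_eq_top]; exact le_top)).frattini_mem (g := a) (by rw [normalizer_eq_top]; trivial)
    have h1 : T ≤ Nm (T ⊓ Ce (pCore 3 G)) := fun g hg => inf_normalizer_le_normalizer_inf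
      ⟨le_normalizer hg, by rw [normalizer_eq_top]; trivial⟩
    exact hx1 (ovr _ T (loc _ hT.isPGroup.to_inf_left e) hT h1 b hb x (h1 (hQT hT hxQ)) hx3
      (by rw [← hax, mul_assoc b c, ← hc x hxQ]; group)))
  set g := QuotientGroup.mk' (pPrimeCore 2 G)
  have hg : Function.Surjective g := QuotientGroup.mk'_surjective _
  have hX : Ab2 (G ⧸ pPrimeCore 2 G) := by
    refine ab2_of_min (H2.pPrimeCore_quotient_pPrimeCore 2 G) (fun e => hq (H94.involves_trans e
      (H48.involves_of_ker_le (QuotientGroup.mk' _) g hg ?_))) fun K S h1 h2 h3 h4 => ?_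
    · rw [QuotientGroup.ker_mk', QuotientGroup.ker_mk']
      exact H2.pCore_le_pPrimeCore_of_ne (by decide)
    obtain ⟨_, -, rfl⟩ := IsSyl.exists_cj_eq (by simpa only [map_top_of_surjective _ hg] using hT.map g) h2
    obtain ⟨y, rfl⟩ := hg ‹_›
    rw [← map_cj, map_le_iff_le_comap] at h3
    have h5 := hT.cj_of_mem (mem_top y)
    have h6 := f3_iff.1 (ovr _ _ (fun e => h1 (comap_injective hg (e.trans (comap_top g).symm))) h5 h3)
    rw [← map_comap_eq_self_of_surjective hg K] at h4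
    obtain ⟨t, ht⟩ := exists_prime_orderOf_dvd_card' 2 (h4.trans (card_map_dvd _ g))
    have h7 := mem_cent_of_s3free h6 (x := t) (k := 1) (orderOf_dvd_iff_pow_eq_one.1 ht.dvd)
      (P := (pCore 3 G).subgroupOf _) (H2.pCore_isPGroup 3 G).comap_subtype (by rw [normalizer_eq_top]; trivial)
    obtain ⟨k, hk⟩ := isPGroup_iff_forall.1 (H2.pCore_isPGroup 3 G) t (hc fun q hq =>
      congrArg Subtype.val (h7 ⟨q, h3 (hQT h5 hq)⟩ hq))
    have h8 := orderOf_dvd_of_pow_eq_one hk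
    rw [orderOf_coe, ht] at h8
    exact absurd (Nat.prime_two.dvd_of_dvd_pow h8) (by decide)
  obtain ⟨m, hm, h1⟩ := (ctrl_zjD_of_not_involves_qd (by decide) (dvd_zero 3)
    (H11.not_involves_qd_of_comm_sylow (by decide) default ⟨⟨fun b c => Subtype.ext
      (commutatorElement_eq_one_iff_mul_comm.1 (mem_bot.1 ((H2.disjoint_pPrimeCore_of_isPGroup
        (default : Sylow 2 G).2).le_bot ⟨(⁅b, c⁆).2, (QuotientGroup.eq_one_iff _).1
          ((map_commutatorElement g _ _).trans (commutatorElement_eq_one_iff_mul_comm.2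
            (hX.comm ((default : Sylow 2 G).2.map g) ⟨_, b.2, rfl⟩ ⟨_, c.2, rfl⟩)))⟩)))⟩⟩)
    hT.toSylowTop (sc_self _)).exists_mem_one (hQT hT hxQ) (g := a) (hax ▸ inv_mem (hQT hT hxQ))
  refine hx1 (h m hm x (normalizer_le_normalizer_zj 0 T (le_normalizer (hQT hT hxQ))) hx3 ?_)
  rw [← hax, ← mul_inv_cancel_left m a, mul_assoc m _ x, mem_centralizer_singleton_iff.1 h1]
  group

theorem s3free_of_zj (T : Sylow 3 G) (h : ∀ x ∈ (T : Subgroup G), x ≠ 1 →
    ∀ g ∈ normalizer (centerThompsonAOf (T : Subgroup G) : Set G), g * x * g⁻¹ ≠ x⁻¹) : ¬ Involves S3 G := by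
  rw [centerThompsonAOf_eq] at h
  refine f3_of_zj G T (isSyl_sylow T) fun a ha x hx h3 h1 => by_contra fun e => ?_
  obtain ⟨g, hg, h2⟩ := (isSyl_sylow_of_le T (le_normalizer.trans (normalizer_le_normalizer_zj 0 _))).exists_cj_le
    (isPGroup_zpowers (k := 1) (by rwa [pow_one])) (zpowers_le.2 hx)
  exact h _ (h2 (conj_mem_cj (mem_zpowers x))) (by simpa using e) (g * a * g⁻¹)
    (mul_mem (mul_mem hg ha) (inv_mem hg)) (by rw [conj_inv (a := x), ← h1]; group)

theorem two_closed_of_no_inv (h : ∀ (q : ℕ) (g x : G), q.Prime → q ≠ 2 → x ^ q = 1 → g * x * g⁻¹ = x⁻¹ → x = 1)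
    (P : Sylow 2 G) : (P : Subgroup G).Normal := by
  have := Fact.mk Nat.prime_two
  set f := QuotientGroup.mk' (pCore 2 G)
  have hf : Function.Surjective f := QuotientGroup.mk'_surjective _
  have h2 : ¬ 2 ∣ Nat.card (G ⧸ pCore 2 G) := fun e => by
    obtain ⟨t, ht⟩ := exists_prime_orderOf_dvd_card' 2 e
    obtain ⟨y, y1, yo, hy⟩ := H99.exists_inverted_of_not_mem (t := t) ((sq t).symm.trans (orderOf_dvd_iff_pow_eq_one.1 ht.dvd))
      (by rw [H2.pCore_quotient_pCore, mem_bot]; rintro rfl; simp at ht)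
    obtain ⟨q, hq, hd⟩ := Nat.exists_prime_and_dvd (mt orderOf_eq_one_iff.1 y1)
    have := Fact.mk hq
    have hq2 : q ≠ 2 := fun e => yo.not_two_dvd_nat (e ▸ hd)
    have ho := orderOf_pow_orderOf_div (orderOf_pos y).ne' hd
    have hi : t * y ^ (orderOf y / q) * t⁻¹ = (y ^ (orderOf y / q))⁻¹ := by rw [← conj_pow, hy, inv_pow]
    generalize y ^ (orderOf y / q) = w at ho hi
    obtain ⟨R, hR⟩ := exists_isSyl q ((zpowers w).comap f)
    obtain ⟨g, rfl⟩ := hf t
    obtain ⟨a, ha, n, ⟨k, hk⟩, rfl⟩ := hR.frattini_mem (g := g)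
      (comap_Nm_le f _ (cj_eq_self_iff.1 (by rw [cj_zpowers, hi, zpowers_inv])))
    have h3 := hR.map f
    rw [map_comap_eq_self_of_surjective hf] at h3
    obtain ⟨x, hx, rfl⟩ := (h3.eq_of_isPGroup (isPGroup_zpowers (k := 1)
      (by rw [pow_one, ← ho, pow_orderOf_eq_one]))).ge (mem_zpowers w)
    have key : ∀ r ∈ R, f r = 1 → r = 1 := fun r hr e => mem_bot.1 ((IsPGroup.disjoint_of_ne q 2 hq2 _ _
      hR.isPGroup (H2.pCore_isPGroup 2 G)).le_bot ⟨hr, (QuotientGroup.eq_one_iff r).1 e⟩)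
    rw [h q a x hq hq2 (key _ (pow_mem hx q) (by rw [map_pow, ← ho, pow_orderOf_eq_one]))
      (eq_inv_of_mul_eq_one_left (key _ (mul_mem ((mem_normalizer_iff.1 ha x).1 hx) hx) ?_)), map_one,
      orderOf_one] at ho
    · exact hq.one_lt.ne ho
    simp only [map_mul, map_inv, ← hk] at hi ⊢
    rw [← eq_inv_iff_mul_eq_one, ← hi]
    group
  rw [show (P : Subgroup G) = pCore 2 G from ((isSyl_of_not_dvd_relIndex le_top (H2.pCore_isPGroup 2 G)
    (by rwa [relIndex_top_right])).eq_of_le P.2 (H2.pCore_le_sylow P) le_top)]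
  infer_instance

theorem two_closed_of_zj (h : ∀ (q : ℕ) [Fact q.Prime], q ≠ 2 → ∀ T : Sylow q G, ∀ x ∈ (T : Subgroup G), x ≠ 1 →
    ∀ g ∈ normalizer (centerThompsonAOf (T : Subgroup G) : Set G), g * x * g⁻¹ ≠ x⁻¹) (P : Sylow 2 G) :
    (P : Subgroup G).Normal := by
  have h3 := s3free_of_zj default (h 3 (by decide) default)
  refine two_closed_of_no_inv (fun q g x hq hq2 hx hi => by_contra fun e => ?_) P
  have := Fact.mk hq
  obtain ⟨T, hT⟩ := (isPGroup_zpowers (k := 1) (by rwa [pow_one])).exists_le_sylow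
  have hxT := hT (mem_zpowers x)
  obtain ⟨m, hm, h1⟩ := (ctrl_zjD_of_not_involves_qd hq2 (dvd_zero q) (fun e => h3 (H94.involves_trans qd_s3 e))
    T (sc_self _)).exists_mem_one hxT (g := g) (hi ▸ inv_mem hxT)
  refine h q hq2 T x hxT e m (by rwa [centerThompsonAOf_eq]) ?_
  rw [← hi, ← mul_inv_cancel_left m g, mul_assoc m _ x, mem_centralizer_singleton_iff.1 h1]
  group

theorem eq_one_of_inv_of_two_closed (h : ∀ P : Sylow 2 G, (P : Subgroup G).Normal) {x g : G}
    (ho : Odd (orderOf x)) (hi : g * x * g⁻¹ = x⁻¹) : x = 1 := by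
  have := Fact.mk Nat.prime_two
  let P : Sylow 2 G := default
  have := h P
  have h1 : Odd P.index := Nat.odd_iff.2 (Nat.two_dvd_ne_zero.1 P.not_dvd_index)
  have h2 : ∀ n, g ^ (2 * n + 1) * x * (g ^ (2 * n + 1))⁻¹ = x⁻¹ := fun n => by
    have : Commute (g ^ 2) x := mul_inv_eq_iff_eq_mul.1 (by
      rw [sq, mul_inv_rev, mul_assoc g g, ← mul_assoc, mul_assoc g, hi, ← conj_inv, hi, inv_inv])
    rw [← hi, pow_succ', pow_mul, mul_assoc g, (this.pow_left n).eq]
    group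
  obtain ⟨n, hn⟩ := h1
  have h3 := (P : Subgroup G).pow_index_mem g
  have h4 := mul_mem h3 (this.conj_mem _ (inv_mem h3) x)
  rw [← mul_assoc, ← mul_assoc, hn, h2, ← mul_inv_rev, inv_mem_iff, ← sq] at h4
  exact eq_one_of_odd' P.2 (mem_of_pow_mem_of_coprime (p := 2) (k := 1) (Nat.coprime_two_right.2 ho) h4) ho

end H13
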